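
import Mathlib
import Mathlib.RingTheory.Nilpotent.Defs
import Mathlib.RingTheory.Flat.EquationalCriterion

/-!
Finiteness of algebras lifts along nilpotent ideals.
-/

universe u

noncomputable section

namespace GrothLib.Neutral

/-- Nakayama for a nilpotent ideal. -/
theorem le_of_le_sup_smul {R M : Type u} [CommRing R] [AddCommGroup M] [Module R M] {I : Ideal R}
    (hI : IsNilpotent I) {N₀ N : Submodule R M} (h : N ≤ N₀ ⊔ I • N) : N ≤ N₀ := by
  have hk : ∀ k : ℕ, N ≤ N₀ ⊔ (I ^ k) • N := fun k => by
    induction k with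
    | zero => simp
    | succ k ih =>
      refine ih.trans (sup_le le_sup_left ?_)
      calc (I ^ k) • N ≤ (I ^ k) • (N₀ ⊔ I • N) := Submodule.smul_mono le_rfl h
        _ = (I ^ k) • N₀ ⊔ (I ^ k) • (I • N) := Submodule.smul_sup _ _ _
        _ ≤ N₀ ⊔ (I ^ (k + 1)) • N := by
          refine sup_le_sup Submodule.smul_le_right ?_
          rw [← Submodule.smul_assoc, smul_eq_mul, pow_succ]
  obtain ⟨k, hk'⟩ := hI
  have := hk k
  rwa [hk', Ideal.zero_eq_bot, Submodule.bot_smul, sup_bot_eq] at this

variable {B C : Type u} [CommRing B] [CommRing C] [Algebra B C] {I : Ideal B}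

/-- A map which is surjective modulo a nilpotent ideal of the source is surjective. -/
theorem surjective_of_nilpotent {P : Type u} [CommRing P] [Algebra B P] (φ : P →ₐ[B] C) (hI : IsNilpotent I)
    (h : ∀ c : C, ∃ p, c - φ p ∈ I.map (algebraMap B C)) : Function.Surjective φ := by
  have h1 : (⊤ : Submodule B C) ≤ LinearMap.range φ.toLinearMap := le_of_le_sup_smul hI (by
    intro c _
    obtain ⟨p, hp⟩ := h c
    rw [Ideal.smul_top_eq_map]
    exact Submodule.mem_sup.mpr ⟨φ p, ⟨p, rfl⟩, c - φ p, hp, add_sub_cancel _ _⟩)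
  exact fun c => h1 (Submodule.mem_top (x := c))

theorem finiteType_of_nilpotent (hI : IsNilpotent I) (h : Algebra.FiniteType B (C ⧸ I.map (algebraMap B C))) :
    Algebra.FiniteType B C := by
  obtain ⟨n, f, hf⟩ := Algebra.FiniteType.iff_quotient_mvPolynomial''.mp h
  choose c hc using fun i => Ideal.Quotient.mk_surjective (f (MvPolynomial.X i))
  let φ : MvPolynomial (Fin n) B →ₐ[B] C := MvPolynomial.aeval c
  have hφ : (Ideal.Quotient.mkₐ B _).comp φ = f := MvPolynomial.algHom_ext fun i => by
    simpa [φ] using hc i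
  refine Algebra.FiniteType.iff_quotient_mvPolynomial''.mpr ⟨n, φ, surjective_of_nilpotent φ hI fun x => ?_⟩
  obtain ⟨p, hp⟩ := hf (Ideal.Quotient.mk _ x)
  refine ⟨p, Ideal.Quotient.eq.mp ?_⟩
  rw [← hp, ← hφ]
  rfl

/-- Finite presentation lifts along a nilpotent ideal of the base for a flat algebra. -/
theorem finitePresentation_of_nilpotent {A : Type u} [CommRing A] [Algebra A B] [Algebra A C]
    [IsScalarTower A B C] {n : Ideal A} (hn : IsNilpotent n) [Module.Flat A C]
    (h : Algebra.FinitePresentation (B ⧸ n.map (algebraMap A B))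
      (C ⧸ (n.map (algebraMap A B)).map (algebraMap B C))) :
    Algebra.FinitePresentation B C := by
  classical
  have hI : IsNilpotent (n.map (algebraMap A B)) := by
    obtain ⟨k, hk⟩ := hn
    exact ⟨k, by rw [← Ideal.map_pow, hk, Ideal.zero_eq_bot, Ideal.map_bot]; rfl⟩
  haveI := h
  haveI : Algebra.FiniteType B C := finiteType_of_nilpotent hI (Algebra.FiniteType.trans (R := B)
    (S := B ⧸ n.map (algebraMap A B)) (A := C ⧸ (n.map (algebraMap A B)).map (algebraMap B C))
    inferInstance inferInstance)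
  obtain ⟨m, φ, hφ⟩ := Algebra.FiniteType.iff_quotient_mvPolynomial''.mp ‹Algebra.FiniteType B C›
  let P := MvPolynomial (Fin m) B
  let J : Ideal C := (n.map (algebraMap A B)).map (algebraMap B C)
  let ψ : P →ₐ[B] C ⧸ J := (Ideal.Quotient.mkₐ B J).comp φ
  let π : P →+* MvPolynomial (Fin m) (B ⧸ n.map (algebraMap A B)) := MvPolynomial.map (Ideal.Quotient.mk _)
  have hπ : Function.Surjective π := MvPolynomial.map_surjective _ Ideal.Quotient.mk_surjective
  let ψ' : MvPolynomial (Fin m) (B ⧸ n.map (algebraMap A B)) →ₐ[B ⧸ n.map (algebraMap A B)] C ⧸ J :=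
    MvPolynomial.aeval fun i => ψ (MvPolynomial.X i)
  have hψπ : ψ'.toRingHom.comp π = ψ.toRingHom := by
    refine MvPolynomial.ringHom_ext (fun b => ?_) fun i => ?_
    · simp only [RingHom.comp_apply, π, ψ', AlgHom.toRingHom_eq_coe, RingHom.coe_coe, MvPolynomial.map_C, MvPolynomial.aeval_C]
      exact (ψ.commutes b).symm
    · simp [π, ψ']
  have hψ : Function.Surjective ψ' := fun z => by
    obtain ⟨x, hx⟩ := (Ideal.Quotient.mk_surjective.comp hφ) z
    exact ⟨π x, (RingHom.congr_fun hψπ x).trans hx⟩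
  have hker := Algebra.FinitePresentation.ker_fG_of_surjective ψ' hψ
  let K : Ideal P := RingHom.ker φ.toRingHom
  let nP : Ideal P := n.map (algebraMap A P)
  have hJ : n.map (algebraMap A C) = J := by
    rw [IsScalarTower.algebraMap_eq A B C, ← Ideal.map_map]
  have hnJ : nP.map φ.toRingHom = J := by
    rw [Ideal.map_map, ← hJ]
    congr 1
    exact (φ.restrictScalars A).comp_algebraMap
  -- `K ⊓ nP` is `n K` by flatness
  have hflat : K ⊓ nP ≤ nP * K := by
    intro x hx
    have hx2 : x ∈ Submodule.span P (Set.range fun a : n => algebraMap A P a) := by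
      have := hx.2
      rw [show nP = Ideal.span (Set.range fun a : n => algebraMap A P a) by
        simp only [nP, Ideal.map]; exact congrArg Ideal.span (Set.image_eq_range _ _)] at this
      exact this
    obtain ⟨c, rfl⟩ := Finsupp.mem_span_range_iff_exists_finsupp.mp hx2
    rw [Finsupp.sum] at hx ⊢
    let s := c.support
    have hrel : ∑ i : s, (i.1 : A) • φ (c i.1) = 0 := by
      have h0 : φ (∑ a ∈ s, c a • algebraMap A P a) = 0 := hx.1
      rw [map_sum] at h0
      rw [Finset.sum_coe_sort s fun i => (i : A) • φ (c i)]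
      refine Eq.trans (Finset.sum_congr rfl fun a _ => ?_) h0
      rw [smul_eq_mul, map_mul, Algebra.smul_def, mul_comm]
      congr 1
      exact ((φ.restrictScalars A).commutes _).symm
    obtain ⟨k, e, y, hy, he⟩ := Module.Flat.isTrivialRelation_of_sum_smul_eq_zero (R := A) (M := C) hrel
    choose q hq using fun j => hφ (y j)
    have hsum : ∑ a ∈ s, c a • algebraMap A P a =
        ∑ i : s, algebraMap A P i.1 * (c i.1 - ∑ j, algebraMap A P (e i j) * q j) := by
      have h0 : ∑ i : s, algebraMap A P i.1 * ∑ j, algebraMap A P (e i j) * q j = 0 := by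
        refine Eq.trans (Finset.sum_congr rfl fun i _ => Finset.mul_sum _ _ _) ?_
        rw [Finset.sum_comm]
        refine Finset.sum_eq_zero fun j _ => ?_
        refine Eq.trans (Finset.sum_congr rfl fun i _ => (mul_assoc _ _ _).symm) ?_
        rw [← Finset.sum_mul]
        simp only [← map_mul]
        rw [← map_sum]
        exact (congrArg (fun z => algebraMap A P z * q j) (he j)).trans (by rw [map_zero, zero_mul])
      refine Eq.symm ?_
      calc _ = ∑ i : s, algebraMap A P i.1 * c i.1 -
              ∑ i : s, algebraMap A P i.1 * ∑ j, algebraMap A P (e i j) * q j := by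
            rw [← Finset.sum_sub_distrib]
            exact Finset.sum_congr rfl fun i _ => mul_sub _ _ _
        _ = _ := by
            rw [h0, sub_zero, Finset.sum_coe_sort s fun a => algebraMap A P a * c a]
            exact Finset.sum_congr rfl fun a _ => mul_comm _ _
    rw [hsum]
    refine Submodule.sum_mem _ fun i _ => Ideal.mul_mem_mul (Ideal.mem_map_of_mem _ i.1.2) ?_
    change φ _ = 0
    rw [map_sub, map_sum, sub_eq_zero]
    refine (hy i).trans ?_
    refine Finset.sum_congr rfl fun j _ => ?_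
    rw [map_mul, hq, Algebra.smul_def]
    congr 1
    exact ((φ.restrictScalars A).commutes _).symm
  obtain ⟨T₁, hT₁⟩ := hker
  let T : Finset P := T₁.image (Function.surjInv hπ)
  have hTπ : Ideal.span (T : Set P) ⊔ nP = RingHom.ker ψ.toRingHom := by
    have h1 : (Ideal.span (T : Set P)).map π = RingHom.ker ψ'.toRingHom := by
      rw [Ideal.map_span, Finset.coe_image, Set.image_image, ← hT₁]
      simp only [Function.surjInv_eq hπ, Set.image_id']
    have h2 : RingHom.ker π = nP := by
      rw [MvPolynomial.ker_map, Ideal.mk_ker, Ideal.map_map]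
      rfl
    rw [← h2, RingHom.ker_eq_comap_bot π, ← Ideal.comap_map_of_surjective π hπ, h1, RingHom.comap_ker, hψπ]
  -- correct the generators into the kernel
  have hTfix : ∀ t ∈ T, ∃ t' ∈ K, t - t' ∈ nP := by
    intro t ht
    have h1 : φ t ∈ J := Ideal.Quotient.eq_zero_iff_mem.mp
      (hTπ.le (Ideal.mem_sup_left (Submodule.subset_span ht)))
    rw [← hnJ] at h1
    obtain ⟨w, hw, hwt⟩ := Ideal.mem_image_of_mem_map_of_surjective φ.toRingHom hφ h1
    refine ⟨t - w, ?_, by rwa [sub_sub_cancel]⟩
    change φ (t - w) = 0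
    rw [map_sub, show φ w = φ t from hwt, sub_self]
  choose! fx hfx1 hfx2 using hTfix
  let K₀ : Ideal P := Ideal.span (fx '' T)
  have hK₀ : K₀ ≤ K := Ideal.span_le.mpr (by rintro _ ⟨t, ht, rfl⟩; exact hfx1 t ht)
  have hle : K ≤ K₀ := by
    have hnP : IsNilpotent nP := by
      obtain ⟨k, hk⟩ := hn
      exact ⟨k, by rw [← Ideal.map_pow, hk, Ideal.zero_eq_bot, Ideal.map_bot]; rfl⟩
    refine le_of_le_sup_smul hnP fun x hx => ?_
    have h1 : x ∈ K₀ ⊔ nP := by
      have h2 : Ideal.span (T : Set P) ≤ K₀ ⊔ nP := Ideal.span_le.mpr fun t ht => by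
        rw [← add_sub_cancel (fx t) t]
        exact add_mem (Ideal.mem_sup_left (Ideal.subset_span ⟨t, ht, rfl⟩)) (Ideal.mem_sup_right (hfx2 t ht))
      refine (sup_le h2 le_sup_right) (hTπ.ge ?_)
      change Ideal.Quotient.mk J (φ x) = 0
      rw [show φ x = 0 from hx, map_zero]
    obtain ⟨a, ha, b, hb, rfl⟩ := Submodule.mem_sup.mp h1
    refine add_mem (Submodule.mem_sup_left ha) (Submodule.mem_sup_right ?_)
    rw [smul_eq_mul]
    exact hflat ⟨by simpa using sub_mem hx (hK₀ ha), hb⟩
  exact Algebra.FinitePresentation.of_surjective hφ ⟨T.image fx, by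
    rw [Finset.coe_image]; exact le_antisymm hK₀ hle⟩

end GrothLib.Neutral
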