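import Groth.Agent.Lib.Neutral.Pairs

/-!
An open subgroup contains the neutral components of the fibres and has the same neutral components.
-/

universe u

open CategoryTheory CategoryTheory.Limits MonoidalCategory CartesianMonoidalCategory MonObj GrpObj
open AlgebraicGeometry Topology

set_option backward.isDefEq.respectTransparency false

namespace GrothLib.Neutral

open GrothLib.SepAct

variable {S : Scheme.{u}} (G H : Over S) [GrpObj G] [GrpObj H] (i : H ⟶ G) [IsMonHom i]

theorem map_unit (s : S) : i.left (η[H].left s) = η[G].left s := by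
  exact left_apply (IsMonHom.one_hom (f := i)) s

/-- A homomorphism maps the neutral components into the neutral components. -/
theorem image_neutralSet_subset : i.left '' SGA3x.neutralSet H ⊆ SGA3x.neutralSet G := by
  rintro _ ⟨h, hh, rfl⟩
  have hs : G.hom (i.left h) = H.hom h := by rw [← Scheme.Hom.comp_apply, Over.w i]
  rw [mem_neutralSet_iff, hs]
  rw [mem_neutralSet_iff] at hh
  refine (_root_.IsPreconnected.subset_connectedComponentIn
    (isPreconnected_connectedComponentIn.image _ i.left.continuous.continuousOn)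
    ⟨_, mem_connectedComponentIn (hom_unit H _), map_unit G H i _⟩ ?_) ⟨h, hh, rfl⟩
  rintro _ ⟨v, hv, rfl⟩
  have := connectedComponentIn_subset (H.hom ⁻¹' {H.hom h}) _ hv
  rw [Set.mem_preimage, ← Scheme.Hom.comp_apply, Over.w i]
  exact this

theorem neutralSet_subset_range [IsOpenImmersion i.left]
    (hG : ∀ s : S, LocallyOfFiniteType (G.hom.fiberToSpecResidueField s)) :
    SGA3x.neutralSet G ⊆ Set.range i.left := by
  intro g hg
  obtain ⟨q, h₁, h₂, rfl⟩ := exists_pair G g hg (hG _) i.left.opensRange
    ⟨η[H].left (G.hom g), map_unit G H i _⟩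
  let J : (H ⊗ H).left ⟶ (G ⊗ G).left := pullback.map H.hom H.hom G.hom G.hom i.left i.left (𝟙 _)
    (by simp) (by simp)
  have hJ : Set.range J = _ := Scheme.Pullback.range_map H.hom H.hom G.hom G.hom i.left i.left (𝟙 _)
    (by simp) (by simp)
  obtain ⟨v, rfl⟩ : q ∈ Set.range J := by rw [hJ]; exact ⟨h₁, h₂⟩
  refine ⟨μ[H].left v, ?_⟩
  have hJ' : J = (i ⊗ₘ i).left := by
    apply pullback.hom_ext
    · rw [pullback.lift_fst]
      change (fst H H).left ≫ i.left = (i ⊗ₘ i).left ≫ (fst G G).left
      rw [← Over.comp_left, ← Over.comp_left, tensorHom_fst]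
    · rw [pullback.lift_snd]
      change (snd H H).left ≫ i.left = (i ⊗ₘ i).left ≫ (snd G G).left
      rw [← Over.comp_left, ← Over.comp_left, tensorHom_snd]
  rw [hJ']
  exact left_apply₂ (IsMonHom.mul_hom (f := i)) v

theorem image_neutralSet_eq_of_subset [IsOpenImmersion i.left]
    (hsub : SGA3x.neutralSet G ⊆ Set.range i.left) :
    i.left '' SGA3x.neutralSet H = SGA3x.neutralSet G := by
  refine Set.Subset.antisymm (image_neutralSet_subset G H i) fun g hg => ?_
  obtain ⟨h, rfl⟩ := hsub hg
  refine ⟨h, ?_, rfl⟩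
  have hs : G.hom (i.left h) = H.hom h := by rw [← Scheme.Hom.comp_apply, Over.w i]
  have hC : SGA3x.neutralSet G ∩ G.hom ⁻¹' {H.hom h} ⊆ Set.range i.left :=
    Set.inter_subset_left.trans hsub
  rw [neutralSet_inter_fibre] at hC
  rw [mem_neutralSet_iff, hs] at hg
  rw [mem_neutralSet_iff]
  have hpre : _root_.IsPreconnected (i.left ⁻¹' connectedComponentIn (G.hom ⁻¹' {H.hom h}) (η[G].left (H.hom h))) := by
    rw [← i.left.isEmbedding.isInducing.isPreconnected_image, Set.image_preimage_eq_of_subset hC]
    exact isPreconnected_connectedComponentIn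
  refine hpre.subset_connectedComponentIn ?_ ?_ hg
  · rw [Set.mem_preimage, map_unit G H i]
    exact mem_connectedComponentIn (hom_unit G _)
  · intro v hv
    have := connectedComponentIn_subset (G.hom ⁻¹' {H.hom h}) _ hv
    rw [Set.mem_preimage, ← Scheme.Hom.comp_apply, Over.w i] at this
    exact this

theorem image_neutralSet_eq [IsOpenImmersion i.left]
    (hG : ∀ s : S, LocallyOfFiniteType (G.hom.fiberToSpecResidueField s)) :
    i.left '' SGA3x.neutralSet H = SGA3x.neutralSet G :=
  image_neutralSet_eq_of_subset G H i (neutralSet_subset_range G H i hG)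

theorem inv_mem_neutralSet {g : G.left} (hg : g ∈ SGA3x.neutralSet G) :
    ι[G].left g ∈ SGA3x.neutralSet G := by
  have hs : ∀ v, G.hom (ι[G].left v) = G.hom v := fun v => by
    rw [← Scheme.Hom.comp_apply, Over.w ι[G]]
  have he : ∀ s, ι[G].left (η[G].left s) = η[G].left s := fun s =>
    left_apply (show η[G] ≫ ι[G] = η[G] by rw [MonObj.one_eq_one, ← Hom.inv_def, inv_one]) s
  rw [mem_neutralSet_iff] at hg
  rw [mem_neutralSet_iff, hs]
  refine (_root_.IsPreconnected.subset_connectedComponentIn
    (isPreconnected_connectedComponentIn.image _ ι[G].left.continuous.continuousOn)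
    ⟨_, mem_connectedComponentIn (hom_unit G _), he _⟩ ?_) ⟨g, hg, rfl⟩
  rintro _ ⟨v, hv, rfl⟩
  rw [Set.mem_preimage, hs]
  exact connectedComponentIn_subset (G.hom ⁻¹' {G.hom g}) _ hv

end GrothLib.Neutral
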