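import Groth.Agent.Lib.Neutral.Constructible
import Groth.Agent.Lib.Neutral.OpenSubgroup
import Groth.Agent.Lib.GrpSchField.GrpDim
import Mathlib.AlgebraicGeometry.Morphisms.Integral

/-!
Group schemes locally of finite type over a local artinian ring: components, their quasi-compactness
and normality of the neutral component.
-/

universe u

open CategoryTheory CategoryTheory.Limits MonoidalCategory CartesianMonoidalCategory MonObj GrpObj
open AlgebraicGeometry Topology

set_option backward.isDefEq.respectTransparency false

noncomputable section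

namespace GrothLib.Neutral

open GrothLib.SepAct

section Geom

variable {S : Scheme.{u}} {G : Over S} [GrpObj G] {K : Type u} [Field K]
  (b : Spec (CommRingCat.of K) ⟶ S) [LocallyOfFiniteType (pullback.snd G.hom b)]

omit [LocallyOfFiniteType (pullback.snd G.hom b)] in
/-- A translation as a homeomorphism. -/
theorem image_component [LocallyOfFiniteType (pullback.snd G.hom b)] (e : G ⊗ Over.mk b ≅ G ⊗ Over.mk b)
    (w : ↥(G ⊗ Over.mk b).left) :
    e.hom.left '' irreducibleComponent w = irreducibleComponent (e.hom.left w) := by
  have hinv : ∀ v, e.inv.left (e.hom.left v) = v := fun v => by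
    rw [← Scheme.Hom.comp_apply, ← Over.comp_left, Iso.hom_inv_id]; rfl
  have hinv' : ∀ v, e.hom.left (e.inv.left v) = v := fun v => by
    rw [← Scheme.Hom.comp_apply, ← Over.comp_left, Iso.inv_hom_id]; rfl
  refine Set.Subset.antisymm (subset_component b
    (isIrreducible_irreducibleComponent.image _ e.hom.left.continuous.continuousOn)
    ⟨w, mem_irreducibleComponent, rfl⟩) fun v hv => ?_
  refine ⟨e.inv.left v, ?_, hinv' v⟩
  exact subset_component b (isIrreducible_irreducibleComponent.image _ e.inv.left.continuous.continuousOn)
    ⟨_, mem_irreducibleComponent, hinv w⟩ ⟨v, hv, rfl⟩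

end Geom

/-- The neutral components are stable under conjugation. -/
theorem conj_mem_neutralSet {S : Scheme.{u}} (G : Over S) [GrpObj G]
    (hG : ∀ s : S, LocallyOfFiniteType (G.hom.fiberToSpecResidueField s)) {T : Over S} (g n : T ⟶ G) (t : T.left)
    (hn : n.left t ∈ SGA3x.neutralSet G) : (g * n * g⁻¹).left t ∈ SGA3x.neutralSet G := by
  let K := AlgebraicClosure (T.left.residueField t)
  let f : Spec (CommRingCat.of K) ⟶ T.left :=
    Spec.map (CommRingCat.ofHom (algebraMap (T.left.residueField t) K)) ≫ T.left.fromSpecResidueField t
  let pt : Spec (CommRingCat.of K) := IsLocalRing.closedPoint K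
  have hft : f pt = t := by
    simp only [f, Scheme.Hom.comp_apply]
    exact T.left.fromSpecResidueField_apply t _
  let b : Spec (CommRingCat.of K) ⟶ S := f ≫ T.hom
  haveI := lft_snd G b (by rw [Scheme.Hom.comp_apply, hft]) (hG (T.hom t))
  let F : Over.mk b ⟶ T := Over.homMk f
  have hF : F.left pt = t := hft
  have hfst : ∀ h : Over.mk b ⟶ G, (fst G (Over.mk b)).left (ptOf b h) = h.left pt := fun h =>
    left_apply (lift_fst h (𝟙 (Over.mk b))) _
  have hiff : ∀ h : Over.mk b ⟶ G, h.left pt ∈ SGA3x.neutralSet G ↔ ptOf b h ∈ unitComp b G := fun h => by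
    rw [← preimage_neutralSet_eq_unitComp, Set.mem_preimage, hfst]
  let x := F ≫ g
  let y := F ≫ n
  have hy : ptOf b y ∈ unitComp b G := (hiff y).mp (by rw [Over.comp_left, Scheme.Hom.comp_apply, hF]; exact hn)
  let e := transL (Over.mk b) x
  have h1 : (transR (Over.mk b) x⁻¹).left (e.hom.left (ptOf b y)) ∈ unitComp b G := by
    have h2 : ∀ k, (transR (Over.mk b) x⁻¹).left (e.hom.left (ptOf b k)) = ptOf b (x * k * x⁻¹) := fun k => by
      rw [transL_ptOf, transR_ptOf]
    have hs : IsIrreducible ((transR (Over.mk b) x⁻¹).left '' (e.hom.left '' unitComp b G)) :=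
      (isIrreducible_irreducibleComponent.image _ e.hom.left.continuous.continuousOn).image _
        (transR (Over.mk b) x⁻¹).left.continuous.continuousOn
    refine subset_component b hs (q := ptOf b (1 : Over.mk b ⟶ G))
      ⟨_, ⟨_, mem_irreducibleComponent, rfl⟩, ?_⟩ ⟨_, ⟨_, hy, rfl⟩, rfl⟩
    rw [h2, _root_.mul_one, mul_inv_cancel]
  rw [transL_ptOf, transR_ptOf] at h1
  have h3 := (hiff (x * y * x⁻¹)).mpr h1
  have e3 : x * y * x⁻¹ = F ≫ (g * n * g⁻¹) := by
    simp [x, y, MonObj.comp_mul, GrpObj.comp_inv]
  rwa [e3, Over.comp_left, Scheme.Hom.comp_apply, hF] at h3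

/-- Components of a group scheme locally of finite type over a field are quasi-compact. -/
theorem isCompact_connectedComponent {k : Type u} [Field k] (G : Over (Spec (CommRingCat.of k))) [GrpObj G]
    [LocallyOfFiniteType G.hom] (g : G.left) : IsCompact (connectedComponent g) := by
  let L := AlgebraicClosure k
  let b : Spec (CommRingCat.of L) ⟶ Spec (CommRingCat.of k) := Spec.map (CommRingCat.ofHom (algebraMap k L))
  let T := Over.mk b
  haveI : LocallyOfFiniteType (pullback.snd G.hom b) := MorphismProperty.pullback_snd _ _ inferInstance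
  haveI : IsIntegralHom b := (IsIntegralHom.SpecMap_iff).mpr (Algebra.IsIntegral.isIntegral (R := k) (A := L))
  haveI : UniversallyOpen b := inferInstance
  haveI : Surjective b := ⟨fun _ => ⟨IsLocalRing.closedPoint L, Subsingleton.elim (α := PrimeSpectrum k) _ _⟩⟩
  let π := (fst G T).left
  haveI : UniversallyOpen π := inferInstanceAs (UniversallyOpen (pullback.fst G.hom b))
  haveI : IsIntegralHom π := inferInstanceAs (IsIntegralHom (pullback.fst G.hom b))
  haveI : Surjective π := inferInstanceAs (Surjective (pullback.fst G.hom b))
  obtain ⟨w, hw⟩ := π.surjective g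
  obtain ⟨h, hh⟩ := exists_ptOf_mem b isClosed_irreducibleComponent.isLocallyClosed
    ⟨w, mem_irreducibleComponent⟩
  have hc : IsCompact (irreducibleComponent w) := by
    rw [← component_eq b hh, show ptOf b h = (transL T h).hom.left (ptOf b 1) by rw [transL_ptOf, _root_.mul_one],
      ← image_component b (transL T h)]
    exact (isCompact_unitComp b).image (transL T h).hom.left.continuous
  have hC : connectedComponent g = π '' irreducibleComponent w := by
    refine Set.Subset.antisymm (IsClopen.connectedComponent_subset
      ⟨π.isClosedMap _ isClosed_irreducibleComponent, π.isOpenMap _ (isOpen_component b w)⟩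
      ⟨w, mem_irreducibleComponent, hw⟩) ?_
    exact (isIrreducible_irreducibleComponent.isConnected.image _ π.continuous.continuousOn).subset_connectedComponent
      ⟨w, mem_irreducibleComponent, hw⟩
  rw [hC]
  exact hc.image π.continuous

theorem image_connectedComponent_homeo {α β : Type u} [TopologicalSpace α] [TopologicalSpace β] (e : α ≃ₜ β) (a : α) :
    e '' connectedComponent a = connectedComponent (e a) := by
  refine Set.Subset.antisymm (e.continuous.image_connectedComponent_subset a) fun b hb => ⟨e.symm b, ?_, e.apply_symm_apply b⟩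
  have h := e.symm.continuous.image_connectedComponent_subset (e a) ⟨b, hb, rfl⟩
  rwa [e.symm_apply_apply] at h

section Artin

variable (A : Type u) [CommRing A] [IsArtinianRing A] [IsLocalRing A]

/-- The closed point of a local artinian scheme. -/
abbrev closedPt : Spec (CommRingCat.of (IsLocalRing.ResidueField A)) ⟶ Spec (CommRingCat.of A) :=
  Spec.map (CommRingCat.ofHom (IsLocalRing.residue A))

/-- The reduction to the residue field is a homeomorphism. -/
def reductionHomeo (X : Over (Spec (CommRingCat.of A))) : ↥(Red.bc (closedPt A) X).left ≃ₜ X.left :=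
  haveI : IsClosedImmersion (closedPt A) := IsClosedImmersion.spec_of_surjective _ Ideal.Quotient.mk_surjective
  haveI : Surjective (closedPt A) :=
    ⟨fun _ => ⟨IsLocalRing.closedPoint _, Subsingleton.elim (α := PrimeSpectrum A) _ _⟩⟩
  (pullback.fst X.hom (closedPt A)).isEmbedding.toHomeomorphOfSurjective
    (pullback.fst X.hom (closedPt A)).surjective

variable (G : Over (Spec (CommRingCat.of A))) [GrpObj G] [LocallyOfFiniteType G.hom]

theorem lft_reduction : LocallyOfFiniteType (Red.bc (closedPt A) G).hom :=
  MorphismProperty.pullback_snd G.hom (closedPt A) inferInstance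

theorem isOpen_connectedComponent (g : G.left) : IsOpen (connectedComponent g) := by
  haveI := lft_reduction A G
  let e := reductionHomeo A G
  have h : IsOpen (connectedComponent (e.symm g)) := by
    rw [GrothLib.GrpSchField.connectedComponent_eq_irreducibleComponent (Red.bc (closedPt A) G) (e.symm g)]
    exact GrothLib.GrpSchField.isOpen_of_mem_irreducibleComponents (Red.bc (closedPt A) G)
      (irreducibleComponent_mem_irreducibleComponents _)
  have h2 := e.isOpenMap _ h
  rwa [image_connectedComponent_homeo, e.apply_symm_apply] at h2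

theorem isCompact_connectedComponent_artin (g : G.left) : IsCompact (connectedComponent g) := by
  haveI := lft_reduction A G
  let e := reductionHomeo A G
  have h := (isCompact_connectedComponent (Red.bc (closedPt A) G) (e.symm g)).image e.continuous
  rwa [image_connectedComponent_homeo, e.apply_symm_apply] at h

theorem connectedComponent_unit_eq (pt : ↥(𝟙_ (Over (Spec (CommRingCat.of A)))).left) :
    connectedComponent (η[G].left pt) = SGA3x.neutralSet G := by
  ext g
  have h1 : G.hom g = pt := Subsingleton.elim (α := PrimeSpectrum A) _ _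
  have hu : G.hom ⁻¹' {G.hom g} = Set.univ :=
    Set.eq_univ_of_forall fun _ => Subsingleton.elim (α := PrimeSpectrum A) _ _
  rw [mem_neutralSet_iff, hu, connectedComponentIn_univ, h1]

end Artin

end GrothLib.Neutral
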