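import Groth.Agent.Lib.Neutral.QCHom
import Groth.Agent.Lib.Neutral.Artin
import Groth.Agent.Lib.FibreLocus.Hom
import Groth.Agent.Lib.Thickening.Morphisms

/-!
Homomorphisms of group schemes locally of finite type over a local artinian ring.
-/

universe u

open CategoryTheory CategoryTheory.Limits MonoidalCategory CartesianMonoidalCategory MonObj GrpObj
open AlgebraicGeometry Topology

set_option backward.isDefEq.respectTransparency false

noncomputable section

namespace GrothLib.Neutral

section Field

variable {K : Type u} [Field K] {G H : Over (Spec (CommRingCat.of K))} [GrpObj G] [GrpObj H]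

/-- A quasi-compact homomorphism with quasi-finite kernel is quasi-finite. -/
theorem locallyQuasiFinite_of_kernel [LocallyOfFiniteType H.hom] [LocallyOfFiniteType G.hom]
    (u : H ⟶ G) [IsMonHom u] [QuasiCompact u.left]
    (hK : DiscreteTopology ↥(pullback u.left η[G].left)) : LocallyQuasiFinite u.left := by
  have hG : IsSeparated G.hom := GrothLib.GrpSchField.isSeparated G
  haveI := GrothLib.GrpSchField.unit_isClosedImmersion G
  have hlft : LocallyOfFiniteType u.left := by
    have : LocallyOfFiniteType (u.left ≫ G.hom) := by rw [Over.w u]; infer_instance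
    exact locallyOfFiniteType_of_comp u.left G.hom
  let Kr : Over (Spec (CommRingCat.of K)) := Over.mk (pullback.fst u.left η[G].left ≫ H.hom)
  let i : Kr ⟶ H := Over.homMk (pullback.fst u.left η[G].left) rfl
  have hKhom : Kr.hom = pullback.snd u.left η[G].left := by
    have e := congrArg (fun t => t ≫ G.hom) (pullback.condition (f := u.left) (g := η[G].left))
    simp only [Category.assoc, Over.w u] at e
    rw [show η[G].left ≫ G.hom = 𝟙 _ from Over.w η[G], Category.comp_id] at e
    exact e
  haveI : LocallyOfFiniteType (pullback.snd u.left η[G].left) := MorphismProperty.pullback_snd _ _ hlft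
  haveI : QuasiCompact (pullback.snd u.left η[G].left) := MorphismProperty.pullback_snd _ _ ‹_›
  haveI : QuasiCompact Kr.hom := by rw [hKhom]; infer_instance
  haveI : CompactSpace ↥(𝟙_ (Over (Spec (CommRingCat.of K)))).left := inferInstanceAs (CompactSpace (Spec (CommRingCat.of K)))
  haveI : CompactSpace ↥(pullback u.left η[G].left) :=
    QuasiCompact.compactSpace_of_compactSpace (pullback.snd u.left η[G].left)
  haveI : Finite ↥(pullback u.left η[G].left) := finite_of_compact_of_discrete
  haveI : Finite ↥Kr.left := ‹Finite ↥(pullback u.left η[G].left)›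
  have : LocallyQuasiFinite Kr.hom := by
    rw [hKhom]
    exact LocallyQuasiFinite.of_finite_preimage_singleton _ fun _ => Set.Finite.subset Set.finite_univ (Set.subset_univ _)
  have hq : LocallyQuasiFinite (fst H Kr).left := inferInstanceAs (LocallyQuasiFinite (pullback.fst H.hom Kr.hom))
  have hqc : QuasiCompact (fst H Kr).left := inferInstanceAs (QuasiCompact (pullback.fst H.hom Kr.hom))
  let Z : Over (Spec (CommRingCat.of K)) := Over.mk (pullback.fst u.left u.left ≫ H.hom)
  let a : Z ⟶ H := Over.homMk (pullback.fst u.left u.left) rfl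
  let b : Z ⟶ H := Over.homMk (pullback.snd u.left u.left) (by
    show pullback.snd u.left u.left ≫ H.hom = pullback.fst u.left u.left ≫ H.hom
    rw [← Over.w u, pullback.condition_assoc])
  have hab : (a⁻¹ * b) ≫ u = 1 := by
    rw [MonObj.mul_comp, GrpObj.inv_comp, show a ≫ u = b ≫ u from Over.OverMorphism.ext pullback.condition,
      inv_mul_cancel]
  have hl : (a⁻¹ * b).left ≫ u.left = Z.hom ≫ η[G].left := by
    rw [← Over.comp_left, hab, Hom.one_def, Over.comp_left]
    rfl
  let n : Z ⟶ Kr := Over.homMk (pullback.lift _ _ hl) (by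
    show pullback.lift _ _ hl ≫ pullback.fst u.left η[G].left ≫ H.hom = Z.hom
    rw [pullback.lift_fst_assoc, Over.w (a⁻¹ * b)])
  have hn : n ≫ i = a⁻¹ * b := Over.OverMorphism.ext (pullback.lift_fst _ _ hl)
  let ψ : Z ⟶ H ⊗ Kr := lift a n
  let m : H ⊗ Kr ⟶ H := fst H Kr * (snd H Kr ≫ i)
  have hψ : ψ ≫ m = b := by
    simp only [ψ, m, MonObj.comp_mul, lift_fst, lift_snd_assoc, hn, mul_inv_cancel_left]
  exact LocallyQuasiFinite.of_finite_preimage_singleton _ fun y => by
    rcases (u.left ⁻¹' {y}).eq_empty_or_nonempty with he | ⟨x₀, hx₀⟩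
    · rw [he]; exact Set.finite_empty
    · refine ((Scheme.Hom.finite_preimage_singleton (fst H Kr).left x₀).image m.left).subset fun x hx => ?_
      obtain ⟨z, hz₁, hz₂⟩ := Scheme.Pullback.exists_preimage_pullback (f := u.left) (g := u.left) x₀ x
        ((Set.mem_singleton_iff.1 hx₀).trans (Set.mem_singleton_iff.1 hx).symm)
      refine ⟨ψ.left z, ?_, ?_⟩
      · show (fst H Kr).left (ψ.left z) = x₀
        rw [← Scheme.Hom.comp_apply, ← Over.comp_left, lift_fst]
        exact hz₁
      · rw [← Scheme.Hom.comp_apply, ← Over.comp_left, hψ]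
        exact hz₂

end Field

section Artin

variable (A : Type u) [CommRing A] [IsArtinianRing A] [IsLocalRing A]

instance : IsClosedImmersion (closedPt A) := IsClosedImmersion.spec_of_surjective _ Ideal.Quotient.mk_surjective

instance : Surjective (closedPt A) :=
  ⟨fun _ => ⟨IsLocalRing.closedPoint _, Subsingleton.elim (α := PrimeSpectrum A) _ _⟩⟩

variable {A} {G H : Over (Spec (CommRingCat.of A))}

/-- The map of special fibres. -/
abbrev red (u : G ⟶ H) : Red.bc (closedPt A) G ⟶ Red.bc (closedPt A) H := (Over.pullback (closedPt A)).map u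

theorem red_w (u : G ⟶ H) :
    (red u).left ≫ pullback.fst H.hom (closedPt A) = pullback.fst G.hom (closedPt A) ≫ u.left :=
  (GrothLib.FibreLocus.isPullback_map_left u (closedPt A)).w

theorem quasiCompact_red (u : G ⟶ H) [QuasiCompact u.left] : QuasiCompact (red u).left :=
  MorphismProperty.of_isPullback (GrothLib.FibreLocus.isPullback_map_left u (closedPt A)).flip ‹_›

theorem mono_red (u : G ⟶ H) [Mono u] : Mono (red u) := inferInstance

/-- A morphism with finite special fibre map is finite. -/
theorem isFinite_of_red [LocallyOfFiniteType G.hom] (u : G ⟶ H) (h : IsFinite (red u).left) : IsFinite u.left := by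
  haveI := h
  haveI : IsFinite ((red u).left ≫ pullback.fst H.hom (closedPt A)) := inferInstance
  haveI : IsIntegralHom (pullback.fst G.hom (closedPt A) ≫ u.left) := by
    rw [← red_w]; infer_instance
  haveI : IsIntegralHom u.left := (GrothLib.Thickening.isIntegralHom_comp_iff _ u.left).mp ‹_›
  haveI : LocallyOfFiniteType u.left := by
    haveI : LocallyOfFiniteType (u.left ≫ H.hom) := by rw [Over.w u]; infer_instance
    exact locallyOfFiniteType_of_comp u.left H.hom
  exact (IsFinite.iff_isIntegralHom_and_locallyOfFiniteType _).mpr ⟨inferInstance, inferInstance⟩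

variable [GrpObj G] [GrpObj H]

instance isMonHom_red (u : G ⟶ H) [IsMonHom u] : IsMonHom (red u) :=
  inferInstanceAs (IsMonHom ((Over.pullback (closedPt A)).map u))

theorem isClosedImmersion_of_mono_quasiCompact [LocallyOfFiniteType G.hom] [LocallyOfFiniteType H.hom]
    (u : G ⟶ H) [IsMonHom u] [Mono u] [QuasiCompact u.left] : IsClosedImmersion u.left := by
  haveI := lft_reduction A G
  haveI := lft_reduction A H
  haveI := quasiCompact_red u
  haveI := mono_red u
  haveI := isClosedImmersion_of_quasiCompact (red u)
  have hfin := isFinite_of_red u inferInstance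
  exact (IsClosedImmersion.iff_isFinite_and_mono _).2 ⟨hfin, inferInstanceAs (Mono ((Over.forget _).map u))⟩

theorem isFinite_iff_discrete_kernel [LocallyOfFiniteType G.hom] [LocallyOfFiniteType H.hom]
    (u : G ⟶ H) [IsMonHom u] [QuasiCompact u.left] :
    IsFinite u.left ↔ DiscreteTopology ↥(pullback u.left η[H].left) := by
  let P := pullback u.left η[H].left
  haveI : Subsingleton ↥(𝟙_ (Over (Spec (CommRingCat.of A)))).left := inferInstanceAs (Subsingleton (PrimeSpectrum A))
  constructor
  · intro _
    let p := pullback.snd u.left η[H].left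
    haveI : IsFinite p := MorphismProperty.pullback_snd _ _ ‹_›
    have hu : ∀ s, p ⁻¹' {s} = Set.univ := fun s => Set.eq_univ_of_forall fun _ => Subsingleton.elim _ _
    refine discreteTopology_iff_isOpen_singleton.mpr fun z => ?_
    have h1 := p.isDiscrete_preimage_singleton (p z)
    rw [hu] at h1
    haveI := isDiscrete_univ_iff.mp h1
    exact isOpen_discrete _
  · intro hd
    haveI := lft_reduction A G
    haveI := lft_reduction A H
    haveI := quasiCompact_red u
    haveI := GrothLib.GrpSchField.unit_isClosedImmersion (Red.bc (closedPt A) H)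
    let p₁ := pullback.fst (red u).left η[Red.bc (closedPt A) H].left
    haveI : IsClosedImmersion p₁ := inferInstance
    have hw : (p₁ ≫ pullback.fst G.hom (closedPt A)) ≫ u.left =
        (pullback.snd (red u).left η[Red.bc (closedPt A) H].left ≫ closedPt A) ≫ η[H].left := by
      rw [Category.assoc, ← red_w, ← Category.assoc, pullback.condition, Category.assoc, unit_fst]
      rfl
    let j : pullback (red u).left η[Red.bc (closedPt A) H].left ⟶ P := pullback.lift _ _ hw
    have hj : Function.Injective j := fun z z' h => by
      have h1 : (p₁ ≫ pullback.fst G.hom (closedPt A)) z = (p₁ ≫ pullback.fst G.hom (closedPt A)) z' := by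
        rw [← pullback.lift_fst _ _ hw, Scheme.Hom.comp_apply, Scheme.Hom.comp_apply]
        exact congrArg (pullback.fst u.left η[H].left) h
      exact p₁.isEmbedding.injective ((pullback.fst G.hom (closedPt A)).isEmbedding.injective h1)
    haveI : DiscreteTopology ↥(pullback (red u).left η[Red.bc (closedPt A) H].left) :=
      DiscreteTopology.of_continuous_injective j.continuous hj
    haveI := locallyQuasiFinite_of_kernel (red u) ‹_›
    exact isFinite_of_red u (isFinite_of_quasiCompact (red u))

end Artin

end GrothLib.Neutral
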