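import Groth.Agent.Lib.BaseChange.Irred
import Groth.Agent.Lib.SepAct.Main
import Mathlib.AlgebraicGeometry.Geometrically.Connected
import Mathlib.AlgebraicGeometry.IdealSheaf.Subscheme
import Mathlib.AlgebraicGeometry.PullbackCarrier

/-!
A connected scheme over a field with a rational point is geometrically connected; preimages of
connected closed subsets through a rational point under field extensions are connected.
-/

universe u

open CategoryTheory CategoryTheory.Limits AlgebraicGeometry Topology

namespace GrothLib.Neutral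

variable {k : Type u} [Field k]

/-- A connected scheme with a rational point is geometrically connected. -/
theorem geometricallyConnected_of_point {X : Scheme.{u}} (f : X ⟶ Spec (CommRingCat.of k))
    [ConnectedSpace X] (x : Spec (CommRingCat.of k) ⟶ X) (hx : x ≫ f = 𝟙 _) : GeometricallyConnected f := by
  let K := AlgebraicClosure k
  letI : X.Over (Spec (CommRingCat.of k)) := ⟨f⟩
  let q := Curv2.bcFst k X K
  have hint : IsIntegralHom (Spec.map (CommRingCat.ofHom (algebraMap k K))) :=
    IsIntegralHom.SpecMap_iff.mpr (algebraMap_isIntegral_iff.mpr inferInstance)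
  haveI : IsIntegralHom q := MorphismProperty.pullback_fst _ _ hint
  let p : Spec (CommRingCat.of k) := IsLocalRing.closedPoint k
  have hclosed : IsClosedMap q := q.isClosedMap
  have hopen : IsOpenMap q := q.isOpenMap
  have hmeet : ∀ V : Set ↥(Curv2.bc k X K), IsClopen V → V.Nonempty → ∃ v ∈ V, q v = x p := by
    intro V hV hne
    have h := (IsClopen.eq_univ ⟨hclosed _ hV.1, hopen _ hV.2⟩ (hne.image q))
    obtain ⟨v, hv, hvx⟩ := h.ge (Set.mem_univ (x p))
    exact ⟨v, hv, hvx⟩
  have huniq : (q ⁻¹' {x p}).Subsingleton := by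
    let b := Spec.map (CommRingCat.ofHom (algebraMap k K))
    let J := pullback.map (x ≫ f) b f b x (𝟙 _) (𝟙 _) (by simp) (by simp)
    have hJ : Set.range J = _ := Scheme.Pullback.range_map (x ≫ f) b f b x (𝟙 _) (𝟙 _) (by simp) (by simp)
    haveI : IsIso (pullback.snd (x ≫ f) b) := by
      rw [hx]; infer_instance
    haveI : Subsingleton ↥(pullback (x ≫ f) b) :=
      (pullback.snd (x ≫ f) b).homeomorph.injective.subsingleton (α := ↥(pullback (x ≫ f) b))
    refine Set.Subsingleton.anti (s := q ⁻¹' {x p}) (Set.subsingleton_range J) ?_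
    rw [hJ]
    intro v hv
    exact ⟨⟨p, hv.symm⟩, ⟨_, rfl⟩⟩
  haveI : Nonempty ↥(Curv2.bc k X K) := by
    obtain ⟨v, -, hv⟩ := Scheme.Pullback.exists_preimage_pullback (f := f)
      (g := Spec.map (CommRingCat.ofHom (algebraMap k K))) (x p) (IsLocalRing.closedPoint K)
      (Subsingleton.elim (α := PrimeSpectrum k) _ _)
    exact ⟨v⟩
  haveI : ConnectedSpace ↥(Curv2.bc k X K) := by
    refine connectedSpace_iff_clopen.mpr ⟨inferInstance, fun V hV => ?_⟩
    by_contra h
    push Not at h
    obtain ⟨v, hv, hvx⟩ := hmeet V hV h.1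
    obtain ⟨w, hw, hwx⟩ := hmeet Vᶜ hV.compl (Set.nonempty_compl.mpr h.2)
    exact hw (huniq hvx hwx ▸ hv)
  exact GrothLib.BaseChange.geometricallyConnected_of_connected_bc k X K

/-- The product of connected schemes, one with a rational point, is connected. -/
theorem connectedSpace_pullback {X Y : Scheme.{u}} (f : X ⟶ Spec (CommRingCat.of k))
    (g : Y ⟶ Spec (CommRingCat.of k)) [ConnectedSpace X] [ConnectedSpace Y]
    (x : Spec (CommRingCat.of k) ⟶ X) (hx : x ≫ f = 𝟙 _) : ConnectedSpace ↥(pullback f g) := by
  haveI := geometricallyConnected_of_point f x hx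
  haveI : Subsingleton (Spec (CommRingCat.of k)) := inferInstanceAs (Subsingleton (PrimeSpectrum k))
  haveI : UniversallyOpen f := inferInstance
  exact GeometricallyConnected.connectedSpace (pullback.snd f g) (pullback.snd f g).isOpenMap

/-- The preimage of a connected closed subset containing a rational point is connected. -/
theorem isConnected_preimage_fst {X Y : Scheme.{u}} (f : X ⟶ Spec (CommRingCat.of k))
    (g : Y ⟶ Spec (CommRingCat.of k)) [ConnectedSpace Y] (C : Set X) (hC : IsClosed C) (hconn : _root_.IsConnected C)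
    (x : Spec (CommRingCat.of k) ⟶ X) (hx : x ≫ f = 𝟙 _) (hxC : Set.range x ⊆ C) :
    _root_.IsConnected (pullback.fst f g ⁻¹' C) := by
  let I := Scheme.IdealSheafData.vanishingIdeal (⟨C, hC⟩ : TopologicalSpace.Closeds X)
  have hr : Set.range I.subschemeι = C := by
    rw [Scheme.IdealSheafData.range_subschemeι, Scheme.IdealSheafData.coe_support_vanishingIdeal]
    rfl
  haveI : ConnectedSpace I.subscheme := by
    haveI : ConnectedSpace ↥C := isConnected_iff_connectedSpace.mp hconn
    let e := I.subschemeι.isEmbedding.toHomeomorph.trans (Homeomorph.setCongr hr)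
    exact e.symm.surjective.connectedSpace e.symm.continuous
  haveI : IsReduced (Spec (CommRingCat.of k)) := inferInstance
  obtain ⟨x', hx'⟩ := GrothLib.SepAct.exists_lift_of_mem_range I.subschemeι x (by
    rw [hr]; exact hxC ⟨_, rfl⟩)
  haveI := connectedSpace_pullback (I.subschemeι ≫ f) g x' (by rw [← Category.assoc, hx', hx])
  let J := pullback.map (I.subschemeι ≫ f) g f g I.subschemeι (𝟙 _) (𝟙 _) (by simp) (by simp)
  have hJ : Set.range J = _ :=
    Scheme.Pullback.range_map (I.subschemeι ≫ f) g f g I.subschemeι (𝟙 _) (𝟙 _) (by simp) (by simp)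
  rw [hr, show Set.range (𝟙 Y : Y ⟶ Y) = Set.univ from Set.range_id, Set.preimage_univ, Set.inter_univ] at hJ
  rw [← hJ]
  exact isConnected_range J.continuous

end GrothLib.Neutral
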