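import Groth.Agent.S4094
import Groth.Agent.Lib.Neutral.ArtinHom
import Groth.Agent.Lib.GrpSchField.GrpDim
import Groth.Agent.Lib.GrpSchField.Quot
import Groth.Agent.Lib.DimCut.StalkFibre
import Groth.Agent.Lib.GrpDeligne.Factor
import Groth.Agent.Lib.AlgSp.FppfDescent
import Groth.Agent.Lib.Dim.Scheme

/-!
Homomorphisms of group schemes locally of finite type over a field factor as an fppf homomorphism followed by a
monomorphism; consequences for properness, openness, images and dimensions.
-/

universe u

open CategoryTheory CategoryTheory.Limits MonoidalCategory CartesianMonoidalCategory MonObj GrpObj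
open AlgebraicGeometry Topology

set_option backward.isDefEq.respectTransparency false

namespace GrothLib.Neutral

/-- The dimension formula for the local rings along a flat morphism, with the fibre given by any
topological embedding. -/
theorem ringKrullDim_stalk_fibre {G Q N : Scheme.{u}} (p : G ⟶ Q) [Flat p] (i : N ⟶ G) (hi : IsEmbedding i)
    (n : N) (hr : Set.range i = p ⁻¹' {p (i n)}) [IsNoetherianRing (G.presheaf.stalk (i n))]
    [IsNoetherianRing (Q.presheaf.stalk (p (i n)))] :
    ringKrullDim (G.presheaf.stalk (i n)) =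
      ringKrullDim (Q.presheaf.stalk (p (i n))) + ringKrullDim (N.presheaf.stalk n) := by
  open IsLocalRing in
  let e := i n
  letI := (p.stalkMap e).hom.toAlgebra
  haveI : IsLocalHom (algebraMap (Q.presheaf.stalk (p e)) (G.presheaf.stalk e)) :=
    inferInstanceAs (IsLocalHom (p.stalkMap e).hom)
  haveI : Module.Flat (Q.presheaf.stalk (p e)) (G.presheaf.stalk e) := Flat.stalkMap p e
  haveI : (maximalIdeal (G.presheaf.stalk e)).LiesOver (maximalIdeal (Q.presheaf.stalk (p e))) :=
    ⟨(((local_hom_TFAE (algebraMap (Q.presheaf.stalk (p e)) (G.presheaf.stalk e))).out 0 4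
      (a := IsLocalHom (algebraMap (Q.presheaf.stalk (p e)) (G.presheaf.stalk e)))
      (b := (maximalIdeal _).comap (algebraMap (Q.presheaf.stalk (p e)) (G.presheaf.stalk e)) = maximalIdeal _)).mp
        inferInstance).symm⟩
  let J := (maximalIdeal (Q.presheaf.stalk (p e))).map (algebraMap (Q.presheaf.stalk (p e)) (G.presheaf.stalk e))
  have hJ : J ≤ maximalIdeal _ := Ideal.map_le_iff_le_comap.mpr fun a ha => map_nonunit (p.stalkMap e).hom a ha
  haveI : Nontrivial (G.presheaf.stalk e ⧸ J) :=
    Ideal.Quotient.nontrivial_iff.mpr fun h => (maximalIdeal.isMaximal _).ne_top (top_le_iff.mp (h ▸ hJ))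
  haveI : IsLocalRing (G.presheaf.stalk e ⧸ J) :=
    IsLocalRing.of_surjective' (Ideal.Quotient.mk J) Ideal.Quotient.mk_surjective
  have hmax : (maximalIdeal (G.presheaf.stalk e)).map (Ideal.Quotient.mk J) = maximalIdeal _ := by
    refine IsLocalRing.eq_maximalIdeal ((Ideal.map_eq_top_or_isMaximal_of_surjective (f := Ideal.Quotient.mk J)
      Ideal.Quotient.mk_surjective (maximalIdeal.isMaximal (G.presheaf.stalk e))).resolve_left fun h => ?_)
    have := congrArg (Ideal.comap (Ideal.Quotient.mk J)) h
    rw [Ideal.comap_map_of_surjective _ Ideal.Quotient.mk_surjective, ← RingHom.ker_eq_comap_bot, Ideal.mk_ker,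
      Ideal.comap_top, sup_eq_left.mpr hJ] at this
    exact (maximalIdeal.isMaximal _).ne_top this
  have hdim : ringKrullDim (G.presheaf.stalk e ⧸ J) = ringKrullDim (N.presheaf.stalk n) := by
    rw [← PrimeSpectrum.topologicalKrullDim_eq_ringKrullDim, ← PrimeSpectrum.topologicalKrullDim_eq_ringKrullDim]
    let f : PrimeSpectrum (G.presheaf.stalk e ⧸ J) → G := fun q =>
      G.fromSpecStalk e (PrimeSpectrum.comap (Ideal.Quotient.mk J) q)
    have hf : IsEmbedding f := (G.fromSpecStalk e).isEmbedding.comp
      (PrimeSpectrum.isClosedEmbedding_comap_of_surjective _ _ Ideal.Quotient.mk_surjective).isEmbedding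
    let g : PrimeSpectrum (N.presheaf.stalk n) → G := fun q => i (N.fromSpecStalk n q)
    have hg : IsEmbedding g := hi.comp (N.fromSpecStalk n).isEmbedding
    refine (GrothLib.Dim.IsEmbedding.topologicalKrullDim_eq hf rfl).trans
      (Eq.symm (GrothLib.Dim.IsEmbedding.topologicalKrullDim_eq hg ?_))
    ext z
    constructor
    · rintro ⟨q, rfl⟩
      have h1 : N.fromSpecStalk n q ⤳ n := Scheme.range_fromSpecStalk.le ⟨q, rfl⟩
      have h2 : i (N.fromSpecStalk n q) ⤳ e := hi.isInducing.specializes_iff.mpr h1
      obtain ⟨P, hP⟩ := Scheme.range_fromSpecStalk.ge h2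
      have h3 : p (i (N.fromSpecStalk n q)) = p e := hr.le ⟨_, rfl⟩
      rw [← hP, GrothLib.DimCut.apply_fromSpecStalk] at h3
      have h4 := (Q.fromSpecStalk (p e)).isEmbedding.injective
        (h3.trans (Scheme.fromSpecStalk_closedPoint (X := Q) (x := p e)).symm)
      have h5 : J ≤ P.asIdeal :=
        Ideal.map_le_iff_le_comap.mpr (congrArg PrimeSpectrum.asIdeal h4).ge
      obtain ⟨r, hr'⟩ : P ∈ Set.range (PrimeSpectrum.comap (Ideal.Quotient.mk J)) := by
        rw [range_comap_of_surjective _ _ Ideal.Quotient.mk_surjective]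
        rw [PrimeSpectrum.mem_zeroLocus, SetLike.coe_subset_coe, Ideal.mk_ker]
        exact h5
      exact ⟨r, (congrArg (G.fromSpecStalk e) hr').trans hP⟩
    · rintro ⟨q, rfl⟩
      have h1 : f q ⤳ e := Scheme.range_fromSpecStalk.le ⟨_, rfl⟩
      have h2 : p (f q) = p e := by
        show p (G.fromSpecStalk e _) = _
        rw [GrothLib.DimCut.apply_fromSpecStalk]
        refine (congrArg (Q.fromSpecStalk (p e)) (PrimeSpectrum.ext (le_antisymm
          (le_maximalIdeal (Ideal.IsPrime.comap _).ne_top) fun a ha => ?_))).trans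
          (Scheme.fromSpecStalk_closedPoint (X := Q) (x := p e))
        show Ideal.Quotient.mk J (algebraMap (Q.presheaf.stalk (p e)) (G.presheaf.stalk e) a) ∈ q.asIdeal
        have h0 : Ideal.Quotient.mk J (algebraMap (Q.presheaf.stalk (p e)) (G.presheaf.stalk e) a) = 0 :=
          (Ideal.Quotient.eq_zero_iff_mem (I := J)).mpr (Ideal.mem_map_of_mem _ ha)
        rw [h0]
        exact q.asIdeal.zero_mem
      obtain ⟨k, hk⟩ := hr.ge h2
      obtain ⟨r, hr'⟩ := Scheme.range_fromSpecStalk.ge (show k ⤳ n from hi.isInducing.specializes_iff.mp (hk ▸ h1))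
      exact ⟨r, (congrArg i hr').trans hk⟩
  rw [← maximalIdeal_height_eq_ringKrullDim, ← maximalIdeal_height_eq_ringKrullDim, ← hdim,
    ← maximalIdeal_height_eq_ringKrullDim,
    Ideal.height_eq_height_add_of_liesOver_of_hasGoingDown (maximalIdeal (Q.presheaf.stalk (p e)))
      (maximalIdeal (G.presheaf.stalk e)), hmax, WithBot.coe_add]

section Field

variable {K : Type u} [Field K] {G H : Over (Spec (CommRingCat.of K))} [GrpObj G] [GrpObj H]
  [LocallyOfFiniteType G.hom] [LocallyOfFiniteType H.hom] (u : G ⟶ H) [IsMonHom u]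

/-- Every homomorphism is an fppf homomorphism followed by a monomorphism. -/
theorem exists_factor_field :
    ∃ (Q : Over (Spec (CommRingCat.of K))) (_ : GrpObj Q) (p : G ⟶ Q) (i : Q ⟶ H), IsMonHom p ∧ IsMonHom i ∧
      p ≫ i = u ∧ Surjective p.left ∧ Flat p.left ∧ LocallyOfFinitePresentation p.left ∧ Mono i ∧
      LocallyOfFiniteType Q.hom ∧ AlgGrp.IsKernel (pullback.fst u η[H]) p := by
  have : LocallyOfFinitePresentation G.hom := GrothLib.GrpSchField.lfp_of_isLocallyNoetherian _
  obtain ⟨Q, gQ, p, i, hp, hi, hpi, h₁, h₂, h₃, hm, hQ, hker⟩ :=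
    Groth.Agent.S4094.result _ G H u (GrothLib.DiagGrp.flat_of_field _)
  exact ⟨Q, gQ, p, i, hp, hi, hpi, h₁, h₂, h₃, hm, inferInstance, hker⟩

theorem isClosedImmersion_factor [QuasiCompact u.left] {Q : Over (Spec (CommRingCat.of K))} [GrpObj Q]
    [LocallyOfFiniteType Q.hom] {p : G ⟶ Q} {i : Q ⟶ H} [IsMonHom i] [Mono i] [Surjective p.left]
    (hpi : p ≫ i = u) : IsClosedImmersion i.left ∧ QuasiCompact p.left := by
  haveI : QuasiCompact (p.left ≫ i.left) := by rw [← Over.comp_left, hpi]; infer_instance
  haveI := GrothLib.Thickening.quasiCompact_of_comp_surjective p.left i.left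
  haveI := isClosedImmersion_of_quasiCompact i
  exact ⟨inferInstance, QuasiCompact.of_comp p.left i.left⟩

/-- A quasi-compact homomorphism with proper kernel is proper. -/
theorem isProper_of_kernel [QuasiCompact u.left]
    (hK : IsProper (pullback.snd u.left η[H].left)) : IsProper u.left := by
  obtain ⟨Q, _, p, i, hp, _, hpi, h₁, h₂, h₃, hm, _, hker⟩ := exists_factor_field u
  obtain ⟨_, _⟩ := isClosedImmersion_factor u hpi
  have sq := (IsPullback.of_hasPullback u η[H]).map (Over.forget _)
  have hN : IsProper (pullback u η[H]).hom := by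
    have e : (pullback.snd u η[H]).left ≫ 𝟙 _ = (pullback u η[H]).hom := Over.w (pullback.snd u η[H])
    rw [← e, Category.comp_id]
    have := sq.isoPullback_hom_snd
    rw [show (pullback.snd u η[H]).left = _ from this.symm]
    haveI : IsProper (pullback.snd ((Over.forget _).map u) ((Over.forget _).map η[H])) := hK
    infer_instance
  have hp' : IsProper p.left :=
    GrothLib.AlgSp.fppfDescends_isProper p.left p.left _ _
      ((GrothLib.GrpSchField.isPullback_kernelPair hker).map (Over.forget _)).flip h₂ h₃ h₁
      (MorphismProperty.pullback_fst G.hom (pullback u η[H]).hom hN)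
  rw [← hpi, Over.comp_left]
  infer_instance

theorem isClosed_range_hom [QuasiCompact u.left] : IsClosed (Set.range u.left) := by
  obtain ⟨Q, _, p, i, hp, _, hpi, h₁, h₂, h₃, hm, _, hker⟩ := exists_factor_field u
  obtain ⟨_, _⟩ := isClosedImmersion_factor u hpi
  have e : Set.range u.left = Set.range i.left := by
    rw [← hpi, Over.comp_left, Scheme.Hom.comp_base, TopCat.coe_comp, p.left.surjective.range_comp]
  rw [e]
  exact i.left.isClosedEmbedding.isClosed_range

/-- An open homomorphism is universally open. -/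
theorem universallyOpen_of_isOpenMap_field (hu : IsOpenMap u.left) : UniversallyOpen u.left := by
  obtain ⟨Q, _, p, i, hp, _, hpi, h₁, h₂, h₃, hm, _, -⟩ := exists_factor_field u
  have hcomp : (u.left : G.left → H.left) = i.left ∘ p.left := by
    rw [← hpi, Over.comp_left, Scheme.Hom.comp_base, TopCat.coe_comp]
  haveI : Mono i.left := inferInstanceAs (Mono ((Over.forget _).map i))
  have hiopen : IsOpenMap i.left := fun U hU => by
    have h := hu _ (hU.preimage p.left.continuous)
    rwa [hcomp, Set.image_comp, Set.image_preimage_eq _ p.left.surjective] at h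
  have hemb : IsOpenEmbedding i.left :=
    IsOpenEmbedding.of_continuous_injective_isOpenMap i.left.continuous i.left.injective hiopen
  have hclosed : IsClosed (Set.range i.left) :=
    GrothLib.GrpSchField.isClosed_range_of_isLocallyClosed i hemb.isOpen_range.isLocallyClosed
  haveI : QuasiCompact i.left :=
    ⟨fun U _ hUc => (⟨hemb.isEmbedding, hclosed⟩ : IsClosedEmbedding i.left).isCompact_preimage hUc⟩
  haveI := isClosedImmersion_of_quasiCompact i
  let W : H.left.Opens := ⟨Set.range i.left, hemb.isOpen_range⟩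
  have hW : Set.range i.left ⊆ Set.range W.ι := W.range_ι.ge
  let l := IsOpenImmersion.lift W.ι i.left hW
  have hl : l ≫ W.ι = i.left := IsOpenImmersion.lift_fac _ _ _
  haveI : IsClosedImmersion (l ≫ W.ι) := by rw [hl]; infer_instance
  haveI : IsClosedImmersion l := IsClosedImmersion.of_comp l W.ι
  haveI : Surjective l := ⟨fun w => by
    obtain ⟨q, hq⟩ := w.2
    refine ⟨q, W.ι.injective ?_⟩
    rw [← Scheme.Hom.comp_apply, hl]
    exact hq⟩
  haveI := GrothLib.Thickening.universallyOpen_of_surjective l
  haveI : UniversallyOpen i.left := by rw [← hl]; infer_instance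
  rw [← hpi, Over.comp_left]
  infer_instance

/-- The dimension formula for a quasi-compact homomorphism. -/
theorem dim_eq_add_field [QuasiCompact u.left] :
    topologicalKrullDim G.left =
      topologicalKrullDim (Set.range u.left) + topologicalKrullDim ↥(pullback u.left η[H].left) := by
  obtain ⟨Q, _, p, i, hp, _, hpi, h₁, h₂, h₃, hm, _, hker⟩ := exists_factor_field u
  obtain ⟨hic, _⟩ := isClosedImmersion_factor u hpi
  obtain ⟨gN, hfst⟩ := GrothLib.GrpDeligne.exists_grpObj_kernel p _ hker
  letI := gN
  let N := pullback u η[H]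
  have sq := (IsPullback.of_hasPullback u η[H]).map (Over.forget _)
  haveI : LocallyOfFiniteType u.left := by
    have : LocallyOfFiniteType (u.left ≫ H.hom) := by rw [Over.w u]; infer_instance
    exact locallyOfFiniteType_of_comp u.left H.hom
  haveI := GrothLib.GrpSchField.unit_isClosedImmersion H
  haveI := GrothLib.GrpSchField.unit_isClosedImmersion Q
  haveI := GrothLib.GrpSchField.unit_isClosedImmersion G
  haveI := GrothLib.GrpSchField.unit_isClosedImmersion N
  haveI : IsClosedImmersion (pullback.fst u η[H]).left :=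
    MorphismProperty.of_isPullback sq.flip (inferInstanceAs (IsClosedImmersion η[H].left))
  haveI : LocallyOfFiniteType N.hom := by
    rw [← Over.w (pullback.fst u η[H])]
    infer_instance
  let pt : ↥(𝟙_ (Over (Spec (CommRingCat.of K)))).left := IsLocalRing.closedPoint K
  haveI : Subsingleton ↥(𝟙_ (Over (Spec (CommRingCat.of K)))).left :=
    inferInstanceAs (Subsingleton (PrimeSpectrum K))
  have hrange : ∀ {T : Over (Spec (CommRingCat.of K))} [GrpObj T],
      Set.range η[T].left = {η[T].left pt} := fun {T} _ =>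
    Set.eq_singleton_iff_unique_mem.2 ⟨⟨pt, rfl⟩, by rintro _ ⟨q, rfl⟩; exact congrArg _ (Subsingleton.elim _ _)⟩
  have hclosed : ∀ {T : Over (Spec (CommRingCat.of K))} [GrpObj T] [IsClosedImmersion η[T].left],
      IsClosed ({η[T].left pt} : Set T.left) := fun {T} _ _ =>
    hrange (T := T) ▸ η[T].left.isClosedEmbedding.isClosed_range
  let n := η[N].left pt
  have hn : (pullback.fst u η[H]).left n = η[G].left pt := by
    rw [← Scheme.Hom.comp_apply, ← Over.comp_left, IsMonHom.one_hom]
  have hp1 : p.left (η[G].left pt) = η[Q].left pt := by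
    rw [← Scheme.Hom.comp_apply, ← Over.comp_left, IsMonHom.one_hom]
  have hr : Set.range (pullback.fst u η[H]).left = p.left ⁻¹' {p.left ((pullback.fst u η[H]).left n)} := by
    have sq' := hker.map (Over.forget _)
    have e : (pullback.fst u η[H]).left = sq'.isoPullback.hom ≫
        pullback.fst ((Over.forget _).map p) ((Over.forget _).map η[Q]) :=
      sq'.isoPullback_hom_fst.symm
    rw [hn, hp1, ← hrange, e]
    have h1 : ∀ {A B C : Scheme.{u}} (a : A ≅ B) (b : B ⟶ C), Set.range (a.hom ≫ b) = Set.range b := fun a b => by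
      rw [Scheme.Hom.comp_base, TopCat.coe_comp, a.hom.surjective.range_comp]
    exact (h1 sq'.isoPullback _).trans (Scheme.Pullback.range_fst (f := p.left) (g := η[Q].left))
  haveI : IsLocallyNoetherian G.left := LocallyOfFiniteType.isLocallyNoetherian G.hom
  haveI : IsLocallyNoetherian Q.left := LocallyOfFiniteType.isLocallyNoetherian Q.hom
  haveI := h₂
  have h := ringKrullDim_stalk_fibre p.left (pullback.fst u η[H]).left
    (pullback.fst u η[H]).left.isEmbedding n hr
  rw [GrothLib.GrpSchField.ringKrullDim_stalk_eq G (by rw [hn]; exact hclosed),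
    GrothLib.GrpSchField.ringKrullDim_stalk_eq Q (by rw [hn, hp1]; exact hclosed),
    GrothLib.GrpSchField.ringKrullDim_stalk_eq N hclosed] at h
  rw [h]
  congr 1
  · refine GrothLib.Dim.IsEmbedding.topologicalKrullDim_eq i.left.isEmbedding ?_
    rw [← hpi, Over.comp_left, Scheme.Hom.comp_base, TopCat.coe_comp, p.left.surjective.range_comp]
  · exact IsHomeomorph.topologicalKrullDim_eq _ sq.isoPullback.hom.homeomorph.isHomeomorph

end Field

end GrothLib.Neutral
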