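import Groth.Agent.Lib.Neutral.Pairs
import Groth.Agent.Lib.GeomComp6.Locus
import Groth.Agent.Lib.Constr.Topology

/-!
The union of the neutral components of the fibres of a group scheme locally of finite presentation
is ind-constructible, and locally constructible when the group is quasi-separated.
-/

universe u

open CategoryTheory CategoryTheory.Limits MonoidalCategory CartesianMonoidalCategory MonObj GrpObj
open AlgebraicGeometry Topology

set_option backward.isDefEq.respectTransparency false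

namespace GrothLib.Neutral

open GrothLib.SepAct

variable {S : Scheme.{u}} (G : Over S) [GrpObj G]

/-- The product of two points of the neutral components is in the neutral component. -/
theorem mul_mem_neutralSet (q : ↥(G ⊗ G).left)
    (hG : LocallyOfFiniteType (G.hom.fiberToSpecResidueField ((G ⊗ G).hom q)))
    (h₁ : (fst G G).left q ∈ SGA3x.neutralSet G) (h₂ : (snd G G).left q ∈ SGA3x.neutralSet G) :
    μ[G].left q ∈ SGA3x.neutralSet G := by
  let P := (G ⊗ G).left
  let K := AlgebraicClosure (P.residueField q)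
  let f : Spec (CommRingCat.of K) ⟶ P :=
    Spec.map (CommRingCat.ofHom (algebraMap (P.residueField q) K)) ≫ P.fromSpecResidueField q
  let pt : Spec (CommRingCat.of K) := IsLocalRing.closedPoint K
  have hfq : f pt = q := by
    simp only [f, Scheme.Hom.comp_apply]
    exact P.fromSpecResidueField_apply q _
  let b : Spec (CommRingCat.of K) ⟶ S := f ≫ (G ⊗ G).hom
  haveI := lft_snd G b (by rw [Scheme.Hom.comp_apply, hfq]) hG
  let T := Over.mk b
  let F : T ⟶ G ⊗ G := Over.homMk f
  let x : T ⟶ G := F ≫ fst G G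
  let y : T ⟶ G := F ≫ snd G G
  have hfst : ∀ h : T ⟶ G, (fst G T).left (ptOf b h) = h.left pt := fun h =>
    left_apply (lift_fst h (𝟙 T)) _
  have hF : F.left pt = q := hfq
  have hiff : ∀ h : T ⟶ G, h.left pt ∈ SGA3x.neutralSet G ↔ ptOf b h ∈ unitComp b G := fun h => by
    rw [← preimage_neutralSet_eq_unitComp, Set.mem_preimage, hfst]
  have hx : ptOf b x ∈ unitComp b G := (hiff x).mp (by
    rw [Over.comp_left, Scheme.Hom.comp_apply, hF]; exact h₁)
  have hy : ptOf b y ∈ unitComp b G := (hiff y).mp (by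
    rw [Over.comp_left, Scheme.Hom.comp_apply, hF]; exact h₂)
  have hxy := (hiff (x * y)).mpr (mul_mem_component b hx hy)
  have e : x * y = F ≫ μ[G] := by
    have h1 : (fst G G * snd G G : G ⊗ G ⟶ G) = μ[G] := by
      rw [Hom.mul_def, lift_fst_snd, Category.id_comp]
    rw [← h1, MonObj.comp_mul]
  rw [e, Over.comp_left, Scheme.Hom.comp_apply, hF] at hxy
  exact hxy

/-- The geometric count for an open piece over an open of the base. -/
theorem exists_pieces [LocallyOfFinitePresentation G.hom] (s : S) :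
    ∃ (S₀ : S.Opens) (W : G.left.Opens) (N : Set S), IsAffineOpen S₀ ∧ IsAffineOpen W ∧
      W ≤ G.hom ⁻¹ᵁ S₀ ∧ s ∈ N ∧ N ⊆ S₀ ∧ ProCons.IsIndConstructible N ∧
      ∀ g : G.left, G.hom g ∈ N → (g ∈ SGA3x.neutralSet G ↔
        g ∈ μ[G].left '' ((fst G G).left ⁻¹' (W : Set G.left) ∩ (snd G G).left ⁻¹' (W : Set G.left))) := by
  have hG : ∀ t : S, LocallyOfFiniteType (G.hom.fiberToSpecResidueField t) :=
    fun t => MorphismProperty.pullback_snd _ _ inferInstance
  obtain ⟨_, ⟨(S₀ : S.Opens), hS₀, rfl⟩, hsS₀, -⟩ := S.isBasis_affineOpens.exists_subset_of_mem_open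
    (Set.mem_univ s) isOpen_univ
  haveI : IsAffine (Scheme.Opens.toScheme S₀) := hS₀
  -- an open `O` with trace in the fibre inside the neutral component
  obtain ⟨O, hO, hOs⟩ : ∃ O : Set G.left, IsOpen O ∧ O ∩ G.hom ⁻¹' {s} = SGA3x.neutralSet G ∩ G.hom ⁻¹' {s} := by
    let H := Red.bc (S.fromSpecResidueField s) G
    haveI : LocallyOfFiniteType H.hom := hG s
    have ho : IsOpen (fibComp G s) := by
      change IsOpen (connectedComponent (α := ↥H.left) (fibUnit G s _ : H.left))
      rw [GrothLib.GrpSchField.connectedComponent_eq_irreducibleComponent H]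
      exact GrothLib.GrpSchField.isOpen_of_mem_irreducibleComponents H
        (irreducibleComponent_mem_irreducibleComponents _)
    obtain ⟨O, hO, hO'⟩ := (G.hom.fiberι s).isEmbedding.isInducing.isOpen_iff.mp ho
    refine ⟨O, hO, ?_⟩
    rw [← image_fibComp, ← hO', Set.image_preimage_eq_inter_range, G.hom.range_fiberι]
  have hes : η[G].left s ∈ O ∩ (G.hom ⁻¹ᵁ S₀ : Set G.left) := by
    refine ⟨(hOs.ge ⟨unit_mem_neutralSet G s, hom_unit G s⟩).1, ?_⟩
    change G.hom (η[G].left s) ∈ S₀
    rw [hom_unit]; exact hsS₀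
  obtain ⟨_, ⟨(W : G.left.Opens), hW, rfl⟩, heW, hWO⟩ := G.left.isBasis_affineOpens.exists_subset_of_mem_open hes
    (hO.inter (G.hom ⁻¹ᵁ S₀).2)
  have hWS : W ≤ G.hom ⁻¹ᵁ S₀ := fun x hx => (hWO hx).2
  haveI : IsAffine (Scheme.Opens.toScheme W) := hW
  let f₀ : Scheme.Opens.toScheme W ⟶ Scheme.Opens.toScheme S₀ := G.hom.resLE S₀ W hWS
  haveI : LocallyOfFinitePresentation f₀ := by
    simp only [f₀, Scheme.Hom.resLE]; infer_instance
  have hf₀ : f₀ ≫ Scheme.Opens.ι S₀ = Scheme.Opens.ι W ≫ G.hom := Scheme.Hom.resLE_comp_ι _ _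
  -- the good locus
  let N₀ : Set (Scheme.Opens.toScheme S₀) := {t | Prod.fst (GrothLib.GeomComp6.geomCount f₀ t) = 1}
  let N : Set S := Scheme.Opens.ι S₀ '' N₀ ∩ η[G].left ⁻¹' (W : Set G.left)
  have hN : ProCons.IsIndConstructible N := by
    refine GrothLib.Constr.isIndConstructible_inter ?_
      (GrothLib.Constr.isIndConstructible_of_isOpen (W.2.preimage η[G].left.continuous))
    exact GrothLib.Constr.isIndConstructible_image _ (GrothLib.Constr.isIndConstructible_of_isLocallyConstructible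
      (GrothLib.GeomComp6.isLocallyConstructible_geomCount f₀ Prod.fst 1))
  refine ⟨S₀, W, N, hS₀, hW, hWS, ⟨⟨⟨s, hsS₀⟩, ?_, rfl⟩, heW⟩, ?_, hN, ?_⟩
  · -- at `s` the piece is geometrically irreducible
    let K := AlgebraicClosure ((Scheme.Opens.toScheme S₀).residueField ⟨s, hsS₀⟩)
    let t₀ : Spec (CommRingCat.of K) ⟶ Scheme.Opens.toScheme S₀ :=
      Spec.map (CommRingCat.ofHom (algebraMap ((Scheme.Opens.toScheme S₀).residueField ⟨s, hsS₀⟩) K)) ≫
        (Scheme.Opens.toScheme S₀).fromSpecResidueField ⟨s, hsS₀⟩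
    let pt : Spec (CommRingCat.of K) := IsLocalRing.closedPoint K
    have ht₀ : t₀ pt = ⟨s, hsS₀⟩ := by
      simp only [t₀, Scheme.Hom.comp_apply]
      exact (Scheme.Opens.toScheme S₀).fromSpecResidueField_apply _ _
    let b : Spec (CommRingCat.of K) ⟶ S := t₀ ≫ Scheme.Opens.ι S₀
    have hbs : ∀ p, b p = s := fun p => by
      rw [Subsingleton.elim (α := PrimeSpectrum K) p pt, Scheme.Hom.comp_apply, ht₀]
      rfl
    haveI := lft_snd G b (hbs _) (hG s)
    have hcount := congrArg Prod.fst (GrothLib.GeomComp6.count_geomFiber_eq f₀ t₀ (y := ⟨s, hsS₀⟩) ht₀)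
    refine hcount.trans (GrothLib.GeomComp6.encard_irreducibleComponents_eq_one_iff.mpr ?_)
    let J : pullback f₀ t₀ ⟶ pullback G.hom b :=
      pullback.map f₀ t₀ G.hom b (Scheme.Opens.ι W) (𝟙 _) (Scheme.Opens.ι S₀) hf₀ (by simp [b])
    have hJ : Set.range J = _ := Scheme.Pullback.range_map f₀ t₀ G.hom b (Scheme.Opens.ι W) (𝟙 _)
      (Scheme.Opens.ι S₀) hf₀ (by simp [b])
    rw [Scheme.Opens.range_ι, show Set.range (𝟙 (Spec (CommRingCat.of K)) : _ ⟶ _) = Set.univ from Set.range_id,
      Set.preimage_univ, Set.inter_univ] at hJ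
    haveI : IsOpenImmersion J := inferInstance
    have hsub : (pullback.fst G.hom b ⁻¹' (W : Set G.left)) ⊆ unitComp b G := by
      rw [← preimage_neutralSet_eq_unitComp]
      intro v hv
      have hvs : G.hom (pullback.fst G.hom b v) = s := by
        rw [← Scheme.Hom.comp_apply, pullback.condition, Scheme.Hom.comp_apply, hbs]
      exact (hOs.le ⟨(hWO hv).1, hvs⟩).1
    have hne : (pullback.fst G.hom b ⁻¹' (W : Set G.left)).Nonempty := by
      refine ⟨ptOf b (1 : Over.mk b ⟶ G), ?_⟩
      change (fst G (Over.mk b)).left (ptOf b (1 : Over.mk b ⟶ G)) ∈ W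
      rw [show (fst G (Over.mk b)).left (ptOf b (1 : Over.mk b ⟶ G)) = (1 : Over.mk b ⟶ G).left pt from
        left_apply (lift_fst _ _) _, Hom.one_def, Over.comp_left, Scheme.Hom.comp_apply]
      change η[G].left (b pt) ∈ W
      rw [hbs]
      exact heW
    have hirr : IsIrreducible (Set.range J) := by
      rw [hJ]
      exact ⟨hne, (isIrreducible_irreducibleComponent (x := ptOf b (1 : Over.mk b ⟶ G))).2.open_subset
        (W.2.preimage (pullback.fst G.hom b).continuous) hsub⟩
    exact (GrothLib.GeomComp6.isIrreducible_range_iff J J.isEmbedding).mp hirr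
  · rintro _ ⟨⟨t, -, rfl⟩, -⟩
    exact t.2
  · rintro g ⟨⟨t, ht, htg⟩, heWg⟩
    constructor
    · intro hg
      obtain ⟨q, h₁, h₂, hq⟩ := exists_pair G g hg (hG _) W heWg
      exact ⟨q, ⟨h₁, h₂⟩, hq⟩
    · rintro ⟨q, ⟨h₁, h₂⟩, rfl⟩
      have hqs : ∀ (p : ↥(G ⊗ G).left), G.hom (μ[G].left p) = (G ⊗ G).hom p := fun p => by
        rw [← Scheme.Hom.comp_apply, Over.w μ[G]]
      have hW' : ∀ w ∈ W, G.hom w = G.hom (μ[G].left q) → w ∈ SGA3x.neutralSet G := by
        intro w hw hwt
        -- the trace of `W` on the fibre is irreducible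
        let K := AlgebraicClosure ((Scheme.Opens.toScheme S₀).residueField t)
        let t₀ : Spec (CommRingCat.of K) ⟶ Scheme.Opens.toScheme S₀ :=
          Spec.map (CommRingCat.ofHom (algebraMap ((Scheme.Opens.toScheme S₀).residueField t) K)) ≫
            (Scheme.Opens.toScheme S₀).fromSpecResidueField t
        have ht₀ : ∀ p, t₀ p = t := fun p => by
          simp only [t₀, Scheme.Hom.comp_apply]
          exact (Scheme.Opens.toScheme S₀).fromSpecResidueField_apply _ _
        have hcount := congrArg Prod.fst (GrothLib.GeomComp6.count_geomFiber_eq f₀ t₀ (y := t) (ht₀ _))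
        haveI : IrreducibleSpace ↥(pullback f₀ t₀) :=
          GrothLib.GeomComp6.encard_irreducibleComponents_eq_one_iff.mp (hcount.symm.trans ht)
        have hrange : Set.range (pullback.fst f₀ t₀) = f₀ ⁻¹' {t} := by
          rw [Scheme.Pullback.range_fst]
          congr 1
          exact Set.ext fun z => ⟨fun ⟨p, hp⟩ => hp ▸ ht₀ p,
            fun hz => ⟨IsLocalRing.closedPoint K, (ht₀ _).trans hz.symm⟩⟩
        have hconn : _root_.IsPreconnected (Scheme.Opens.ι W '' (f₀ ⁻¹' {t})) := by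
          rw [← hrange, ← Set.image_univ]
          exact (((IrreducibleSpace.isIrreducible_univ _).image _ (pullback.fst f₀ t₀).continuous.continuousOn).image _
            (Scheme.Opens.ι W).continuous.continuousOn).isConnected.isPreconnected
        have hfib : ∀ v : W, G.hom v.1 = Scheme.Opens.ι S₀ t →
            (v : Scheme.Opens.toScheme W) ∈ f₀ ⁻¹' {t} := fun v hv => by
          refine (Scheme.Opens.ι S₀).isOpenEmbedding.injective ?_
          rw [← Scheme.Hom.comp_apply, hf₀]
          exact hv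
        have htg' : Scheme.Opens.ι S₀ t = G.hom (μ[G].left q) := htg
        rw [mem_neutralSet_iff, hwt]
        refine hconn.subset_connectedComponentIn (s := _) ⟨⟨_, heWg⟩, hfib ⟨_, heWg⟩ ?_, rfl⟩ ?_
          ⟨⟨w, hw⟩, hfib ⟨w, hw⟩ (hwt.trans htg'.symm), rfl⟩
        · change G.hom (η[G].left (G.hom (μ[G].left q))) = Scheme.Opens.ι S₀ t
          rw [hom_unit]; exact htg'.symm
        · rintro _ ⟨v, hv, rfl⟩
          change G.hom (Scheme.Opens.ι W v) = G.hom (μ[G].left q)
          rw [← Scheme.Hom.comp_apply, ← hf₀, Scheme.Hom.comp_apply, show f₀ v = t from hv]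
          exact htg'
      refine mul_mem_neutralSet G q (hG _) (hW' _ h₁ ?_) (hW' _ h₂ ?_)
      · rw [hqs, ← Scheme.Hom.comp_apply, Over.w (fst G G)]
      · rw [hqs, ← Scheme.Hom.comp_apply, Over.w (snd G G)]

theorem isIndConstructible_neutralSet [LocallyOfFinitePresentation G.hom] :
    ProCons.IsIndConstructible (SGA3x.neutralSet G) := by
  refine GrothLib.Constr.isIndConstructible_of_pieces fun g hg => ?_
  obtain ⟨S₀, W, N, -, -, -, hsN, -, hN, hiff⟩ := exists_pieces G (G.hom g)
  haveI : LocallyOfFinitePresentation μ[G].left :=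
    GrothLib.GrpSchField.mul_property (G := G) @LocallyOfFinitePresentation inferInstance
  have hT := GrothLib.Constr.isIndConstructible_inter (GrothLib.Constr.isIndConstructible_preimage G.hom hN)
    (GrothLib.Constr.isIndConstructible_image μ[G].left (GrothLib.Constr.isIndConstructible_of_isOpen
      ((W.2.preimage (fst G G).left.continuous).inter (W.2.preimage (snd G G).left.continuous))))
  obtain ⟨U, hU, hgU, T, hgT, hTE, hT'⟩ := GrothLib.Constr.exists_piece_of_isIndConstructible hT
    (x := g) ⟨hsN, (hiff g hsN).mp hg⟩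
  exact ⟨U, hU, hgU, T, hgT, fun x hx => (hiff x (hTE hx).1).mpr (hTE hx).2, hT'⟩

theorem isProConstructible_neutralSet [LocallyOfFinitePresentation G.hom] [QuasiSeparated G.hom] :
    ProCons.IsProConstructible (SGA3x.neutralSet G) := by
  rw [GrothLib.Constr.isProConstructible_iff_compl]
  refine GrothLib.Constr.isIndConstructible_of_pieces fun g hg => ?_
  obtain ⟨S₀, W, N, hS₀, hW, hWS, hsN, hNS, hN, hiff⟩ := exists_pieces G (G.hom g)
  haveI : IsAffine S₀.toScheme := hS₀
  haveI : IsAffine W.toScheme := hW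
  let G₀ : G.left.Opens := G.hom ⁻¹ᵁ S₀
  haveI : QuasiSeparated (G.hom ∣_ S₀) := inferInstance
  haveI : QuasiSeparatedSpace G₀.toScheme :=
    (HasAffineProperty.iff_of_isAffine (P := @QuasiSeparated) (f := G.hom ∣_ S₀)).mp inferInstance
  have hf : Set.range (W.ι ≫ G.hom) ⊆ Set.range S₀.ι := by
    rintro _ ⟨w, rfl⟩
    rw [Scheme.Opens.range_ι]
    exact hWS w.2
  let f₀ := IsOpenImmersion.lift S₀.ι (W.ι ≫ G.hom) hf
  haveI : QuasiCompact f₀ := (quasiCompact_iff_compactSpace _).mpr inferInstance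
  haveI : CompactSpace ↥(pullback f₀ f₀) := inferInstance
  let J : pullback f₀ f₀ ⟶ (G ⊗ G).left :=
    pullback.map f₀ f₀ G.hom G.hom W.ι W.ι S₀.ι (IsOpenImmersion.lift_fac ..) (IsOpenImmersion.lift_fac ..)
  have hJ : Set.range J = _ := Scheme.Pullback.range_map f₀ f₀ G.hom G.hom W.ι W.ι S₀.ι
    (IsOpenImmersion.lift_fac ..) (IsOpenImmersion.lift_fac ..)
  rw [Scheme.Opens.range_ι] at hJ
  replace hJ : Set.range J = (fst G G).left ⁻¹' (W : Set G.left) ∩ (snd G G).left ⁻¹' (W : Set G.left) := hJ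
  have hF : Set.range (J ≫ μ[G].left) ⊆ Set.range G₀.ι := by
    rintro _ ⟨v, rfl⟩
    rw [Scheme.Opens.range_ι]
    change G.hom ((J ≫ μ[G].left) v) ∈ S₀
    rw [Scheme.Hom.comp_apply, ← Scheme.Hom.comp_apply μ[G].left, Over.w μ[G], ← Over.w (fst G G),
      Scheme.Hom.comp_apply]
    exact hWS (hJ.le ⟨v, rfl⟩).1
  let F : pullback f₀ f₀ ⟶ G₀.toScheme := IsOpenImmersion.lift G₀.ι (J ≫ μ[G].left) hF
  haveI : QuasiCompact (F ≫ G₀.toScheme.toSpecΓ) := (quasiCompact_iff_compactSpace _).mpr inferInstance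
  haveI : QuasiCompact F := QuasiCompact.of_comp F G₀.toScheme.toSpecΓ
  have hFu : ProCons.IsProConstructible (F '' Set.univ) := GrothLib.Constr.isProConstructible_image F
    (GrothLib.Constr.isProConstructible_of_isLocallyConstructible IsLocallyConstructible.univ)
  have hT := GrothLib.Constr.isIndConstructible_inter (GrothLib.Constr.isIndConstructible_preimage G.hom hN)
    (GrothLib.Constr.isIndConstructible_image G₀.ι (GrothLib.Constr.isProConstructible_iff_compl.mp hFu))
  have hmem : ∀ x : G₀.toScheme, x ∈ (F '' Set.univ)ᶜ ↔ G₀.ι x ∉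
      μ[G].left '' ((fst G G).left ⁻¹' (W : Set G.left) ∩ (snd G G).left ⁻¹' (W : Set G.left)) := fun x => by
    rw [Set.mem_compl_iff, not_iff_not, ← hJ]
    constructor
    · rintro ⟨v, -, rfl⟩
      refine ⟨J v, ⟨v, rfl⟩, ?_⟩
      rw [← Scheme.Hom.comp_apply, ← Scheme.Hom.comp_apply, IsOpenImmersion.lift_fac]
    · rintro ⟨_, ⟨v, rfl⟩, hv⟩
      refine ⟨v, trivial, G₀.ι.isOpenEmbedding.injective ?_⟩
      rw [← hv, ← Scheme.Hom.comp_apply, IsOpenImmersion.lift_fac, Scheme.Hom.comp_apply]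
  obtain ⟨U, hU, hgU, T, hgT, hTE, hT'⟩ := GrothLib.Constr.exists_piece_of_isIndConstructible hT
    (x := g) ⟨hsN, ⟨g, hNS hsN⟩, (hmem _).mpr (fun h => hg ((hiff g hsN).mpr h)), rfl⟩
  refine ⟨U, hU, hgU, T, hgT, fun x hx hxE => ?_, hT'⟩
  obtain ⟨hxN, y, hy, rfl⟩ := hTE hx
  exact (hmem y).mp hy ((hiff _ hxN).mp hxE)

theorem isLocallyConstructible_neutralSet [LocallyOfFinitePresentation G.hom] [QuasiSeparated G.hom] :
    IsLocallyConstructible (SGA3x.neutralSet G) :=
  GrothLib.Constr.isLocallyConstructible_iff_ind_and_pro.mpr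
    ⟨isIndConstructible_neutralSet G, isProConstructible_neutralSet G⟩

theorem isConstructible_neutralSet [LocallyOfFinitePresentation G.hom] [QuasiSeparated G.hom]
    [CompactSpace S] [QuasiSeparatedSpace S] : IsConstructible (SGA3x.neutralSet G) := by
  haveI : QuasiSeparatedSpace (⊤ : S.Opens).toScheme :=
    QuasiSeparatedSpace.of_isOpenEmbedding (⊤ : S.Opens).ι.isOpenEmbedding
  obtain ⟨U, hU, -, hsub⟩ := exists_isCompact_supset G (fun t => MorphismProperty.pullback_snd _ _ inferInstance)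
    ⊤ isCompact_univ
  haveI : QuasiSeparatedSpace G.left := quasiSeparatedSpace_of_quasiSeparated G.hom
  haveI : CompactSpace U.toScheme := isCompact_iff_compactSpace.mp hU
  haveI : QuasiCompact (U.ι ≫ G.left.toSpecΓ) := (quasiCompact_iff_compactSpace _).mpr inferInstance
  haveI : QuasiCompact U.ι := QuasiCompact.of_comp U.ι G.left.toSpecΓ
  haveI : QuasiSeparatedSpace U.toScheme := QuasiSeparatedSpace.of_isOpenEmbedding U.ι.isOpenEmbedding
  have h1 : IsLocallyConstructible (U.ι ⁻¹' SGA3x.neutralSet G) :=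
    GrothLib.Constr.isLocallyConstructible_preimage U.ι (isLocallyConstructible_neutralSet G)
  have h2 := h1.isConstructible.image_of_isOpenEmbedding U.ι.isOpenEmbedding
    (by rw [Scheme.Opens.range_ι]; exact hU.isRetrocompact U.2)
  rwa [Set.image_preimage_eq_of_subset] at h2
  rw [Scheme.Opens.range_ι]
  exact fun g hg => hsub ⟨hg, trivial⟩

end GrothLib.Neutral
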