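import Groth.Agent.Lib.Constr.Scheme
import Mathlib.AlgebraicGeometry.Morphisms.Etale
import Mathlib.AlgebraicGeometry.Morphisms.FlatMono
import Mathlib.RingTheory.Etale.Basic
import Mathlib.RingTheory.FinitePresentation

/-!
A monomorphism representing the morphisms which land in an ind-constructible set is an open immersion.
-/

universe u

open CategoryTheory CategoryTheory.Limits AlgebraicGeometry Topology

set_option backward.isDefEq.respectTransparency false

namespace GrothLib.Neutral

/-- A retract of an algebra of finite presentation is of finite presentation. -/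
theorem finitePresentation_of_retract {B A D : Type u} [CommRing B] [CommRing A] [CommRing D]
    [Algebra B A] [Algebra B D] [Algebra.FinitePresentation B A] (p : A →ₐ[B] D) (s : D →ₐ[B] A)
    (h : p.comp s = AlgHom.id B D) : Algebra.FinitePresentation B D := by
  classical
  have hps : ∀ d, p (s d) = d := fun d => congr($h d)
  obtain ⟨n, π, hπ⟩ := Algebra.FiniteType.iff_quotient_mvPolynomial''.mp
    (inferInstance : Algebra.FiniteType B A)
  let G : Finset A := Finset.univ.image fun j => π (MvPolynomial.X j) - s (p (π (MvPolynomial.X j)))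
  refine Algebra.FinitePresentation.of_surjective (f := p) (fun d => ⟨s d, hps d⟩) ⟨G, le_antisymm ?_ ?_⟩
  · refine Ideal.span_le.mpr fun x hx => ?_
    obtain ⟨j, -, rfl⟩ := Finset.mem_image.mp hx
    simp [RingHom.mem_ker, hps]
  · intro a ha
    let q := Ideal.Quotient.mkₐ B (Ideal.span (G : Set A))
    have key : (q.comp ((s.comp p).comp π)) = q.comp π := MvPolynomial.algHom_ext fun j => by
      refine (Ideal.Quotient.eq.mpr ?_).symm
      exact Ideal.subset_span (Finset.mem_image.mpr ⟨j, Finset.mem_univ _, rfl⟩)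
    obtain ⟨b, rfl⟩ := hπ a
    have h2 : q (π b) = q (s (p (π b))) := (congr($key b)).symm
    have h3 : p (π b) = 0 := RingHom.mem_ker.mp ha
    rw [h3, map_zero, map_zero] at h2
    exact Ideal.Quotient.eq_zero_iff_mem.mp h2

/-- An algebra whose spectrum lands in an ind-constructible set receives a map from an algebra of finite
presentation with the same property. -/
theorem exists_finitePresentation_factor {B C : Type u} [CommRing B] [CommRing C] [Algebra B C]
    {E : Set (Spec (CommRingCat.of B))} (hE : ProCons.IsIndConstructible E)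
    (h : Set.range (Spec.map (CommRingCat.ofHom (algebraMap B C))) ⊆ E) :
    ∃ (C' : Type u) (_ : CommRing C') (_ : Algebra B C') (_ : Algebra.FinitePresentation B C') (_ : C' →ₐ[B] C),
      Set.range (Spec.map (CommRingCat.ofHom (algebraMap B C'))) ⊆ E := by
  classical
  let P := MvPolynomial C B
  let π : P →ₐ[B] C := MvPolynomial.aeval id
  let σ : Spec (CommRingCat.of P) ⟶ Spec (CommRingCat.of B) := Spec.map (CommRingCat.ofHom (algebraMap B P))
  let F : RingHom.ker π → Set (Spec (CommRingCat.of P)) :=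
    fun f => ((PrimeSpectrum.basicOpen (f : P) : Set (PrimeSpectrum P)))ᶜ
  have hF : ∀ f, ProCons.IsProConstructible (F f) := fun f => by
    rw [GrothLib.Constr.isProConstructible_iff_compl]
    simp only [F, compl_compl]
    exact GrothLib.Constr.isIndConstructible_of_isOpen (PrimeSpectrum.basicOpen (f : P)).2
  obtain ⟨K, hK⟩ := GrothLib.Constr.exists_finite_subfamily (GrothLib.Constr.isIndConstructible_preimage σ hE) hF
    (by
      intro q hq
      rw [Set.mem_iInter] at hq
      have hsurj : Function.Surjective π := fun c => ⟨MvPolynomial.X c, MvPolynomial.aeval_X id c⟩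
      have hle : RingHom.ker π ≤ (q : PrimeSpectrum P).asIdeal := fun f hf => by
        have := hq ⟨f, hf⟩
        by_contra hne
        exact this hne
      obtain ⟨r, hr⟩ : (q : PrimeSpectrum P) ∈ Set.range (PrimeSpectrum.comap π.toRingHom) := by
        rw [range_comap_of_surjective _ _ hsurj]
        exact hle
      refine h ⟨r, ?_⟩
      rw [← hr]
      change PrimeSpectrum.comap (algebraMap B C) r =
        PrimeSpectrum.comap (algebraMap B P) (PrimeSpectrum.comap π.toRingHom r)
      rw [← PrimeSpectrum.comap_comp_apply]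
      exact congrArg (fun φ : B →+* C => PrimeSpectrum.comap φ r) π.comp_algebraMap.symm)
  let J : Finset C := K.biUnion fun f => (f : P).vars
  have hmem : ∀ f : K, ∃ g : MvPolynomial J B, MvPolynomial.rename (Subtype.val : J → C) g = ((f.1 : RingHom.ker π) : P) := by
    intro f
    have hsub : (↑((f.1 : P)).vars : Set C) ⊆ Set.range (Subtype.val : J → C) := fun x hx =>
      ⟨⟨x, Finset.mem_biUnion.mpr ⟨f.1, f.2, hx⟩⟩, rfl⟩
    exact MvPolynomial.exists_rename_eq_of_vars_subset_range _ _ Subtype.val_injective hsub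
  choose g hg using hmem
  let r : P →ₐ[B] MvPolynomial J B := MvPolynomial.aeval fun c => if hc : c ∈ J then MvPolynomial.X ⟨c, hc⟩ else 0
  have hr : ∀ p, r (MvPolynomial.rename (Subtype.val : J → C) p) = p := fun p => by
    refine (MvPolynomial.aeval_rename _ _ p).trans ?_
    rw [show (fun c => if hc : c ∈ J then MvPolynomial.X ⟨c, hc⟩ else 0) ∘ (Subtype.val : J → C) =
      (MvPolynomial.X : J → MvPolynomial J B) from funext fun j => dif_pos j.2]
    exact MvPolynomial.aeval_X_left_apply p
  let I : Ideal (MvPolynomial J B) := Ideal.span (Set.range g)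
  let π' : MvPolynomial J B ⧸ I →ₐ[B] C := Ideal.Quotient.liftₐ I (π.comp (MvPolynomial.rename Subtype.val)) (by
    intro a ha
    induction ha using Submodule.span_induction with
    | mem x hx =>
      obtain ⟨f, rfl⟩ := hx
      rw [AlgHom.comp_apply, hg]
      exact f.1.2
    | zero => exact map_zero _
    | add x y _ _ hx hy => rw [map_add, hx, hy, add_zero]
    | smul c x _ hx => rw [smul_eq_mul, map_mul, hx, mul_zero])
  refine ⟨MvPolynomial J B ⧸ I, inferInstance, inferInstance,
    Algebra.FinitePresentation.quotient (Submodule.fg_span (Set.finite_range g)), π', ?_⟩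
  rintro _ ⟨p, rfl⟩
  let q : PrimeSpectrum P :=
    PrimeSpectrum.comap ((Ideal.Quotient.mkₐ B I).comp r).toRingHom (p : PrimeSpectrum (MvPolynomial J B ⧸ I))
  have hq : q ∈ ⋂ f ∈ K, F f := Set.mem_iInter₂.mpr fun f hf => by
    change ¬ (f : P) ∉ q.asIdeal
    rw [not_not]
    change Ideal.Quotient.mk I (r (f : P)) ∈ (p : PrimeSpectrum (MvPolynomial J B ⧸ I)).asIdeal
    rw [← hg ⟨f, hf⟩, hr,
      show Ideal.Quotient.mk I (g ⟨f, hf⟩) = 0 from Ideal.Quotient.eq_zero_iff_mem.mpr (Ideal.subset_span ⟨_, rfl⟩)]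
    exact zero_mem _
  have hqE := hK hq
  rw [Set.mem_preimage] at hqE
  refine Set.mem_of_eq_of_mem ?_ hqE
  change PrimeSpectrum.comap (algebraMap B (MvPolynomial J B ⧸ I)) p =
    PrimeSpectrum.comap (algebraMap B P) (PrimeSpectrum.comap ((Ideal.Quotient.mkₐ B I).comp r).toRingHom p)
  rw [← PrimeSpectrum.comap_comp_apply]
  exact congrArg (fun φ : B →+* _ => PrimeSpectrum.comap φ p)
    ((Ideal.Quotient.mkₐ B I).comp r).comp_algebraMap.symm

/-- The infinitesimal criterion on a chart: a monomorphism representing the morphisms which land in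
a set containing its image is etale on every finitely presented affine chart. -/
theorem etale_chart_of_rep {X X0 : Scheme.{u}} (i : X0 ⟶ X) [Mono i] {E : Set X}
    (hi : Set.range i ⊆ E)
    (hrep : ∀ {T : Scheme.{u}} (g : T ⟶ X), Set.range g ⊆ E → ∃ z, z ≫ i = g) {B D : Type u} [CommRing B] [CommRing D] [Algebra B D]
    [Algebra.FinitePresentation B D] (wB : Spec (CommRingCat.of B) ⟶ X) [IsOpenImmersion wB]
    (j : Spec (CommRingCat.of D) ⟶ X0) [IsOpenImmersion j]
    (hj : j ≫ i = Spec.map (CommRingCat.ofHom (algebraMap B D)) ≫ wB) :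
    Etale (j.opensRange.ι ≫ i) := by
  haveI : Algebra.FormallyEtale B D := by
    rw [Algebra.FormallyEtale.iff_comp_bijective]
    intro R _ _ I hI
    refine ⟨fun ψ₁ ψ₂ _ => AlgHom.coe_ringHom_injective ?_, fun χ => ?_⟩
    · have key : ∀ ψ : D →ₐ[B] R, Spec.map (CommRingCat.ofHom ψ.toRingHom) ≫ j ≫ i =
          Spec.map (CommRingCat.ofHom (algebraMap B R)) ≫ wB := fun ψ => by
        rw [hj, ← Category.assoc, ← Spec.map_comp, ← CommRingCat.ofHom_comp,
          show ψ.toRingHom.comp (algebraMap B D) = algebraMap B R from ψ.comp_algebraMap]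
      exact congrArg CommRingCat.Hom.hom (Spec.map_injective
        ((cancel_mono (j ≫ i)).mp ((key ψ₁).trans (key ψ₂).symm)))
    · let qI : Spec (CommRingCat.of (R ⧸ I)) ⟶ Spec (CommRingCat.of R) :=
        Spec.map (CommRingCat.ofHom (Ideal.Quotient.mk I))
      have hsurj : Function.Surjective qI := fun p => by
        have : (p : PrimeSpectrum R) ∈ Set.range (PrimeSpectrum.comap (Ideal.Quotient.mk I)) := by
          rw [range_comap_of_surjective _ _ Ideal.Quotient.mk_surjective, Ideal.mk_ker]
          intro a ha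
          have h2 : a ^ 2 = 0 := by
            have := Ideal.pow_mem_pow ha 2
            rwa [hI, Ideal.mem_bot] at this
          exact (p : PrimeSpectrum R).2.mem_of_pow_mem 2 (h2 ▸ zero_mem _)
        exact this
      let gR : Spec (CommRingCat.of R) ⟶ X := Spec.map (CommRingCat.ofHom (algebraMap B R)) ≫ wB
      have hχ : qI ≫ gR = Spec.map (CommRingCat.ofHom χ.toRingHom) ≫ j ≫ i := by
        simp only [gR, qI]
        rw [hj, ← Category.assoc, ← Category.assoc, ← Spec.map_comp, ← Spec.map_comp, ← CommRingCat.ofHom_comp,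
          ← CommRingCat.ofHom_comp,
          show χ.toRingHom.comp (algebraMap B D) = algebraMap B (R ⧸ I) from χ.comp_algebraMap]
        rfl
      obtain ⟨y, hy⟩ := hrep gR (by
        rintro _ ⟨p, rfl⟩
        obtain ⟨p, rfl⟩ := hsurj p
        refine hi ⟨j (Spec.map (CommRingCat.ofHom χ.toRingHom) p), ?_⟩
        rw [← Scheme.Hom.comp_apply qI, hχ]
        rfl)
      have hqy : qI ≫ y = Spec.map (CommRingCat.ofHom χ.toRingHom) ≫ j := by
        rw [← cancel_mono i, Category.assoc, hy, hχ]
        simp only [Category.assoc]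
      obtain ⟨y', hy'⟩ : ∃ y', y' ≫ j = y := by
        refine ⟨IsOpenImmersion.lift j y ?_, IsOpenImmersion.lift_fac _ _ _⟩
        rintro _ ⟨p, rfl⟩
        obtain ⟨p, rfl⟩ := hsurj p
        rw [← Scheme.Hom.comp_apply, hqy]
        exact ⟨_, rfl⟩
      obtain ⟨ψ, hψ⟩ := Spec.map_surjective y'
      have hψB : ψ.hom.comp (algebraMap B D) = algebraMap B R := by
        have h1 : Spec.map ψ ≫ Spec.map (CommRingCat.ofHom (algebraMap B D)) =
            Spec.map (CommRingCat.ofHom (algebraMap B R)) := by
          rw [← cancel_mono wB, Category.assoc, ← hj, hψ, ← Category.assoc, hy', hy]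
        rw [← Spec.map_comp] at h1
        exact congrArg CommRingCat.Hom.hom (Spec.map_injective h1)
      refine ⟨{ ψ.hom with commutes' := fun b => congr($hψB b) }, AlgHom.coe_ringHom_injective ?_⟩
      have h2 : qI ≫ Spec.map ψ = Spec.map (CommRingCat.ofHom χ.toRingHom) := by
        rw [← cancel_mono j, Category.assoc, hψ, hy', hqy]
      rw [← Spec.map_comp] at h2
      exact congrArg CommRingCat.Hom.hom (Spec.map_injective h2)
  haveI : Algebra.Etale B D := ⟨inferInstance, inferInstance⟩
  haveI : Etale (Spec.map (CommRingCat.ofHom (algebraMap B D))) :=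
    (HasRingHomProperty.Spec_iff (P := @Etale)).mpr (RingHom.etale_algebraMap.mpr inferInstance)
  have he : j.opensRange.ι ≫ i = j.isoOpensRange.inv ≫ Spec.map (CommRingCat.ofHom (algebraMap B D)) ≫ wB := by
    rw [← hj, ← Category.assoc, Scheme.Hom.isoOpensRange_inv_comp]
  rw [he]
  infer_instance

/-- A monomorphism representing the morphisms which land in an ind-constructible set is an open
immersion. -/
theorem isOpenImmersion_of_rep {X X0 : Scheme.{u}} (i : X0 ⟶ X) [Mono i] {E : Set X}
    (hE : ProCons.IsIndConstructible E) (hi : Set.range i ⊆ E)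
    (hrep : ∀ {T : Scheme.{u}} (g : T ⟶ X), Set.range g ⊆ E → ∃ z, z ≫ i = g) : IsOpenImmersion i := by
  suffices key : ∀ z : X0, ∃ O : X0.Opens, z ∈ O ∧ Etale (O.ι ≫ i) by
    choose O hO hOe using key
    haveI : Etale i := by
      refine (IsZariskiLocalAtSource.iff_of_openCover (P := @Etale)
        (Scheme.openCoverOfIsOpenCover X0 O ?_)).mpr hOe
      exact TopologicalSpace.IsOpenCover.mk (eq_top_iff.mpr fun z _ =>
        TopologicalSpace.Opens.mem_iSup.mpr ⟨z, hO z⟩)
    exact IsOpenImmersion.of_flat_of_mono i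
  intro z
  obtain ⟨_, ⟨(W : X.Opens), hW, rfl⟩, hzW, -⟩ := X.isBasis_affineOpens.exists_subset_of_mem_open
    (Set.mem_univ (i z)) isOpen_univ
  obtain ⟨_, ⟨(U : X0.Opens), hU, rfl⟩, hzU, hUW'⟩ := X0.isBasis_affineOpens.exists_subset_of_mem_open
    (show z ∈ i ⁻¹ᵁ W from hzW) (i ⁻¹ᵁ W).2
  have hUW : U ≤ i ⁻¹ᵁ W := hUW'
  have hU : IsAffineOpen U := hU
  have hW : IsAffineOpen W := hW
  let B : Type u := Γ(X, W)
  let C : Type u := Γ(X0, U)
  let _ : Algebra B C := (i.appLE W U hUW).hom.toAlgebra
  have sq : hU.fromSpec ≫ i = Spec.map (CommRingCat.ofHom (algebraMap B C)) ≫ hW.fromSpec :=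
    (hW.SpecMap_appLE_fromSpec i hU hUW).symm
  let E' : Set (Spec (CommRingCat.of B)) := hW.fromSpec ⁻¹' E
  obtain ⟨C', _, _, _, π', hC'⟩ := exists_finitePresentation_factor (C := C) (E := E')
    (GrothLib.Constr.isIndConstructible_preimage hW.fromSpec hE) (by
      rintro _ ⟨p, rfl⟩
      refine hi ⟨hU.fromSpec p, ?_⟩
      rw [← Scheme.Hom.comp_apply, sq]
      rfl)
  obtain ⟨φ, hφ⟩ := hrep (Spec.map (CommRingCat.ofHom (algebraMap B C')) ≫ hW.fromSpec) (by
    rintro _ ⟨p, rfl⟩
    exact hC' ⟨p, rfl⟩)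
  let πS : Spec (CommRingCat.of C) ⟶ Spec (CommRingCat.of C') := Spec.map (CommRingCat.ofHom π'.toRingHom)
  have hπS : πS ≫ Spec.map (CommRingCat.ofHom (algebraMap B C')) = Spec.map (CommRingCat.ofHom (algebraMap B C)) := by
    rw [← Spec.map_comp, ← CommRingCat.ofHom_comp]
    exact congrArg (fun ψ : B →+* C => Spec.map (CommRingCat.ofHom ψ)) π'.comp_algebraMap
  have hπφ : πS ≫ φ = hU.fromSpec := by
    rw [← cancel_mono i, Category.assoc, hφ, ← Category.assoc, hπS, sq]
  obtain ⟨qz, hqz⟩ : z ∈ Set.range hU.fromSpec := by rw [hU.range_fromSpec]; exact hzU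
  -- shrink the finitely presented algebra into the chart
  obtain ⟨_, ⟨h, rfl⟩, hxh, hhU⟩ := PrimeSpectrum.isTopologicalBasis_basic_opens.exists_subset_of_mem_open
    (show πS qz ∈ (φ ⁻¹ᵁ U : Set (Spec (CommRingCat.of C'))) by
      change φ (πS qz) ∈ U
      rw [← Scheme.Hom.comp_apply, hπφ]
      exact Set.mem_of_eq_of_mem hqz hzU) (φ ⁻¹ᵁ U).2
  let C'' : Type u := Localization.Away h
  let ℓ : Spec (CommRingCat.of C'') ⟶ Spec (CommRingCat.of C') :=
    Spec.map (CommRingCat.ofHom (algebraMap C' C''))
  obtain ⟨s₀, hs₀⟩ : ∃ s₀ : Spec (CommRingCat.of C'') ⟶ Spec (CommRingCat.of C), s₀ ≫ hU.fromSpec = ℓ ≫ φ := by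
    refine ⟨IsOpenImmersion.lift hU.fromSpec (ℓ ≫ φ) ?_, IsOpenImmersion.lift_fac _ _ _⟩
    rintro _ ⟨p, rfl⟩
    refine hU.range_fromSpec.ge ?_
    refine hhU ?_
    have := PrimeSpectrum.localization_away_comap_range C'' h
    exact this.le ⟨p, rfl⟩
  obtain ⟨sR, hsR⟩ := Spec.map_surjective s₀
  have hsB : sR.hom.comp (algebraMap B C) = algebraMap B C'' := by
    have h1 : Spec.map sR ≫ Spec.map (CommRingCat.ofHom (algebraMap B C)) =
        Spec.map (CommRingCat.ofHom (algebraMap B C'')) := by
      rw [← cancel_mono hW.fromSpec, Category.assoc, ← sq, hsR, ← Category.assoc, hs₀, Category.assoc, hφ,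
        IsScalarTower.algebraMap_eq B C' C'', CommRingCat.ofHom_comp, Spec.map_comp, Category.assoc]
    rw [← Spec.map_comp] at h1
    exact congrArg CommRingCat.Hom.hom (Spec.map_injective h1)
  let s : C →ₐ[B] C'' := { sR.hom with commutes' := fun b => congr($hsB b) }
  let hb : C := π' h
  let D : Type u := Localization.Away hb
  have hhb : IsUnit ((IsScalarTower.toAlgHom B C D).comp π' h) :=
    IsLocalization.map_units D (⟨hb, 1, by simp⟩ : Submonoid.powers hb)
  let ω : C'' →ₐ[B] D := IsLocalization.liftAlgHom (M := Submonoid.powers h)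
    (f := (IsScalarTower.toAlgHom B C D).comp π') (by
      rintro ⟨_, k, rfl⟩
      rw [map_pow]
      exact hhb.pow k)
  have hω : ∀ a, ω (algebraMap C' C'' a) = algebraMap C D (π' a) := fun a => IsLocalization.lift_eq _ _
  let jD : Spec (CommRingCat.of D) ⟶ Spec (CommRingCat.of C) := Spec.map (CommRingCat.ofHom (algebraMap C D))
  haveI : IsOpenImmersion jD := IsOpenImmersion.of_isLocalization hb
  have hcomp : Spec.map (CommRingCat.ofHom ω.toRingHom) ≫ ℓ = jD ≫ πS := by
    rw [← Spec.map_comp, ← Spec.map_comp, ← CommRingCat.ofHom_comp, ← CommRingCat.ofHom_comp]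
    exact congrArg (fun ψ : C' →+* D => Spec.map (CommRingCat.ofHom ψ)) (RingHom.ext hω)
  have hωs : ∀ c, ω (s c) = algebraMap C D c := by
    have h1 : Spec.map (CommRingCat.ofHom ω.toRingHom) ≫ s₀ = jD := by
      rw [← cancel_mono hU.fromSpec, Category.assoc, hs₀, ← Category.assoc, hcomp, Category.assoc, hπφ]
    rw [← hsR, ← Spec.map_comp] at h1
    exact fun c => congr($(congrArg CommRingCat.Hom.hom (Spec.map_injective h1)) c)
  let C3 : Type u := Localization.Away (s hb)
  let sD : D →ₐ[B] C3 := IsLocalization.liftAlgHom (M := Submonoid.powers hb)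
    (f := (IsScalarTower.toAlgHom B C'' C3).comp s) (by
      rintro ⟨_, k, rfl⟩
      rw [map_pow]
      exact (IsLocalization.map_units C3 (⟨s hb, 1, by simp⟩ : Submonoid.powers (s hb))).pow k)
  let pD : C3 →ₐ[B] D := IsLocalization.liftAlgHom (M := Submonoid.powers (s hb)) (f := ω) (by
      rintro ⟨_, k, rfl⟩
      rw [map_pow, hωs]
      exact (IsLocalization.map_units D (⟨hb, 1, by simp⟩ : Submonoid.powers hb)).pow k)
  have hretract : pD.comp sD = AlgHom.id B D := by
    refine IsLocalization.algHom_ext (Submonoid.powers hb) (AlgHom.ext fun c => ?_)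
    change pD (sD (algebraMap C D c)) = algebraMap C D c
    rw [show sD (algebraMap C D c) = algebraMap C'' C3 (s c) from IsLocalization.lift_eq _ _]
    exact (IsLocalization.lift_eq _ _).trans (hωs c)
  haveI : Algebra.FinitePresentation B C'' :=
    haveI : Algebra.FinitePresentation C' C'' := IsLocalization.Away.finitePresentation h
    Algebra.FinitePresentation.trans B C' C''
  haveI : Algebra.FinitePresentation B C3 :=
    haveI : Algebra.FinitePresentation C'' C3 := IsLocalization.Away.finitePresentation (s hb)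
    Algebra.FinitePresentation.trans B C'' C3
  haveI : Algebra.FinitePresentation B D := finitePresentation_of_retract pD sD hretract
  let j : Spec (CommRingCat.of D) ⟶ X0 := jD ≫ hU.fromSpec
  have hj : j ≫ i = Spec.map (CommRingCat.ofHom (algebraMap B D)) ≫ hW.fromSpec := by
    simp only [j, jD, Category.assoc, sq]
    rw [← Category.assoc, ← Spec.map_comp, ← CommRingCat.ofHom_comp, ← IsScalarTower.algebraMap_eq B C D]
  refine ⟨j.opensRange, ?_, ?_⟩
  · obtain ⟨d, hd⟩ : qz ∈ Set.range jD := by
      have := PrimeSpectrum.localization_away_comap_range D hb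
      exact this.ge hxh
    exact ⟨d, by rw [Scheme.Hom.comp_apply, hd]; exact hqz⟩
  · exact etale_chart_of_rep i hi hrep hW.fromSpec j hj

/-- A monomorphism locally of finite presentation representing the morphisms which land in a set
containing its image is an open immersion. -/
theorem isOpenImmersion_of_rep_of_lfp {X X0 : Scheme.{u}} (i : X0 ⟶ X) [Mono i]
    [LocallyOfFinitePresentation i] {E : Set X} (hi : Set.range i ⊆ E)
    (hrep : ∀ {T : Scheme.{u}} (g : T ⟶ X), Set.range g ⊆ E → ∃ z, z ≫ i = g) : IsOpenImmersion i := by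
  suffices key : ∀ z : X0, ∃ O : X0.Opens, z ∈ O ∧ Etale (O.ι ≫ i) by
    choose O hO hOe using key
    haveI : Etale i := by
      refine (IsZariskiLocalAtSource.iff_of_openCover (P := @Etale)
        (Scheme.openCoverOfIsOpenCover X0 O ?_)).mpr hOe
      exact TopologicalSpace.IsOpenCover.mk (eq_top_iff.mpr fun z _ =>
        TopologicalSpace.Opens.mem_iSup.mpr ⟨z, hO z⟩)
    exact IsOpenImmersion.of_flat_of_mono i
  intro z
  obtain ⟨_, ⟨(W : X.Opens), hW, rfl⟩, hzW, -⟩ := X.isBasis_affineOpens.exists_subset_of_mem_open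
    (Set.mem_univ (i z)) isOpen_univ
  obtain ⟨_, ⟨(U : X0.Opens), hU, rfl⟩, hzU, hUW'⟩ := X0.isBasis_affineOpens.exists_subset_of_mem_open
    (show z ∈ i ⁻¹ᵁ W from hzW) (i ⁻¹ᵁ W).2
  have hUW : U ≤ i ⁻¹ᵁ W := hUW'
  have hU : IsAffineOpen U := hU
  have hW : IsAffineOpen W := hW
  let B : Type u := Γ(X, W)
  let C : Type u := Γ(X0, U)
  let _ : Algebra B C := (i.appLE W U hUW).hom.toAlgebra
  haveI : Algebra.FinitePresentation B C := i.finitePresentation_appLE hW hU hUW
  refine ⟨hU.fromSpec.opensRange, ?_, etale_chart_of_rep i hi hrep hW.fromSpec (D := C) hU.fromSpec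
    (hW.SpecMap_appLE_fromSpec i hU hUW).symm⟩
  change z ∈ Set.range hU.fromSpec
  rw [hU.range_fromSpec]
  exact hzU

end GrothLib.Neutral
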