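import Groth.Agent.Lib.Neutral.Constructible
import Groth.Agent.Lib.LimStage.Fiber
import Mathlib.AlgebraicGeometry.AffineTransitionLimit

/-!
Points of the neutral components over a limit come from a stage.
-/

universe u

open CategoryTheory CategoryTheory.Limits AlgebraicGeometry Topology

set_option backward.isDefEq.respectTransparency false

namespace GrothLib.Neutral

variable {I : Type u} [SmallCategory I] [IsCofiltered I]
  (D : I ⥤ Scheme.{u}) (c : Limits.Cone D) (hc : Limits.IsLimit c)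
  [∀ (i i' : I) (f : i ⟶ i'), IsAffineHom (D.map f)]

include hc in
/-- An ind-constructible set containing the image of the limit contains the image of a stage. -/
theorem exists_stage_range_subset (i : I) [CompactSpace (D.obj i)] {E : Set (D.obj i)}
    (hE : ProCons.IsIndConstructible E) (h : Set.range (c.π.app i) ⊆ E) :
    ∃ (j : I) (φ : j ⟶ i), Set.range (D.map φ) ⊆ E := by
  classical
  let F : (Σ j : I, (j ⟶ i)) → Set (D.obj i) := fun p => Set.range (D.map p.2)
  have hF : ∀ p, ProCons.IsProConstructible (F p) := fun p => by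
    have := GrothLib.Constr.isProConstructible_image (D.map p.2)
      (GrothLib.Constr.isProConstructible_of_isLocallyConstructible (IsLocallyConstructible.univ (X := ↥(D.obj p.1))))
    rwa [Set.image_univ] at this
  obtain ⟨J, hJ⟩ := GrothLib.Constr.exists_finite_subfamily hE hF (by
    refine Set.Subset.trans (fun x hx => ?_) h
    rw [GrothLib.LimStage.range_π_eq D c hc i]
    exact Set.mem_iInter₂.mpr fun j φ => Set.mem_iInter.mp hx ⟨j, φ⟩)
  suffices key : ∀ J : Finset (Σ j : I, (j ⟶ i)), ∃ (k : I) (ψ : k ⟶ i),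
      ∀ p ∈ J, Set.range (D.map ψ) ⊆ F p by
    obtain ⟨k, ψ, hk⟩ := key J
    exact ⟨k, ψ, fun x hx => hJ (Set.mem_iInter₂.mpr fun p hp => hk p hp hx)⟩
  intro J
  induction J using Finset.induction with
  | empty => exact ⟨i, 𝟙 i, fun p hp => absurd hp (Finset.notMem_empty p)⟩
  | insert p J hp ih =>
    obtain ⟨k, ψ, hk⟩ := ih
    obtain ⟨l, a₁, a₂, e⟩ := IsCofiltered.cospan ψ p.2
    refine ⟨l, a₁ ≫ ψ, fun q hq => ?_⟩
    rcases Finset.mem_insert.mp hq with rfl | hq
    · rintro _ ⟨x, rfl⟩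
      exact ⟨D.map a₂ x, by rw [← Scheme.Hom.comp_apply, ← D.map_comp, e]⟩
    · rintro _ ⟨x, rfl⟩
      exact hk q hq ⟨D.map a₁ x, by rw [← Scheme.Hom.comp_apply, ← D.map_comp]⟩

include hc in
theorem exists_stage_neutral [∀ i, CompactSpace (D.obj i)] [∀ i, QuasiSeparatedSpace (D.obj i)]
    (S₀ : Scheme.{u}) (q : ∀ i, D.obj i ⟶ S₀) (hq : ∀ (i i' : I) (f : i ⟶ i'), D.map f ≫ q i' = q i)
    (qlim : c.pt ⟶ S₀) (hqlim : ∀ i, c.π.app i ≫ q i = qlim)
    (G : Over S₀) [GrpObj G] [LocallyOfFinitePresentation G.hom]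
    (u : c.pt ⟶ G.left) (hu : u ≫ G.hom = qlim) (hur : Set.range u ⊆ SGA3x.neutralSet G) :
    ∃ (i : I) (ui : D.obj i ⟶ G.left), ui ≫ G.hom = q i ∧ Set.range ui ⊆ SGA3x.neutralSet G ∧
      c.π.app i ≫ ui = u := by
  let t : D ⟶ (Functor.const I).obj S₀ :=
    { app := q
      naturality := fun i i' f => by simp [hq] }
  obtain ⟨i, ui, hui, hui'⟩ := Scheme.exists_π_app_comp_eq_of_locallyOfFinitePresentation D t G.hom c hc u
    (by ext j; simp [t, hqlim, hu])
  obtain ⟨j, φ, hj⟩ := exists_stage_range_subset D c hc i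
    (GrothLib.Constr.isIndConstructible_preimage ui (isIndConstructible_neutralSet G))
    (by
      rintro _ ⟨x, rfl⟩
      rw [Set.mem_preimage, ← Scheme.Hom.comp_apply, hui]
      exact hur ⟨x, rfl⟩)
  refine ⟨j, D.map φ ≫ ui, ?_, ?_, ?_⟩
  · rw [Category.assoc, hui', show t.app i = q i from rfl, hq]
  · rintro _ ⟨x, rfl⟩
    rw [Scheme.Hom.comp_apply]
    exact hj ⟨x, rfl⟩
  · rw [← Category.assoc, c.w, hui]

end GrothLib.Neutral
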