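import Groth.Agent.Lib.MonoHom.ClosedImmersion

/-!
Quasi-compact, quasi-finite homomorphisms of group schemes locally of finite type over a field are finite.
-/

universe u

open CategoryTheory CategoryTheory.Limits MonoidalCategory CartesianMonoidalCategory MonObj GrpObj
open AlgebraicGeometry

namespace GrothLib.Neutral

open GrothLib.MonoHom

variable {K : Type u} [Field K] {G H : Over (Spec (CommRingCat.of K))} [GrpObj G] [GrpObj H]

/-- A quasi-compact quasi-finite homomorphism of group schemes locally of finite type over a field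
is finite. -/
theorem isFinite_of_quasiCompact [LocallyOfFiniteType H.hom] [LocallyOfFiniteType G.hom]
    (u : H ⟶ G) [IsMonHom u] [QuasiCompact u.left] [LocallyQuasiFinite u.left] : IsFinite u.left := by
  have : IsSeparated G.hom := GrothLib.GrpSchField.isSeparated G
  have : IsLocallyNoetherian G.left := LocallyOfFiniteType.isLocallyNoetherian G.hom
  have : LocallyOfFiniteType u.left := by
    have : LocallyOfFiniteType (u.left ≫ G.hom) := by rw [Over.w u]; infer_instance
    exact locallyOfFiniteType_of_comp u.left G.hom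
  have : IsSeparated u.left := by
    have : IsSeparated (u.left ≫ G.hom) := by rw [Over.w u]; exact GrothLib.GrpSchField.isSeparated H
    exact IsSeparated.of_comp u.left G.hom
  obtain ⟨V, hV, -, hgen⟩ := exists_dense_open_isFinite u.left
  have : QuasiCompact ((homAction u).orbitMap η[G]).left := by rw [homAction_orbitMap]; infer_instance
  have hclosed : IsClosed (Set.range u.left) := by
    have h := GrothLib.GrpSchField.isLocallyClosed_range_orbitMap (homAction u) η[G]
    rw [homAction_orbitMap] at h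
    exact GrothLib.GrpSchField.isClosed_range_of_isLocallyClosed u h
  -- a point of the image in V
  obtain ⟨c, hc, -, hcV⟩ := hgen _ (subset_closure ⟨η[H].left (IsLocalRing.closedPoint K), rfl⟩)
  obtain ⟨_, hyV, g₀, rfl⟩ := mem_closure_iff.1 hc V V.2 hcV
  -- spread out by translation
  let α := (homAction u).act.left
  have hαf : Flat α := GrothLib.GrpSchField.act_property @Flat (homAction u)
    (GrothLib.DiagGrp.flat_of_field _)
  have hαl : LocallyOfFiniteType α := GrothLib.GrpSchField.act_property @LocallyOfFiniteType (homAction u) ‹_›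
  have hαp : LocallyOfFinitePresentation α := inferInstance
  have hαo : UniversallyOpen α := inferInstance
  let A : (H ⊗ G).left.Opens := (snd H G).left ⁻¹ᵁ V
  let W : G.left.Opens := ⟨α '' A, α.isOpenMap _ A.2⟩
  have hW : Set.range u.left ⊆ W := by
    rintro _ ⟨h, rfl⟩
    let ψ : H ⊗ H ⟶ H ⊗ G := lift (fst H H * (snd H H)⁻¹) (snd H H ≫ u)
    have h1 : ψ ≫ snd H G = snd H H ≫ u := lift_snd _ _
    have h2 : ψ ≫ (homAction u).act = fst H H ≫ u := by
      rw [lift_homAction, ← MonObj.mul_comp, inv_mul_cancel_right]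
    obtain ⟨q, hq1, hq2⟩ := Scheme.Pullback.exists_preimage_pullback (f := H.hom) (g := H.hom) h g₀
      (Subsingleton.elim (α := Spec (CommRingCat.of K)) _ _)
    refine ⟨ψ.left q, ?_, ?_⟩
    · show (snd H G).left (ψ.left q) ∈ V
      rw [← Scheme.Hom.comp_apply, ← Over.comp_left, h1, Over.comp_left, Scheme.Hom.comp_apply,
        show (snd H H).left q = g₀ from hq2]
      exact hyV
    · show α (ψ.left q) = _
      rw [← Scheme.Hom.comp_apply, ← Over.comp_left, h2, Over.comp_left, Scheme.Hom.comp_apply]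
      exact congrArg u.left hq1
  -- finite over W
  have hfA : IsFinite ((H ◁ u).left ∣_ A) := by
    have sq := GrothLib.GrpSchField.whiskerLeft_snd_isPullback H u
    have h1 := (isPullback_morphismRestrict (H ◁ u).left A).paste_vert sq
    rw [← morphismRestrict_ι (snd H G).left V] at h1
    have hr : Set.range (((H ◁ u).left ⁻¹ᵁ A).ι ≫ (snd H H).left) ⊆ Set.range (u.left ⁻¹ᵁ V).ι := by
      rw [Scheme.Opens.range_ι]
      rintro _ ⟨z, rfl⟩
      show u.left ((snd H H).left _) ∈ V
      rw [← Scheme.Hom.comp_apply, ← sq.w]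
      exact z.2
    have hl := IsOpenImmersion.lift_fac (u.left ⁻¹ᵁ V).ι _ hr
    rw [← hl] at h1
    refine MorphismProperty.of_isPullback (IsPullback.of_bot h1 ?_ (isPullback_morphismRestrict u.left V)).flip hV
    rw [← cancel_mono V.ι, Category.assoc, Category.assoc, morphismRestrict_ι u.left V]
    exact h1.w.trans (Category.assoc _ _ _)
  have hfW' : ∀ A' : (H ⊗ G).left.Opens, A' ≤ A → IsCompact (A' : Set ↥(H ⊗ G).left) →
      IsFinite (u.left ∣_ (⟨α '' A', α.isOpenMap _ A'.2⟩ : G.left.Opens)) := by
    intro A' hA'A hA'c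
    haveI : CompactSpace A'.toScheme := isCompact_iff_compactSpace.mp hA'c
    have hfA' : IsFinite ((H ◁ u).left ∣_ A') := by
      have hr : Set.range ((H ◁ u).left ⁻¹ᵁ A').ι ⊆ Set.range ((H ◁ u).left ⁻¹ᵁ A).ι := by
        rw [Scheme.Opens.range_ι, Scheme.Opens.range_ι]
        exact fun z hz => hA'A hz
      have hl := IsOpenImmersion.lift_fac ((H ◁ u).left ⁻¹ᵁ A).ι _ hr
      have h1 := isPullback_morphismRestrict (H ◁ u).left A'
      rw [← hl, ← (H ⊗ G).left.homOfLE_ι hA'A] at h1
      refine MorphismProperty.of_isPullback (IsPullback.of_bot h1 ?_ (isPullback_morphismRestrict (H ◁ u).left A)).flip hfA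
      rw [← cancel_mono A.ι, Category.assoc, Category.assoc, morphismRestrict_ι (H ◁ u).left A]
      exact h1.w.trans (Category.assoc _ _ _)
    let W₁ : G.left.Opens := ⟨α '' A', α.isOpenMap _ A'.2⟩
    have hAW : Set.range (A'.ι ≫ α) ⊆ Set.range W₁.ι := by
      rw [Scheme.Opens.range_ι]
      rintro _ ⟨z, rfl⟩
      exact ⟨z.1, z.2, rfl⟩
    have hle : A' ≤ α ⁻¹ᵁ W₁ := fun z hz => ⟨z, hz, rfl⟩
    let q := α.resLE W₁ A' hle
    have hq : q ≫ W₁.ι = A'.ι ≫ α := Scheme.Hom.resLE_comp_ι α hle
    have hqs : Surjective q := ⟨fun w => by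
      obtain ⟨z, hz, hzw⟩ := w.2
      refine ⟨⟨z, hz⟩, Subtype.ext ?_⟩
      exact (congrArg (fun m => m (⟨z, hz⟩ : A'.toScheme)) hq).trans hzw⟩
    have hqf : Flat q := inferInstanceAs (Flat (α.resLE W₁ A' hle))
    have hqq : QuasiCompact q := by
      have : IsLocallyNoetherian (H ⊗ G).left := LocallyOfFiniteType.isLocallyNoetherian α
      have : QuasiCompact (q ≫ W₁.ι) := by
        rw [hq]
        haveI : QuasiSeparatedSpace G.left := inferInstance
        exact QuasiCompact.of_comp (A'.ι ≫ α) (terminal.from G.left)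
      exact QuasiCompact.of_comp q W₁.ι
    have sqm := (whisker_isPullback u).map (Over.forget _)
    have h1 := (isPullback_morphismRestrict (H ◁ u).left A').paste_vert sqm.flip
    have h1 : IsPullback ((H ◁ u).left ∣_ A') (((H ◁ u).left ⁻¹ᵁ A').ι ≫ μ[H].left) (A'.ι ≫ α) u.left := h1
    rw [← hq] at h1
    have hr : Set.range (((H ◁ u).left ⁻¹ᵁ A').ι ≫ μ[H].left) ⊆ Set.range (u.left ⁻¹ᵁ W₁).ι := by
      rw [Scheme.Opens.range_ι]
      rintro _ ⟨z, rfl⟩
      show u.left (μ[H].left _) ∈ W₁
      rw [← Scheme.Hom.comp_apply, ← Over.comp_left, (whisker_isPullback u).w, Over.comp_left,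
        Scheme.Hom.comp_apply]
      exact ⟨_, z.2, rfl⟩
    have hl := IsOpenImmersion.lift_fac (u.left ⁻¹ᵁ W₁).ι _ hr
    rw [← hl] at h1
    have hsq := IsPullback.of_bot h1 (by
      rw [← cancel_mono W₁.ι, Category.assoc, Category.assoc, morphismRestrict_ι u.left W₁]
      exact h1.w.trans (Category.assoc _ _ _)) (isPullback_morphismRestrict u.left W₁)
    exact MorphismProperty.of_isPullback_of_descendsAlong (P := @IsFinite) (Q := GrothLib.EtSite.fpqcCov)
      hsq ⟨⟨hqs, hqf⟩, hqq⟩ hfA'
  have hfin : IsFinite u.left := by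
    let O : G.left.Opens := ⟨(Set.range u.left)ᶜ, hclosed.isOpen_compl⟩
    let J := {A' : (H ⊗ G).left.Opens // A' ≤ A ∧ IsCompact (A' : Set ↥(H ⊗ G).left)}
    refine IsZariskiLocalAtTarget.of_iSup_eq_top (P := @IsFinite)
      (fun j : Option J => j.elim O fun A' => (⟨α '' A'.1, α.isOpenMap _ A'.1.2⟩ : G.left.Opens)) ?_ ?_
    · refine eq_top_iff.2 fun x _ => TopologicalSpace.Opens.mem_iSup.2 ?_
      by_cases hx : x ∈ Set.range u.left
      · obtain ⟨z, hz, rfl⟩ := hW hx
        obtain ⟨_, ⟨A', hA', rfl⟩, hzA', hsub⟩ :=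
          (H ⊗ G).left.isBasis_affineOpens.exists_subset_of_mem_open hz A.2
        exact ⟨some ⟨A', hsub, IsAffineOpen.isCompact hA'⟩, ⟨z, hzA', rfl⟩⟩
      · exact ⟨none, hx⟩
    · intro b
      cases b with
      | none =>
        show IsFinite (u.left ∣_ O)
        have : IsEmpty ↥(u.left ⁻¹ᵁ O).toScheme := ⟨fun z => z.2 ⟨z.1, rfl⟩⟩
        infer_instance
      | some A' => exact hfW' A'.1 A'.2.1 A'.2.2
  exact hfin

/-- A quasi-compact monomorphic homomorphism of group schemes locally of finite type over a field is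
a closed immersion. -/
theorem isClosedImmersion_of_quasiCompact [LocallyOfFiniteType H.hom] [LocallyOfFiniteType G.hom]
    (u : H ⟶ G) [IsMonHom u] [QuasiCompact u.left] [Mono u] : IsClosedImmersion u.left := by
  have hm : Mono u.left := inferInstanceAs (Mono ((Over.forget _).map u))
  have : LocallyOfFiniteType u.left := by
    have : LocallyOfFiniteType (u.left ≫ G.hom) := by rw [Over.w u]; infer_instance
    exact locallyOfFiniteType_of_comp u.left G.hom
  have : LocallyQuasiFinite u.left :=
    LocallyQuasiFinite.of_injective fun a b h => u.left.injective h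
  exact (IsClosedImmersion.iff_isFinite_and_mono _).2 ⟨isFinite_of_quasiCompact u, hm⟩

end GrothLib.Neutral
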