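import Groth.Agent.Lib.Neutral.Open
import Groth.Agent.Lib.GrpSchField.Neron
import Groth.Agent.Lib.GrpSchField.Open
import Groth.Agent.Lib.FppfSource.Scheme

/-!
A group scheme smooth near its unit section has an open subgroup smooth over the base, and such an
open subgroup contains the neutral components.
-/

universe u

open CategoryTheory CategoryTheory.Limits MonoidalCategory CartesianMonoidalCategory MonObj GrpObj
open AlgebraicGeometry Topology

set_option backward.isDefEq.respectTransparency false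

namespace GrothLib.Neutral

open GrothLib.SepAct (left_apply left_apply₂)

variable {S : Scheme.{u}} (G : Over S) [GrpObj G]

/-- An open subgroup contains the neutral components. -/
theorem neutralSet_subset_range_of_isOpen (H : Over S) [GrpObj H] (i : H ⟶ G) [IsMonHom i]
    [IsOpenImmersion i.left] : SGA3x.neutralSet G ⊆ Set.range i.left := by
  intro g hg
  let s := G.hom g
  let f := S.fromSpecResidueField s
  let ψ : Red.bc f H ⟶ Red.bc f G := (Over.pullback f).map i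
  haveI : IsMonHom ψ := inferInstanceAs (IsMonHom ((Over.pullback f).map i))
  have hψ : ψ.left = pullback.map H.hom f G.hom f i.left (𝟙 _) (𝟙 _) (by simp) (by simp) := by
    apply pullback.hom_ext <;> simp [ψ]
  have hrange : Set.range ψ.left = pullback.fst G.hom f ⁻¹' Set.range i.left := by
    rw [hψ]
    refine (Scheme.Pullback.range_map _ _ _ _ _ _ _ _ _).trans ?_
    rw [show Set.range (𝟙 (Spec (S.residueField s)) : _ ⟶ _) = Set.univ from Set.range_id,
      Set.preimage_univ, Set.inter_univ]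
  have ho : IsOpen (Set.range ψ.left) := by
    rw [hrange]
    exact i.left.isOpenEmbedding.isOpen_range.preimage (pullback.fst G.hom f).continuous
  have hc : IsClosed (Set.range ψ.left) :=
    GrothLib.GrpSchField.isClosed_range_of_isLocallyClosed ψ ho.isLocallyClosed
  have hsub : fibComp G s ⊆ Set.range ψ.left := by
    refine IsClopen.connectedComponent_subset ⟨hc, ho⟩ ?_
    rw [hrange, Set.mem_preimage]
    change G.hom.fiberι s (fibUnit G s _) ∈ Set.range i.left
    rw [fiberι_fibUnit]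
    exact ⟨η[H].left s, map_unit G H i s⟩
  have hg' : g ∈ SGA3x.neutralSet G ∩ G.hom ⁻¹' {s} := ⟨hg, rfl⟩
  rw [← image_fibComp] at hg'
  obtain ⟨v, hv, hvg⟩ := hg'
  have hv' := hsub hv
  rw [hrange] at hv'
  rw [← hvg]
  exact hv'

/-- Multiplication on `W × G` is smooth if `W` is smooth over the base. -/
theorem smooth_restrict_mul (W : G.left.Opens) [Smooth (W.ι ≫ G.hom)] :
    Smooth (((fst G G).left ⁻¹ᵁ W).ι ≫ μ[G].left) ∧ Smooth (((fst G G).left ⁻¹ᵁ W).ι ≫ (snd G G).left) := by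
  let V := (fst G G).left ⁻¹ᵁ W
  have hsnd : Smooth (V.ι ≫ (snd G G).left) := by
    have h2 : IsPullback (snd G G).left (fst G G).left G.hom G.hom :=
      (IsPullback.of_hasPullback G.hom G.hom).flip
    exact MorphismProperty.of_isPullback (P := @Smooth)
      ((isPullback_morphismRestrict (fst G G).left W).flip.paste_horiz h2).flip
      (inferInstance : Smooth (W.ι ≫ G.hom))
  refine ⟨?_, hsnd⟩
  let e := (GrothLib.GrpSchField.shear (GrothLib.GrpSchField.mulAction G)).hom.left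
  have he : e ≫ (fst G G).left = (fst G G).left := by
    rw [← Over.comp_left, GrothLib.GrpSchField.shear_hom_fst]
  have hμ : e ≫ (snd G G).left = μ[G].left := by
    rw [← Over.comp_left, GrothLib.GrpSchField.shear_hom_snd]
    rfl
  haveI : IsIso e := GrothLib.GrpSchField.isIso_left _
  have hV : V = e ⁻¹ᵁ V := by
    change (fst G G).left ⁻¹ᵁ W = e ⁻¹ᵁ ((fst G G).left ⁻¹ᵁ W)
    rw [← Scheme.Hom.comp_preimage, he]
  have key : V.ι ≫ μ[G].left = (G ⊗ G).left.homOfLE hV.le ≫ (e ∣_ V) ≫ V.ι ≫ (snd G G).left := by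
    rw [morphismRestrict_ι_assoc, Scheme.homOfLE_ι_assoc, hμ]
  rw [key]
  infer_instance

/-- The products of two points of an open smooth over the base form such an open. -/
theorem exists_smooth_mul (W : G.left.Opens) [Smooth (W.ι ≫ G.hom)] :
    ∃ W' : G.left.Opens, Smooth (W'.ι ≫ G.hom) ∧
      (W' : Set G.left) = μ[G].left '' ((fst G G).left ⁻¹' (W : Set G.left) ∩ (snd G G).left ⁻¹' (W : Set G.left)) := by
  let V := (fst G G).left ⁻¹ᵁ W
  obtain ⟨hμ, hsnd⟩ := smooth_restrict_mul G W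
  haveI : Smooth (V.ι ≫ (snd G G).left) := hsnd
  haveI : Smooth (V.ι ≫ μ[G].left) := hμ
  let O := (V.ι ≫ (snd G G).left) ⁻¹ᵁ W
  let q := O.ι ≫ V.ι ≫ μ[G].left
  haveI : Smooth q := inferInstance
  let W' : G.left.Opens := ⟨Set.range q, q.isOpenMap.isOpen_range⟩
  let q' := IsOpenImmersion.lift W'.ι q (by rw [Scheme.Opens.range_ι]; exact Set.Subset.rfl)
  have hq' : q' ≫ W'.ι = q := IsOpenImmersion.lift_fac _ _ _
  haveI : Smooth q' := GrothLib.GrpSchField.smooth_of_comp_etale q' W'.ι (by rw [hq']; infer_instance)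
  haveI : Surjective q' := ⟨fun w => by
    obtain ⟨o, ho⟩ := w.2
    refine ⟨o, W'.ι.isOpenEmbedding.injective ?_⟩
    rw [← Scheme.Hom.comp_apply, hq']
    exact ho⟩
  refine ⟨W', GrothLib.FppfSource.fppfSourceDescends_smooth q' (W'.ι ≫ G.hom) inferInstance inferInstance
    inferInstance ?_, ?_⟩
  · have e : q' ≫ W'.ι ≫ G.hom = ((V.ι ≫ (snd G G).left) ∣_ W) ≫ W.ι ≫ G.hom := by
      rw [morphismRestrict_ι_assoc, ← Category.assoc, hq']
      simp only [q, O, Category.assoc]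
      rw [Over.w μ[G], ← Over.w (snd G G)]
    rw [e]
    infer_instance
  · change Set.range q = _
    ext g
    constructor
    · rintro ⟨o, rfl⟩
      exact ⟨V.ι (O.ι o), ⟨(O.ι o).2, o.2⟩, rfl⟩
    · rintro ⟨x, ⟨h₁, h₂⟩, rfl⟩
      exact ⟨(⟨⟨x, h₁⟩, h₂⟩ : O.toScheme), rfl⟩

/-- A group scheme smooth near the unit section has an open subgroup smooth over the base. -/
theorem exists_smooth_openSubgroup (U : G.left.Opens) [Smooth (U.ι ≫ G.hom)]
    (hU : ∀ s : S, η[G].left s ∈ U) :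
    ∃ (H : G.left.Opens) (_ : GrpObj (openPart G H)), IsMonHom (openPartι G H) ∧ Smooth (H.ι ≫ G.hom) := by
  let P : G.left.Opens → Set ↥(G ⊗ G).left := fun W =>
    (fst G G).left ⁻¹' (W : Set G.left) ∩ (snd G G).left ⁻¹' (W : Set G.left)
  let W₀ : G.left.Opens := U ⊓ ι[G].left ⁻¹ᵁ U
  have hW₀s : Smooth (W₀.ι ≫ G.hom) := by
    rw [← Scheme.homOfLE_ι G.left (inf_le_left : W₀ ≤ U), Category.assoc]
    infer_instance
  have hstep : ∀ W : {W : G.left.Opens // Smooth (W.ι ≫ G.hom)}, ∃ W' : {W : G.left.Opens // Smooth (W.ι ≫ G.hom)},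
      (W'.1 : Set G.left) = μ[G].left '' P W.1 := fun W => by
    haveI := W.2
    obtain ⟨W', h, h'⟩ := exists_smooth_mul G W.1
    exact ⟨⟨W', h⟩, h'⟩
  choose F hF using hstep
  let Wn : ℕ → {W : G.left.Opens // Smooth (W.ι ≫ G.hom)} := fun n => F^[n] ⟨W₀, hW₀s⟩
  have hsucc : ∀ n, ((Wn (n + 1)).1 : Set G.left) = μ[G].left '' P (Wn n).1 := fun n => by
    simp only [Wn, Function.iterate_succ_apply', hF]
  have he : ∀ s, ι[G].left (η[G].left s) = η[G].left s := fun s =>
    left_apply (show η[G] ≫ ι[G] = η[G] by rw [MonObj.one_eq_one, ← Hom.inv_def, inv_one]) s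
  have hunit0 : ∀ s, η[G].left s ∈ W₀ := fun s => ⟨hU s, by
    change ι[G].left (η[G].left s) ∈ U
    rw [he]; exact hU s⟩
  have hstep' : ∀ n, ((∀ s, η[G].left s ∈ (Wn n).1) ∧ ∀ g ∈ (Wn n).1, ι[G].left g ∈ (Wn n).1) →
      (Wn n).1 ≤ (Wn (n + 1)).1 ∧ ∀ g ∈ (Wn (n + 1)).1, ι[G].left g ∈ (Wn (n + 1)).1 := by
    rintro n ⟨hu, hi⟩
    refine ⟨fun w hw => ?_, fun g hg => ?_⟩
    · rw [← SetLike.mem_coe, hsucc]
      refine ⟨(lift (𝟙 G) (toUnit G ≫ η[G])).left w, ⟨?_, ?_⟩, ?_⟩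
      · rw [Set.mem_preimage, left_apply (lift_fst _ _)]
        exact hw
      · rw [Set.mem_preimage, left_apply (lift_snd _ _), Over.comp_left, Scheme.Hom.comp_apply]
        exact hu _
      · rw [left_apply (show lift (𝟙 G) (toUnit G ≫ η[G]) ≫ μ[G] = 𝟙 G by
          rw [← Hom.mul_def, ← Hom.one_def, _root_.mul_one])]
        rfl
    · rw [← SetLike.mem_coe, hsucc] at hg ⊢
      obtain ⟨q, ⟨h₁, h₂⟩, rfl⟩ := hg
      refine ⟨(lift (snd G G)⁻¹ (fst G G)⁻¹).left q, ⟨?_, ?_⟩, ?_⟩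
      · rw [Set.mem_preimage, left_apply (lift_fst _ _), Hom.inv_def, Over.comp_left, Scheme.Hom.comp_apply]
        exact hi _ h₂
      · rw [Set.mem_preimage, left_apply (lift_snd _ _), Hom.inv_def, Over.comp_left, Scheme.Hom.comp_apply]
        exact hi _ h₁
      · rw [left_apply₂ (show lift (snd G G)⁻¹ (fst G G)⁻¹ ≫ μ[G] = μ[G] ≫ ι[G] by
          rw [← Hom.mul_def, ← _root_.mul_inv_rev, Hom.inv_def, Hom.mul_def, lift_fst_snd, Category.id_comp])]
  have hall : ∀ n, (∀ s, η[G].left s ∈ (Wn n).1) ∧ ∀ g ∈ (Wn n).1, ι[G].left g ∈ (Wn n).1 := by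
    intro n
    induction n with
    | zero =>
      refine ⟨hunit0, fun g hg => ⟨hg.2, ?_⟩⟩
      change ι[G].left (ι[G].left g) ∈ U
      rw [left_apply (show ι[G] ≫ ι[G] = 𝟙 G by
        rw [← Hom.inv_def, show ι[G] = (𝟙 G)⁻¹ by rw [Hom.inv_def, Category.id_comp], _root_.inv_inv]) g]
      exact hg.1
    | succ n ih => exact ⟨fun s => (hstep' n ih).1 (ih.1 s), (hstep' n ih).2⟩
  have hmono : Monotone fun n => (Wn n).1 := monotone_nat_of_le_succ fun n => (hstep' n (hall n)).1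
  let H : G.left.Opens := ⨆ n, (Wn n).1
  have hmemH : ∀ g, g ∈ H ↔ ∃ n, g ∈ (Wn n).1 := fun g => TopologicalSpace.Opens.mem_iSup
  obtain ⟨hgrp, hi⟩ := exists_grpObj_openPart G H (fun s => (hmemH _).mpr ⟨0, hunit0 s⟩)
    (fun q h₁ h₂ => by
      obtain ⟨n, hn⟩ := (hmemH _).mp h₁
      obtain ⟨m, hm⟩ := (hmemH _).mp h₂
      refine (hmemH _).mpr ⟨max n m + 1, ?_⟩
      rw [← SetLike.mem_coe, hsucc]
      exact ⟨q, ⟨hmono (le_max_left n m) hn, hmono (le_max_right n m) hm⟩, rfl⟩)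
    (fun g hg => by
      obtain ⟨n, hn⟩ := (hmemH _).mp hg
      exact (hmemH _).mpr ⟨n, (hall n).2 g hn⟩)
  refine ⟨H, hgrp, hi, ?_⟩
  refine (IsZariskiLocalAtSource.iff_of_openCover (P := @Smooth)
    (Scheme.openCoverOfIsOpenCover H.toScheme (fun n => H.ι ⁻¹ᵁ (Wn n).1) ?_)).mpr fun n => ?_
  · refine TopologicalSpace.IsOpenCover.mk (eq_top_iff.mpr fun h _ => ?_)
    obtain ⟨n, hn⟩ := (hmemH _).mp h.2
    exact TopologicalSpace.Opens.mem_iSup.mpr ⟨n, hn⟩
  · change Smooth ((H.ι ⁻¹ᵁ (Wn n).1).ι ≫ H.ι ≫ G.hom)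
    haveI := (Wn n).2
    rw [← morphismRestrict_ι_assoc]
    infer_instance

end GrothLib.Neutral
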