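import Groth.Agent.Lib.Neutral.Basic

/-!
Open subsets stable under the group law carry open subgroup schemes.
-/

universe u

open CategoryTheory CategoryTheory.Limits MonoidalCategory CartesianMonoidalCategory MonObj GrpObj
open AlgebraicGeometry Topology

set_option backward.isDefEq.respectTransparency false

namespace GrothLib.Neutral

variable {S : Scheme.{u}} (G : Over S) [GrpObj G]

/-- The open piece of `G` on `U` as an object over `S`. -/
noncomputable abbrev openPart (U : G.left.Opens) : Over S := Over.mk (U.ι ≫ G.hom)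

/-- The inclusion of an open piece. -/
noncomputable abbrev openPartι (U : G.left.Opens) : openPart G U ⟶ G := Over.homMk U.ι

theorem exists_grpObj_openPart (U : G.left.Opens) (hunit : ∀ s : S, η[G].left s ∈ U)
    (hmul : ∀ q : ↥(G ⊗ G).left, (fst G G).left q ∈ U → (snd G G).left q ∈ U → μ[G].left q ∈ U)
    (hinv : ∀ g : G.left, g ∈ U → ι[G].left g ∈ U) :
    ∃ (_ : GrpObj (openPart G U)), IsMonHom (openPartι G U) := by
  let i := openPartι G U
  haveI hmono : Mono i := by
    haveI : Mono ((Over.forget S).map i) := inferInstanceAs (Mono U.ι)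
    exact (Over.forget S).mono_of_mono_map this
  let K : ∀ T : Over S, Subgroup (T ⟶ G) := fun T =>
    { carrier := {a | ∀ t, a.left t ∈ U}
      one_mem' := fun t => by
        rw [Hom.one_def, Over.comp_left, Scheme.Hom.comp_apply]
        exact hunit _
      mul_mem' := fun {a b} ha hb t => by
        rw [Hom.mul_def, Over.comp_left, Scheme.Hom.comp_apply]
        refine hmul _ ?_ ?_
        · rw [← Scheme.Hom.comp_apply, ← Over.comp_left, lift_fst]; exact ha t
        · rw [← Scheme.Hom.comp_apply, ← Over.comp_left, lift_snd]; exact hb t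
      inv_mem' := fun {a} ha t => by
        rw [Hom.inv_def, Over.comp_left, Scheme.Hom.comp_apply]
        exact hinv _ (ha t) }
  let F : (Over S)ᵒᵖ ⥤ GrpCat :=
    { obj := fun T => GrpCat.of (K T.unop)
      map := fun {T T'} h => GrpCat.ofHom
        { toFun := fun a => ⟨h.unop ≫ a.1, fun t => by
            rw [Over.comp_left, Scheme.Hom.comp_apply]
            exact a.2 _⟩
          map_one' := Subtype.ext (MonObj.comp_one h.unop)
          map_mul' := fun a b => Subtype.ext (MonObj.comp_mul h.unop a.1 b.1) }
      map_id := fun T => GrpCat.hom_ext (MonoidHom.ext fun a => Subtype.ext (Category.id_comp a.1))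
      map_comp := fun h h' => GrpCat.hom_ext (MonoidHom.ext fun a => Subtype.ext (Category.assoc _ _ a.1)) }
  let lft : ∀ {T : Over S} (a : K T), T ⟶ openPart G U := fun {T} a =>
    Over.homMk (IsOpenImmersion.lift U.ι a.1.left (by
      rintro _ ⟨t, rfl⟩
      exact ⟨⟨_, a.2 t⟩, rfl⟩)) (by
      change _ ≫ U.ι ≫ G.hom = _
      rw [IsOpenImmersion.lift_fac_assoc, Over.w a.1])
  have hlft : ∀ {T : Over S} (a : K T), lft a ≫ i = a.1 := fun a =>
    Over.OverMorphism.ext (IsOpenImmersion.lift_fac _ _ _)
  let α : (F ⋙ forget GrpCat).RepresentableBy (openPart G U) :=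
    { homEquiv := fun {T} =>
        { toFun := fun b => ⟨b ≫ i, fun t => by
            rw [Over.comp_left, Scheme.Hom.comp_apply]
            exact (b.left t).2⟩
          invFun := lft
          left_inv := fun b => (cancel_mono i).1 (hlft _)
          right_inv := fun a => Subtype.ext (hlft a) }
      homEquiv_comp := fun h b => Subtype.ext (Category.assoc h b i) }
  letI : GrpObj (openPart G U) := GrpObj.ofRepresentableBy (openPart G U) F α
  refine ⟨inferInstance, ⟨?_, ?_⟩⟩
  · refine (hlft _).trans ?_
    exact (MonObj.one_eq_one _).symm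
  · refine (hlft _).trans ?_
    show (fst _ _ ≫ i) * (snd _ _ ≫ i) = (i ⊗ₘ i) ≫ μ[G]
    rw [Hom.mul_def, lift_fst_comp_snd_comp]

end GrothLib.Neutral
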