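import Groth.Agent.Lib.Neutral.ConstDim
import Groth.Agent.Lib.FibreDimAt6.GenericScheme
import Groth.Agent.Lib.FibreDim6.Scheme

/-!
Semicontinuity and local constancy of the fibre dimension of a group scheme.
-/

universe u

open CategoryTheory CategoryTheory.Limits MonoidalCategory CartesianMonoidalCategory MonObj GrpObj
open AlgebraicGeometry Topology

set_option backward.isDefEq.respectTransparency false

namespace GrothLib.Neutral

/-- Over a valuation ring, the closure of a point of the generic fibre has special fibre of the same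
dimension as its generic fibre, near any of its points in the special fibre. -/
theorem dim_closure_fibres {V : CommRingCat.{u}} [IsDomain V] [ValuationRing V] {X : Scheme.{u}}
    (f : X ⟶ Spec V) [LocallyOfFiniteType f] {W : X.Opens} (hW : IsAffineOpen W) {ξ e : X}
    (hξ : f ξ = (⟨⊥, Ideal.isPrime_bot⟩ : PrimeSpectrum V)) (heW : e ∈ W) (hξe : ξ ⤳ e)
    (hec : f e = IsLocalRing.closedPoint V) :
    topologicalKrullDim ↥(closure {ξ} ∩ (W : Set X) ∩ f ⁻¹' {(IsLocalRing.closedPoint V : Spec V)}) =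
      topologicalKrullDim ↥(closure {ξ} ∩ (W : Set X) ∩
        f ⁻¹' {((⟨⊥, Ideal.isPrime_bot⟩ : PrimeSpectrum V) : Spec V)}) := by
  have hξW : ξ ∈ W := hξe.mem_open W.2 heW
  obtain ⟨φ, hφ⟩ := Spec.map_surjective (hW.fromSpec ≫ f)
  let B : Type u := Γ(X, W)
  let _ : Algebra V B := φ.hom.toAlgebra
  haveI : Algebra.FiniteType V B := by
    have : LocallyOfFiniteType (Spec.map φ) := by rw [hφ]; infer_instance
    exact (HasRingHomProperty.Spec_iff (P := @LocallyOfFiniteType)).mp this
  obtain ⟨P, hP⟩ : ξ ∈ Set.range hW.fromSpec := by rw [hW.range_fromSpec]; exact hξW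
  let Ps : PrimeSpectrum B := P
  let E := B ⧸ Ps.asIdeal
  let c : Spec (CommRingCat.of E) ⟶ Spec Γ(X, W) :=
    Spec.map (CommRingCat.ofHom (Ideal.Quotient.mk Ps.asIdeal))
  haveI : IsClosedImmersion c := IsClosedImmersion.spec_of_surjective _ Ideal.Quotient.mk_surjective
  let j := c ≫ hW.fromSpec
  have hrj : Set.range j = closure {ξ} ∩ (W : Set X) := by
    have hc : Set.range c = closure {P} := by
      rw [PrimeSpectrum.closure_singleton]
      exact (range_comap_of_surjective _ _ Ideal.Quotient.mk_surjective).trans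
        (by rw [Ideal.mk_ker])
    rw [Scheme.Hom.comp_base, TopCat.coe_comp, Set.range_comp, hc]
    ext g
    constructor
    · rintro ⟨q, hq, rfl⟩
      refine ⟨?_, hW.range_fromSpec.le ⟨q, rfl⟩⟩
      rw [← specializes_iff_mem_closure, ← hP]
      exact (specializes_iff_mem_closure.mpr hq).map hW.fromSpec.continuous
    · rintro ⟨hg, hgW⟩
      obtain ⟨q, rfl⟩ := hW.range_fromSpec.ge hgW
      refine ⟨q, ?_, rfl⟩
      rw [← specializes_iff_mem_closure, ← hP, hW.fromSpec.isEmbedding.isInducing.specializes_iff] at hg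
      exact hg.mem_closure
  have hjf : j ≫ f = Spec.map (CommRingCat.ofHom (algebraMap V E)) ≫ 𝟙 _ := by
    simp only [j, c, Category.assoc, Category.comp_id]
    rw [← hφ, ← Spec.map_comp]
    rfl
  have hcomapP : Ps.asIdeal.comap (algebraMap V B) = ⊥ := by
    have h1 : Spec.map φ P = ((⟨⊥, Ideal.isPrime_bot⟩ : PrimeSpectrum V) : Spec V) := by
      rw [hφ, Scheme.Hom.comp_apply, hP]; exact hξ
    exact congrArg PrimeSpectrum.asIdeal h1
  have hinj : Function.Injective (algebraMap V E) := (injective_iff_map_eq_zero _).mpr fun a ha => by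
    have : a ∈ Ps.asIdeal.comap (algebraMap V B) := Ideal.mem_comap.mpr
      (Ideal.Quotient.eq_zero_iff_mem.mp (show Ideal.Quotient.mk Ps.asIdeal (algebraMap V B a) = 0 from ha))
    rwa [hcomapP, Ideal.mem_bot] at this
  have hspec := dim_trace_emb (R := V) f j (𝟙 (Spec V)) hjf (IsLocalRing.closedPoint V)
  have hgene := dim_trace_emb (R := V) f j (𝟙 (Spec V)) hjf (⟨⊥, Ideal.isPrime_bot⟩ : PrimeSpectrum V)
  haveI : Nontrivial (TensorProduct V (IsLocalRing.ResidueField V) E) := by
    obtain ⟨q, hq⟩ : e ∈ Set.range j := by rw [hrj]; exact ⟨hξe.mem_closure, heW⟩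
    have hne : Nonempty (PrimeSpectrum ((IsLocalRing.closedPoint V).asIdeal.Fiber E)) :=
      ⟨PrimeSpectrum.preimageEquivFiber V E (IsLocalRing.closedPoint V) ⟨q, by
        have := congrArg f hq
        rw [← Scheme.Hom.comp_apply, hjf, Category.comp_id] at this
        exact this.trans hec⟩⟩
    haveI : Nontrivial ((IsLocalRing.closedPoint V).asIdeal.Fiber E) :=
      PrimeSpectrum.nonempty_iff_nontrivial.mp hne
    by_contra hn
    rw [not_nontrivial_iff_subsingleton] at hn
    have h1 := GrothLib.FibreDimAt6.fiber_closed_eq V E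
    rw [ringKrullDim_eq_bot_of_subsingleton] at h1
    exact absurd h1 (by
      first
      | exact (ringKrullDim_nonneg_of_nontrivial.trans_lt' (WithBot.bot_lt_coe 0)).ne
      | exact (ringKrullDim_nonneg_of_nontrivial.trans_lt' (WithBot.bot_lt_coe 0)).ne')
  have heq := GrothLib.FibreDimAt6.dim_special_eq_generic V E hinj
  rw [GrothLib.FibreDimAt6.fiber_closed_eq, GrothLib.FibreDimAt6.fiber_generic_eq, ← hspec, ← hgene, hrj] at heq
  exact heq

variable {S : Scheme.{u}} (G : Over S) [GrpObj G]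

theorem fibDim_le_of_open [LocallyOfFiniteType G.hom] (s : S) (W : G.left.Opens)
    (hne : ((W : Set G.left) ∩ (SGA3x.neutralSet G ∩ G.hom ⁻¹' {s})).Nonempty) :
    topologicalKrullDim ↥((W : Set G.left) ∩ G.hom ⁻¹' {s}) = fibDim G s :=
  le_antisymm (IsEmbedding.inclusion Set.inter_subset_right).isInducing.topologicalKrullDim_le
    ((dim_open_neutral G s W hne).ge.trans
      (IsEmbedding.inclusion (Set.inter_subset_inter_right _ Set.inter_subset_right)).isInducing.topologicalKrullDim_le)

theorem fibreDimAt_eq_fibDim [LocallyOfFiniteType G.hom] {g : G.left} (hg : g ∈ SGA3x.neutralSet G) :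
    FlatMor.fibreDimAt G.hom g = fibDim G (G.hom g) := by
  refine le_antisymm ?_ ?_
  · exact (GrothLib.FibreDimAt6.fibreDimAt_le_of_open G.hom g ⊤ trivial).trans
      (fibDim_le_of_open G (G.hom g) ⊤ ⟨g, trivial, hg, rfl⟩).le
  · obtain ⟨U, hgU, hU⟩ := GrothLib.FibreDimAt6.fibreDimAt_attained G.hom g
    rw [← hU, fibDim_le_of_open G (G.hom g) U ⟨g, hgU, hg, rfl⟩]

/-- The fibre dimension of a group scheme drops under generization. -/
theorem fibDim_le_of_specializes [LocallyOfFiniteType G.hom] {t s : S} (h : t ⤳ s) : fibDim G t ≤ fibDim G s := by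
  obtain ⟨d, hd⟩ := exists_nat_fibDim G s
  have h1 := fibreDimAt_eq_fibDim G (unit_mem_neutralSet G t)
  have h2 := fibreDimAt_eq_fibDim G (unit_mem_neutralSet G s)
  rw [hom_unit] at h1 h2
  rw [← h1, hd]
  exact GrothLib.FibreDimAt6.fibreDimAt_le_of_specializes G.hom (h.map η[G].left.continuous) d (by rw [h2, hd])

/-- Universal openness near the unit of a fibre makes the fibre dimension constant on generizations. -/
theorem fibDim_eq_of_univOpen [LocallyOfFinitePresentation G.hom] {t s : S} (h : t ⤳ s) (W : G.left.Opens)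
    (hW : η[G].left s ∈ W)
    (hWo : ∀ x ∈ SGA3x.neutralSet G ∩ G.hom ⁻¹' {s}, x ∈ W → EGA43.IsUnivOpenAt G.hom x) :
    fibDim G t = fibDim G s := by
  refine le_antisymm (fibDim_le_of_specializes G h) ?_
  obtain ⟨V, _, _, g, hg, hg'⟩ := GrothLib.HTop.exists_valuationRing_map h
  let H := Red.bc g G
  haveI : LocallyOfFinitePresentation H.hom := inferInstanceAs (LocallyOfFinitePresentation (pullback.snd G.hom g))
  rw [← hg, ← hg', ← fibDim_bc G g, ← fibDim_bc G g]
  let cl : Spec V := GrothLib.HTop.closed V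
  let η₀ : Spec V := GrothLib.HTop.gen V
  change fibDim H cl ≤ fibDim H η₀
  -- the generic point of the special neutral component
  obtain ⟨hoc, hcc, hic, -⟩ := isOpen_fibComp H cl
  obtain ⟨x₀, hx₀⟩ := QuasiSober.sober hic hcc
  let x' := H.hom.fiberι cl x₀
  have hx'C : x' ∈ SGA3x.neutralSet H ∩ H.hom ⁻¹' {cl} := by
    rw [← image_fibComp]; exact ⟨x₀, hx₀.mem, rfl⟩
  have hx'gen : ∀ v ∈ SGA3x.neutralSet H ∩ H.hom ⁻¹' {cl}, x' ⤳ v := fun v hv => by
    rw [← image_fibComp] at hv
    obtain ⟨w, hw, rfl⟩ := hv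
    exact (hx₀.specializes hw).map (H.hom.fiberι cl).continuous
  have hxW : pullback.fst G.hom g x' ∈ W := by
    refine ((hx'gen _ ⟨unit_mem_neutralSet H cl, hom_unit H cl⟩).map (pullback.fst G.hom g).continuous).mem_open W.2 ?_
    have : pullback.fst G.hom g (η[H].left cl) = η[G].left (g cl) := congr($(unit_fst G g) cl)
    rw [this]
    exact Set.mem_of_eq_of_mem (congrArg η[G].left hg') hW
  have hxN : pullback.fst G.hom g x' ∈ SGA3x.neutralSet G ∩ G.hom ⁻¹' {s} := by
    have h1 := hx'C.1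
    rw [neutralSet_bc] at h1
    refine ⟨h1, ?_⟩
    rw [Set.mem_preimage, Set.mem_singleton_iff, ← Scheme.Hom.comp_apply, pullback.condition,
      Scheme.Hom.comp_apply]
    exact (congrArg g hx'C.2).trans hg'
  have hopen := hWo _ hxN hxW (Spec V) g x' rfl
  -- a generization in the generic fibre
  let ιK : Spec (CommRingCat.of (FractionRing V)) ⟶ Spec V :=
    Spec.map (CommRingCat.ofHom (algebraMap V (FractionRing V)))
  have hrK : Set.range ιK = {η₀} := by
    refine Set.eq_singleton_iff_unique_mem.mpr ⟨⟨IsLocalRing.closedPoint _, ?_⟩, ?_⟩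
    · exact PrimeSpectrum.ext (by
        change Ideal.comap (algebraMap V (FractionRing V)) (IsLocalRing.maximalIdeal _) = ⊥
        rw [IsLocalRing.maximalIdeal_eq_bot]
        exact Ideal.comap_bot_of_injective _ (IsFractionRing.injective V (FractionRing V)))
    · rintro _ ⟨p, rfl⟩
      exact PrimeSpectrum.ext (by
        change Ideal.comap (algebraMap V (FractionRing V)) (p : PrimeSpectrum (FractionRing V)).asIdeal = ⊥
        rw [(Ideal.eq_bot_or_top (p : PrimeSpectrum (FractionRing V)).asIdeal).resolve_right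
          (p : PrimeSpectrum (FractionRing V)).2.ne_top]
        exact Ideal.comap_bot_of_injective _ (IsFractionRing.injective V (FractionRing V)))
  have hind : ProCons.IsIndConstructible (H.hom ⁻¹' {η₀}ᶜ) := by
    refine GrothLib.Constr.isIndConstructible_preimage H.hom ?_
    rw [← GrothLib.Constr.isProConstructible_iff_compl, ← hrK, ← Set.image_univ]
    exact GrothLib.Constr.isProConstructible_image ιK
      (GrothLib.Constr.isProConstructible_of_isLocallyConstructible IsLocallyConstructible.univ)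
  obtain ⟨ξ, hξx, hξη⟩ : ∃ ξ, ξ ⤳ x' ∧ H.hom ξ = η₀ := by
    by_contra hcon
    push Not at hcon
    have hint := (GrothLib.Constr.mem_interior_iff hind).mpr fun ξ hξ => hcon ξ hξ
    obtain ⟨O, hO, hOo, hxO⟩ := mem_interior.mp hint
    have hcl := hopen O (hOo.mem_nhds hxO)
    have hηmem : η₀ ∈ H.hom '' O := by
      obtain ⟨O', hO', hO'o, hclO'⟩ := mem_nhds_iff.mp hcl
      refine hO' ((IsLocalRing.specializes_closedPoint (R := V) η₀).mem_open hO'o ?_)
      exact Set.mem_of_eq_of_mem hx'C.2.symm hclO'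
    obtain ⟨v, hv, hvη⟩ := hηmem
    exact hO hv hvη
  -- compare the dimensions
  obtain ⟨_, ⟨(W' : H.left.Opens), hW', rfl⟩, hxW', -⟩ := H.left.isBasis_affineOpens.exists_subset_of_mem_open
    (Set.mem_univ x') isOpen_univ
  refine le_trans (dim_open_neutral H cl W' ⟨x', hxW', hx'C⟩).ge ?_
  refine le_trans (IsEmbedding.inclusion (t := closure {ξ} ∩ (W' : Set H.left) ∩ H.hom ⁻¹' {cl})
    (fun v hv => ⟨⟨(hξx.trans (hx'gen v hv.2)).mem_closure, hv.1⟩, hv.2.2⟩)).isInducing.topologicalKrullDim_le ?_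
  exact (dim_closure_fibres H.hom hW' hξη hxW' hξx hx'C.2).le.trans
    (IsEmbedding.inclusion Set.inter_subset_right).isInducing.topologicalKrullDim_le

/-- If the fibre dimension is constant on the generizations of a point it is constant nearby. -/
theorem fibDim_nhds [LocallyOfFinitePresentation G.hom] {s : S} (hd : ∀ t, t ⤳ s → fibDim G t = fibDim G s) :
    ∃ U ∈ nhds s, ∀ t ∈ U, fibDim G t = fibDim G s := by
  obtain ⟨_, ⟨(V : S.Opens), hV, rfl⟩, hsV, -⟩ := S.isBasis_affineOpens.exists_subset_of_mem_open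
    (Set.mem_univ s) isOpen_univ
  obtain ⟨_, ⟨(W : G.left.Opens), hW, rfl⟩, heW, hWV⟩ := G.left.isBasis_affineOpens.exists_subset_of_mem_open
    (show η[G].left s ∈ G.hom ⁻¹ᵁ V by change G.hom (η[G].left s) ∈ V; rw [hom_unit]; exact hsV) (G.hom ⁻¹ᵁ V).2
  haveI : IsAffine V.toScheme := hV
  haveI : IsAffine W.toScheme := hW
  let f₀ : W.toScheme ⟶ V.toScheme := G.hom.resLE V W hWV
  haveI : LocallyOfFinitePresentation f₀ := by simp only [f₀, Scheme.Hom.resLE]; infer_instance
  have hf₀ : f₀ ≫ V.ι = W.ι ≫ G.hom := Scheme.Hom.resLE_comp_ι _ _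
  let A₀ := (fun v : V.toScheme => topologicalKrullDim ↥(f₀.fiber v)) ⁻¹' {fibDim G s}
  have hA₀ : ∀ v : V.toScheme, η[G].left (V.ι v) ∈ W → (v ∈ A₀ ↔ fibDim G (V.ι v) = fibDim G s) := fun v hv => by
    have h1 : topologicalKrullDim ↥(f₀.fiber v) = fibDim G (V.ι v) := by
      rw [dim_fibre_eq, ← fibDim_le_of_open G (V.ι v) W ⟨_, hv, unit_mem_neutralSet G _, hom_unit G _⟩]
      refine GrothLib.Dim.IsEmbedding.topologicalKrullDim_eq (f := fun w : f₀ ⁻¹' {v} => W.ι w.1)
        (W.ι.isEmbedding.comp Topology.IsEmbedding.subtypeVal) ?_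
      ext x
      constructor
      · rintro ⟨⟨w, hw⟩, rfl⟩
        refine ⟨w.2, ?_⟩
        rw [Set.mem_preimage, ← Scheme.Hom.comp_apply, ← hf₀, Scheme.Hom.comp_apply, show f₀ w = v from hw]
        rfl
      · rintro ⟨hxW, hx⟩
        refine ⟨⟨⟨x, hxW⟩, V.ι.isEmbedding.injective ?_⟩, rfl⟩
        rw [← Scheme.Hom.comp_apply, hf₀]
        exact hx
    change topologicalKrullDim ↥(f₀.fiber v) ∈ ({fibDim G s} : Set _) ↔ _
    rw [h1, Set.mem_singleton_iff]
  let A := V.ι '' A₀ ∩ η[G].left ⁻¹' (W : Set G.left)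
  have hA : ProCons.IsIndConstructible A :=
    GrothLib.Constr.isIndConstructible_inter (GrothLib.Constr.isIndConstructible_image _
      (GrothLib.Constr.isIndConstructible_of_isLocallyConstructible
        ((GrothLib.FibreDim6.isConstrFun_dim_fiber_affine f₀).1 _).isLocallyConstructible))
      (GrothLib.Constr.isIndConstructible_of_isOpen (W.2.preimage η[G].left.continuous))
  refine ⟨interior A, isOpen_interior.mem_nhds ((GrothLib.Constr.mem_interior_iff hA).mpr fun t ht => ?_),
    fun t ht => ?_⟩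
  · have htW : η[G].left t ∈ W := (ht.map η[G].left.continuous).mem_open W.2 heW
    have htV : t ∈ V := ht.mem_open V.2 hsV
    exact ⟨⟨⟨t, htV⟩, (hA₀ ⟨t, htV⟩ htW).mpr (hd t ht), rfl⟩, htW⟩
  · obtain ⟨⟨v, hv, rfl⟩, htW⟩ := interior_subset ht
    exact (hA₀ v htW).mp hv

end GrothLib.Neutral
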