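import Groth.Agent.Lib.JacLocus.Basic
import Groth.Agent.Lib.Fitting.BaseChange
import Groth.Agent.Lib.Fitting.Local
import Groth.Agent.Lib.GrpSchField.SmoothRegular
import Groth.Agent.Lib.GrpSchField.HeightMax
import Mathlib.RingTheory.Smooth.StandardSmoothOfFree
import Mathlib.RingTheory.Kaehler.TensorProduct
import Mathlib.RingTheory.Smooth.Locus

/-!
Near a smooth point of a fibre of dimension at most `d`, an algebra of finite type is a quotient of a
standard smooth algebra of relative dimension at most `d`.
-/

universe u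

open TensorProduct Algebra

namespace GrothLib.Neutral

attribute [local instance] Algebra.TensorProduct.rightAlgebra

/-- A nontrivial standard smooth algebra of relative dimension `n` over a field has dimension `≥ n`. -/
theorem le_ringKrullDim_of_isStandardSmooth (n : ℕ) {k A : Type u} [Field k] [CommRing A] [Algebra k A]
    [Nontrivial A] [Algebra.IsStandardSmoothOfRelativeDimension n k A] : (n : WithBot ℕ∞) ≤ ringKrullDim A := by
  obtain ⟨φ, hφ⟩ := Algebra.IsStandardSmoothOfRelativeDimension.exists_etale_mvPolynomial n k A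
  algebraize [φ.toRingHom]
  let P := MvPolynomial (Fin n) k
  haveI : Algebra.Etale P A := RingHom.etale_algebraMap.mp (by simpa [RingHom.algebraMap_toAlgebra] using hφ)
  haveI : Algebra.FiniteType P A := inferInstance
  obtain ⟨q, hq⟩ := Ideal.exists_maximal A
  let p := q.under P
  have hp : p.IsMaximal := by
    haveI : Algebra.FiniteType P (A ⧸ q) :=
      Algebra.FiniteType.of_surjective (Ideal.Quotient.mkₐ P q) Ideal.Quotient.mk_surjective
    let _ := Ideal.Quotient.field q
    haveI : Module.Finite P (A ⧸ q) := finite_of_finite_type_of_isJacobsonRing P _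
    have := Ideal.isMaximal_comap_of_isIntegral_of_isMaximal (R := P) (⊥ : Ideal (A ⧸ q))
    rwa [← RingHom.ker_eq_comap_bot, IsScalarTower.algebraMap_eq P A (A ⧸ q), ← RingHom.comap_ker,
      Ideal.Quotient.algebraMap_eq, Ideal.mk_ker] at this
  haveI : q.LiesOver p := ⟨rfl⟩
  haveI : IsNoetherianRing A := Algebra.FiniteType.isNoetherianRing P A
  haveI : Module.Flat P A := inferInstance
  have h := Ideal.height_eq_height_add_of_liesOver_of_hasGoingDown p q
  rw [GrothLib.GrpSchField.height_eq_of_isMaximal_mvPolynomial k n p hp] at h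
  have h' : (n : ℕ∞) ≤ q.height := h ▸ le_self_add
  exact le_trans (by exact_mod_cast h') (Ideal.height_le_ringKrullDim_of_ne_top hq.ne_top)

/-- Near a smooth point of a fibre of dimension at most `d`, an algebra of finite type is a quotient
of a standard smooth algebra of relative dimension at most `d`. -/
theorem exists_standardSmooth_cover {A B : Type u} [CommRing A] [CommRing B] [Algebra A B]
    [Algebra.FiniteType A B] (q : Ideal B) [q.IsPrime]
    (hsm : Algebra.Smooth (q.under A).ResidueField ((q.under A).Fiber B))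
    (d : WithBot ℕ∞) (hd : ringKrullDim ((q.under A).Fiber B) ≤ d) :
    ∃ (n : ℕ), (n : WithBot ℕ∞) ≤ d ∧ ∃ h ∉ q, ∀ (Bh : Type u) [CommRing Bh] [Algebra B Bh] [IsLocalization.Away h Bh],
      ∃ (C : Type u) (_ : CommRing C) (_ : Algebra A C) (ψ : C →+* Bh),
        Algebra.IsStandardSmoothOfRelativeDimension n A C ∧ Function.Surjective ψ ∧
          ψ.comp (algebraMap A C) = (algebraMap B Bh).comp (algebraMap A B) := by
  let p := q.under A
  let pp : PrimeSpectrum A := ⟨p, inferInstance⟩
  let K := p.ResidueField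
  let E := p.Fiber B
  obtain ⟨q₀, hq₀⟩ : ∃ q₀ : PrimeSpectrum E,
      q₀.asIdeal.comap (Algebra.TensorProduct.includeRight (R := A) (A := K) (B := B)) = q :=
    ⟨PrimeSpectrum.preimageEquivFiber A B pp ⟨⟨q, inferInstance⟩, PrimeSpectrum.ext rfl⟩,
      congrArg (fun z => (z : PrimeSpectrum B).asIdeal)
        (congrArg Subtype.val ((PrimeSpectrum.preimageEquivFiber A B pp).symm_apply_apply
          ⟨⟨q, inferInstance⟩, PrimeSpectrum.ext rfl⟩))⟩
  haveI : Algebra.Smooth K E := hsm
  haveI : Algebra.IsSmoothAt K q₀.asIdeal :=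
    Algebra.FormallySmooth.comp K E (Localization.AtPrime q₀.asIdeal)
  obtain ⟨g, hg, hstd⟩ := Algebra.IsSmoothAt.exists_notMem_isStandardSmooth K q₀.asIdeal
  let Eg := Localization.Away g
  obtain ⟨n, hn⟩ : ∃ n, Algebra.IsStandardSmoothOfRelativeDimension n K Eg := by
    obtain ⟨_, _, _, _, ⟨P⟩⟩ := hstd
    exact ⟨_, P.isStandardSmoothOfRelativeDimension rfl⟩
  have hdisj : Disjoint (Submonoid.powers g : Set E) q₀.asIdeal := by
    rwa [Ideal.disjoint_powers_iff_notMem_of_isPrime]
  have hprime := IsLocalization.isPrime_of_isPrime_disjoint (.powers g) Eg _ q₀.2 hdisj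
  haveI : Nontrivial Eg := ⟨0, 1, fun h => hprime.ne_top ((Ideal.eq_top_iff_one _).mpr (h ▸ zero_mem _))⟩
  refine ⟨n, le_trans ((le_ringKrullDim_of_isStandardSmooth n (k := K) (A := Eg)).trans ?_) hd, ?_⟩
  · exact Order.krullDim_le_of_strictMono (PrimeSpectrum.comap (algebraMap E Eg))
      (Monotone.strictMono_of_injective (fun _ _ h => Ideal.comap_mono h)
        (PrimeSpectrum.localization_comap_injective Eg (Submonoid.powers g)))
  · refine GrothLib.JacLocus.exists_standardSmooth_surjective n q fun hle => hg ?_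
    haveI : Module.Finite B (Ω[B⁄A]) := inferInstance
    have h1 : Fitt.ideal E (Ω[E⁄K]) n = (Fitt.ideal B (Ω[B⁄A]) n).map (algebraMap B E) := by
      haveI : Algebra.IsPushout A K B E := inferInstance
      rw [← GrothLib.Fitting.ideal_congr (KaehlerDifferential.tensorKaehlerEquiv A K B E) n,
        GrothLib.Fitting.ideal_baseChange]
    have h2 : Fitt.ideal Eg (Ω[Eg⁄K]) n = (Fitt.ideal E (Ω[E⁄K]) n).map (algebraMap E Eg) := by
      haveI : Module.Finite E (Ω[E⁄K]) := inferInstance
      exact GrothLib.Fitting.ideal_of_isBaseChange Eg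
        (IsLocalizedModule.isBaseChange (Submonoid.powers g) Eg (KaehlerDifferential.map K K E Eg)) n
    have h3 := GrothLib.JacLocus.fitting_eq_top_of_surjective (A := K) (B := Eg) n (AlgHom.id K Eg)
      Function.surjective_id
    rw [h2, h1] at h3
    by_contra hgq
    refine hprime.ne_top ?_
    rw [_root_.eq_top_iff, ← h3]
    refine Ideal.map_mono (Ideal.map_le_iff_le_comap.mpr fun b hb => ?_)
    exact (hq₀.ge (hle hb) :)

end GrothLib.Neutral
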