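import Groth.Agent.Lib.Neutral.ConstDim
import Groth.Prelude.Def_ChGrp

/-!
With constant fibre dimension, the translates of an open by the neutral components form an open, and the
translates of a separated open form a separated open.
-/

universe u

open CategoryTheory CategoryTheory.Limits MonoidalCategory CartesianMonoidalCategory MonObj GrpObj
open AlgebraicGeometry Topology

set_option backward.isDefEq.respectTransparency false

namespace GrothLib.Neutral

open GrothLib.SepAct (left_apply left_apply₂ ptOf unitComp exists_lift_of_mem_range)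

variable {S : Scheme.{u}} {G X : Over S} [GrpObj G]

/-- The translates of a set by the neutral components. -/
def neutralOrbit (a : AlgGrp.Action G X) (U : Set X.left) : Set X.left :=
  a.act.left '' {z : ↥(G ⊗ X).left | (fst G X).left z ∈ SGA3x.neutralSet G ∧ (snd G X).left z ∈ U}

theorem isOpen_neutralOrbit (a : AlgGrp.Action G X) [LocallyOfFinitePresentation G.hom]
    (hd : ∀ t s : S, t ⤳ s → fibDim G t = fibDim G s) (U : X.left.Opens) : IsOpen (neutralOrbit a U) := by
  haveI : LocallyOfFinitePresentation a.act.left :=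
    GrothLib.GrpSchField.act_property @LocallyOfFinitePresentation a inferInstance
  have hind : ProCons.IsIndConstructible (neutralOrbit a (U : Set X.left)) :=
    GrothLib.Constr.isIndConstructible_image _ (GrothLib.Constr.isIndConstructible_inter
      (GrothLib.Constr.isIndConstructible_preimage (fst G X).left (isIndConstructible_neutralSet G))
      (GrothLib.Constr.isIndConstructible_of_isOpen (U.2.preimage (snd G X).left.continuous)))
  rw [← interior_eq_iff_isOpen]
  refine Set.Subset.antisymm interior_subset fun y hy => ?_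
  refine (GrothLib.Constr.mem_interior_iff hind).mpr fun y' hy' => ?_
  obtain ⟨z, ⟨hzN, hzU⟩, rfl⟩ := hy
  let H := Red.bc X.hom G
  haveI : LocallyOfFiniteType H.hom := inferInstanceAs (LocallyOfFiniteType (pullback.snd G.hom X.hom))
  let e := GrothLib.GrpSchField.shear a
  let p : ↥(G ⊗ X).left := e.hom.left z
  have hp₁ : (fst G X).left p = (fst G X).left z := left_apply (GrothLib.GrpSchField.shear_hom_fst a) z
  have hp₂ : (snd G X).left p = a.act.left z := left_apply (GrothLib.GrpSchField.shear_hom_snd a) z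
  have hinv : ∀ q, e.inv.left (e.hom.left q) = q := fun q => left_apply e.hom_inv_id q
  have hinv' : ∀ q, e.hom.left (e.inv.left q) = q := fun q => left_apply e.inv_hom_id q
  have hpN : p ∈ SGA3x.neutralSet H := by
    rw [neutralSet_bc]
    change (fst G X).left p ∈ SGA3x.neutralSet G
    rwa [hp₁]
  let O : (G ⊗ X).left.Opens := (e.inv.left ≫ (snd G X).left) ⁻¹ᵁ U
  have hpO : p ∈ O := by
    change (snd G X).left (e.inv.left (e.hom.left z)) ∈ U
    rwa [hinv]
  have hHp : ∀ q : H.left, H.hom q = (snd G X).left q := fun q => rfl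
  obtain ⟨p', hp'O, hp'N, hp'⟩ := exists_neutral_over_generization H hpN (t := y')
    (by rw [hHp, hp₂]; exact hy')
    (by rw [fibDim_bc, fibDim_bc, hHp, hp₂]; exact hd _ _ (hy'.map X.hom.continuous)) O hpO
  refine ⟨e.inv.left p', ⟨?_, hp'O⟩, ?_⟩
  · rw [← left_apply (GrothLib.GrpSchField.shear_hom_fst a), hinv']
    rw [neutralSet_bc] at hp'N
    exact hp'N
  · rw [← left_apply (GrothLib.GrpSchField.shear_hom_snd a), hinv']
    exact hp'

theorem subset_neutralOrbit (a : AlgGrp.Action G X) (U : Set X.left) : U ⊆ neutralOrbit a U := by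
  intro x hx
  refine ⟨(lift (1 : X ⟶ G) (𝟙 X)).left x, ⟨?_, ?_⟩, left_apply (GrothLib.GrpSchField.act_one a (𝟙 X)) x⟩
  · rw [left_apply (lift_fst _ _), Hom.one_def, Over.comp_left, Scheme.Hom.comp_apply]
    exact unit_mem_neutralSet G _
  · rw [left_apply (lift_snd _ _)]
    exact hx

/-- The diagonal is stable under the diagonal action. -/
theorem act_mem_diag (a : AlgGrp.Action G X) {q : ↥(G ⊗ (X ⊗ X)).left}
    (hq : (snd G (X ⊗ X)).left q ∈ Set.range (lift (𝟙 X) (𝟙 X)).left) :
    (a.prod a).act.left q ∈ Set.range (lift (𝟙 X) (𝟙 X)).left := by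
  let Δ : X ⟶ X ⊗ X := lift (𝟙 X) (𝟙 X)
  let P := (G ⊗ (X ⊗ X)).left
  let f := P.fromSpecResidueField q
  let pt : Spec (P.residueField q) := IsLocalRing.closedPoint (P.residueField q)
  have hfq : f pt = q := P.fromSpecResidueField_apply q _
  haveI : IsImmersion Δ.left := inferInstanceAs (IsImmersion (pullback.diagonal X.hom))
  obtain ⟨k, hk⟩ := exists_lift_of_mem_range Δ.left (f ≫ (snd G (X ⊗ X)).left)
    (by rw [Scheme.Hom.comp_apply]; exact Set.mem_of_eq_of_mem (congrArg (snd G (X ⊗ X)).left hfq) hq)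
  let T : Over S := Over.mk (f ≫ (G ⊗ (X ⊗ X)).hom)
  let F : T ⟶ G ⊗ (X ⊗ X) := Over.homMk f
  let k' : T ⟶ X := Over.homMk k (by
    have h := hk =≫ (X ⊗ X).hom
    rw [Category.assoc, Category.assoc, Over.w Δ, Over.w (snd G (X ⊗ X))] at h
    exact h)
  have hF : F ≫ snd G (X ⊗ X) = k' ≫ Δ := Over.OverMorphism.ext hk.symm
  have e : F ≫ (a.prod a).act = (lift (F ≫ fst G (X ⊗ X)) k' ≫ a.act) ≫ Δ := by
    have hF' : F = lift (F ≫ fst G (X ⊗ X)) (k' ≫ Δ) := by rw [← hF, lift_comp_fst_snd]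
    conv_lhs => rw [hF']
    simp [AlgGrp.Action.prod, Δ, comp_lift]
  exact ⟨(lift (F ≫ fst G (X ⊗ X)) k' ≫ a.act).left pt, (left_apply₂ e pt).symm.trans (congrArg _ hfq)⟩

/-- Two points of the translates of `U` over the same point are translates of two points of `U` by the
same element of the neutral component. -/
theorem mem_neutralOrbit_pair (a : AlgGrp.Action G X) [LocallyOfFiniteType G.hom] (U : X.left.Opens)
    (z : ↥(X ⊗ X).left) (h₁ : (fst X X).left z ∈ neutralOrbit a U) (h₂ : (snd X X).left z ∈ neutralOrbit a U) :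
    z ∈ neutralOrbit (a.prod a) ((fst X X).left ⁻¹' (U : Set X.left) ∩ (snd X X).left ⁻¹' (U : Set X.left)) := by
  let P := (X ⊗ X).left
  let K := AlgebraicClosure (P.residueField z)
  let f : Spec (CommRingCat.of K) ⟶ P :=
    Spec.map (CommRingCat.ofHom (algebraMap (P.residueField z) K)) ≫ P.fromSpecResidueField z
  let pt : Spec (CommRingCat.of K) := IsLocalRing.closedPoint K
  have hfz : f pt = z := by
    simp only [f, Scheme.Hom.comp_apply]
    exact P.fromSpecResidueField_apply z _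
  let b : Spec (CommRingCat.of K) ⟶ S := f ≫ (X ⊗ X).hom
  haveI : LocallyOfFiniteType (pullback.snd G.hom b) := MorphismProperty.pullback_snd _ _ inferInstance
  let T : Over S := Over.mk b
  let F : T ⟶ X ⊗ X := Over.homMk f
  let ψ : (T ⟶ X) → (G ⊗ T ⟶ X) := fun x => lift (fst G T)⁻¹ (snd G T ≫ x) ≫ a.act
  have key : ∀ x : T ⟶ X, x.left pt ∈ neutralOrbit a U →
      (unitComp b G ∩ (ψ x).left ⁻¹' (U : Set X.left)).Nonempty := by
    rintro x ⟨q, ⟨hqN, hqU⟩, hq⟩
    obtain ⟨r, hr₁, hr₂⟩ := Scheme.Pullback.exists_preimage_pullback (f := a.act.left) (g := x.left) q pt hq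
    let R : Over S := Over.mk (pullback.fst a.act.left x.left ≫ (G ⊗ X).hom)
    let pr : R ⟶ G ⊗ X := Over.homMk (pullback.fst a.act.left x.left)
    let prT : R ⟶ T := Over.homMk (pullback.snd a.act.left x.left) (by
      change _ ≫ b = _ ≫ (G ⊗ X).hom
      rw [← show a.act.left ≫ X.hom = (G ⊗ X).hom from Over.w a.act,
        ← show x.left ≫ X.hom = b from Over.w x, ← Category.assoc, ← Category.assoc, pullback.condition])
    have hc : pr ≫ a.act = prT ≫ x := Over.OverMorphism.ext pullback.condition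
    let m : R ⟶ G ⊗ T := lift (pr ≫ fst G X) prT
    have hm : m ≫ ψ x = pr ≫ snd G X := by
      have : pr = lift (pr ≫ fst G X) (pr ≫ snd G X) := (lift_comp_fst_snd pr).symm
      simp only [ψ, m, comp_lift_assoc, GrpObj.comp_inv, lift_fst, lift_snd_assoc, ← hc]
      conv_lhs => arg 1; arg 2; rw [this]
      rw [← GrothLib.GrpSchField.act_mul, inv_mul_cancel, GrothLib.GrpSchField.act_one]
    refine ⟨m.left r, ?_, ?_⟩
    · rw [← preimage_neutralSet_eq_unitComp, Set.mem_preimage,
        left_apply₂ (show m ≫ fst G T = pr ≫ fst G X from lift_fst _ _)]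
      change (fst G X).left ((pullback.fst a.act.left x.left) r) ∈ SGA3x.neutralSet G
      rw [hr₁]
      exact hqN
    · rw [Set.mem_preimage, left_apply₂ hm]
      change (snd G X).left ((pullback.fst a.act.left x.left) r) ∈ U
      rw [hr₁]
      exact hqU
  have hF₁ : (F ≫ fst X X).left pt = (fst X X).left z := by
    rw [Over.comp_left, Scheme.Hom.comp_apply]; exact congrArg _ hfz
  have hF₂ : (F ≫ snd X X).left pt = (snd X X).left z := by
    rw [Over.comp_left, Scheme.Hom.comp_apply]; exact congrArg _ hfz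
  obtain ⟨r, hrC, hr₁, hr₂⟩ := (isIrreducible_irreducibleComponent (x := ptOf b (1 : T ⟶ G))).2 _ _
    (U.2.preimage (ψ (F ≫ fst X X)).left.continuous) (U.2.preimage (ψ (F ≫ snd X X)).left.continuous)
    (key _ (hF₁ ▸ h₁)) (key _ (hF₂ ▸ h₂))
  let Q : G ⊗ T ⟶ G ⊗ (X ⊗ X) := lift (fst G T) (lift (ψ (F ≫ fst X X)) (ψ (F ≫ snd X X)))
  refine ⟨Q.left r, ⟨?_, ?_, ?_⟩, ?_⟩
  · rw [left_apply (lift_fst _ _)]
    have : r ∈ unitComp b G := hrC
    rwa [← preimage_neutralSet_eq_unitComp] at this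
  · rw [Set.mem_preimage, left_apply₂ (show snd G (X ⊗ X) ≫ fst X X = snd G (X ⊗ X) ≫ fst X X from rfl),
      left_apply (show Q ≫ snd G (X ⊗ X) = lift (ψ (F ≫ fst X X)) (ψ (F ≫ snd X X)) from lift_snd _ _),
      left_apply (lift_fst _ _)]
    exact hr₁
  · rw [Set.mem_preimage,
      left_apply (show Q ≫ snd G (X ⊗ X) = lift (ψ (F ≫ fst X X)) (ψ (F ≫ snd X X)) from lift_snd _ _),
      left_apply (lift_snd _ _)]
    exact hr₂
  · have e : Q ≫ (a.prod a).act = snd G T ≫ F := by
      have hinv : ∀ x : T ⟶ X, lift (fst G T) (ψ x) ≫ a.act = snd G T ≫ x := fun x => by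
        simp only [ψ]
        rw [← GrothLib.GrpSchField.act_mul, mul_inv_cancel, GrothLib.GrpSchField.act_one]
      simp only [Q, AlgGrp.Action.prod, comp_lift, lift_whiskerLeft_assoc, lift_fst, lift_snd, hinv]
      rw [← comp_lift, lift_comp_fst_snd]
    rw [left_apply₂ e, show (snd G T).left r = pt from Subsingleton.elim (α := PrimeSpectrum K) _ _]
    exact hfz

theorem isSeparated_neutralOrbit (a : AlgGrp.Action G X) [LocallyOfFinitePresentation G.hom]
    (hd : ∀ t s : S, t ⤳ s → fibDim G t = fibDim G s) (U : X.left.Opens) [IsSeparated (U.ι ≫ X.hom)]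
    (V : X.left.Opens) (hV : (V : Set X.left) = neutralOrbit a U) : IsSeparated (V.ι ≫ X.hom) := by
  let Δ : X ⟶ X ⊗ X := lift (𝟙 X) (𝟙 X)
  let JU : pullback (U.ι ≫ X.hom) (U.ι ≫ X.hom) ⟶ (X ⊗ X).left :=
    pullback.map _ _ X.hom X.hom U.ι U.ι (𝟙 _) (by simp) (by simp)
  have hJU : Set.range JU = _ := Scheme.Pullback.range_map _ _ X.hom X.hom U.ι U.ι (𝟙 _) (by simp) (by simp)
  rw [Scheme.Opens.range_ι] at hJU
  have hΔU : pullback.diagonal (U.ι ≫ X.hom) ≫ JU = U.ι ≫ Δ.left := by
    apply pullback.hom_ext <;> simp [JU, Δ, Over.lift_left]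
  let W₀ : Set ↥(X ⊗ X).left :=
    ((fst X X).left ⁻¹' (U : Set X.left) ∩ (snd X X).left ⁻¹' (U : Set X.left)) \ Set.range Δ.left
  have hW₀ : W₀ = JU '' (Set.range (pullback.diagonal (U.ι ≫ X.hom)))ᶜ := by
    ext z
    constructor
    · rintro ⟨hz, hzΔ⟩
      obtain ⟨v, rfl⟩ : z ∈ Set.range JU := by rw [hJU]; exact hz
      refine ⟨v, ?_, rfl⟩
      rintro ⟨u, rfl⟩
      exact hzΔ ⟨U.ι u, by rw [← Scheme.Hom.comp_apply, ← hΔU]; rfl⟩
    · rintro ⟨v, hv, rfl⟩
      refine ⟨hJU.le ⟨v, rfl⟩, ?_⟩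
      rintro ⟨x, hx⟩
      have hxU : x ∈ U := by
        have h1 : (fst X X).left (JU v) ∈ U := (hJU.le ⟨v, rfl⟩).1
        rwa [← hx, left_apply (show Δ ≫ fst X X = 𝟙 X from lift_fst _ _)] at h1
      refine hv ⟨⟨x, hxU⟩, JU.isOpenEmbedding.injective ?_⟩
      rw [← Scheme.Hom.comp_apply, hΔU]
      exact hx
  let W : (X ⊗ X).left.Opens := ⟨W₀, by
    rw [hW₀]
    exact JU.isOpenEmbedding.isOpenMap _ (pullback.diagonal (U.ι ≫ X.hom)).isClosedEmbedding.isClosed_range.isOpen_compl⟩
  have hΩ : IsOpen (neutralOrbit (a.prod a) (W : Set ↥(X ⊗ X).left)) := isOpen_neutralOrbit (a.prod a) hd W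
  let JV : pullback (V.ι ≫ X.hom) (V.ι ≫ X.hom) ⟶ (X ⊗ X).left :=
    pullback.map _ _ X.hom X.hom V.ι V.ι (𝟙 _) (by simp) (by simp)
  have hJV : Set.range JV = _ := Scheme.Pullback.range_map _ _ X.hom X.hom V.ι V.ι (𝟙 _) (by simp) (by simp)
  rw [Scheme.Opens.range_ι] at hJV
  have hΔV : pullback.diagonal (V.ι ≫ X.hom) ≫ JV = V.ι ≫ Δ.left := by
    apply pullback.hom_ext <;> simp [JV, Δ, Over.lift_left]
  have hcompl : (Set.range (pullback.diagonal (V.ι ≫ X.hom)))ᶜ =
      JV ⁻¹' neutralOrbit (a.prod a) (W : Set ↥(X ⊗ X).left) := by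
    ext v
    constructor
    · intro hv
      have hv' := hJV.le ⟨v, rfl⟩
      have hz : JV v ∉ Set.range Δ.left := by
        rintro ⟨x, hx⟩
        have hxV : x ∈ V := by
          have h1 : (fst X X).left (JV v) ∈ V := hv'.1
          rwa [← hx, left_apply (show Δ ≫ fst X X = 𝟙 X from lift_fst _ _)] at h1
        refine hv ⟨⟨x, hxV⟩, JV.isOpenEmbedding.injective ?_⟩
        rw [← Scheme.Hom.comp_apply, hΔV]
        exact hx
      obtain ⟨q, ⟨hqN, hqU⟩, hq⟩ := mem_neutralOrbit_pair a U (JV v)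
        (hV.le hv'.1) (hV.le hv'.2)
      refine ⟨q, ⟨hqN, hqU, fun hqΔ => hz ?_⟩, hq⟩
      rw [← hq]
      exact act_mem_diag a hqΔ
    · rintro ⟨q, ⟨-, -, hqW⟩, hq⟩ ⟨x, rfl⟩
      refine hqW ?_
      have hact : (a.prod a).act.left q ∈ Set.range Δ.left := by
        rw [hq, ← Scheme.Hom.comp_apply, hΔV]
        exact ⟨V.ι x, rfl⟩
      let θ : G ⊗ (X ⊗ X) ⟶ G ⊗ (X ⊗ X) := lift (fst G (X ⊗ X))⁻¹ (a.prod a).act
      have hθ : θ ≫ (a.prod a).act = snd G (X ⊗ X) := by
        have h : (a.prod a).act = lift (fst G (X ⊗ X)) (snd G (X ⊗ X)) ≫ (a.prod a).act := by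
          rw [lift_fst_snd, Category.id_comp]
        simp only [θ]
        conv_lhs => arg 1; arg 2; rw [h]
        rw [← GrothLib.GrpSchField.act_mul, inv_mul_cancel, GrothLib.GrpSchField.act_one]
      have := act_mem_diag a (q := θ.left q)
        (by rw [left_apply (show θ ≫ snd G (X ⊗ X) = (a.prod a).act from lift_snd _ _)]; exact hact)
      rwa [left_apply hθ] at this
  refine ⟨IsClosedImmersion.of_isPreimmersion _ ?_⟩
  rw [← isOpen_compl_iff, hcompl]
  exact hΩ.preimage JV.continuous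

end GrothLib.Neutral
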