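import Groth.Agent.Lib.Neutral.FieldFactor
import Groth.Agent.Lib.GrpSchField.Shear

/-!
Properness, openness and dimensions for homomorphisms over a local artinian ring, by reduction.
-/

universe u

open CategoryTheory CategoryTheory.Limits MonoidalCategory CartesianMonoidalCategory MonObj GrpObj
open AlgebraicGeometry Topology

set_option backward.isDefEq.respectTransparency false

noncomputable section

namespace GrothLib.Neutral

variable {A : Type u} [CommRing A] [IsArtinianRing A] [IsLocalRing A] {G H : Over (Spec (CommRingCat.of A))}

theorem surjective_fst_closedPt (X : Over (Spec (CommRingCat.of A))) :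
    Surjective (pullback.fst X.hom (closedPt A)) := MorphismProperty.pullback_fst _ _ inferInstance

theorem isClosedImmersion_one_artin [GrpObj G] : IsClosedImmersion η[G].left := by
  haveI : IsImmersion (η[G].left ≫ G.hom) := by
    rw [Over.w η[G]]; exact inferInstanceAs (IsImmersion (𝟙 _))
  haveI : IsImmersion η[G].left := IsImmersion.of_comp η[G].left G.hom
  refine IsClosedImmersion.iff_isPreimmersion.mpr ⟨inferInstance, ?_⟩
  haveI := GrothLib.GrpSchField.unit_isClosedImmersion (Red.bc (closedPt A) G)
  have h : Set.range η[G].left = (pullback.fst G.hom (closedPt A)) '' Set.range η[Red.bc (closedPt A) G].left := by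
    rw [← Set.range_comp]
    refine Eq.trans ?_ (congrArg (fun φ => Set.range φ.base) (unit_fst (G := G) (closedPt A))).symm
    exact ((closedPt A).surjective.range_comp _).symm
  rw [h]
  exact (pullback.fst G.hom (closedPt A)).isClosedEmbedding.isClosedMap _
    η[Red.bc (closedPt A) G].left.isClosedEmbedding.isClosed_range

theorem isSeparated_artin (G : Over (Spec (CommRingCat.of A))) [GrpObj G] : IsSeparated G.hom :=
  ⟨GrothLib.GrpSchField.diagonal_property @IsClosedImmersion isClosedImmersion_one_artin⟩

variable [GrpObj G] [GrpObj H] [LocallyOfFiniteType G.hom] [LocallyOfFiniteType H.hom] (u : G ⟶ H) [IsMonHom u]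

/-- A quasi-compact homomorphism with proper kernel is proper. -/
theorem isProper_of_kernel_artin [QuasiCompact u.left]
    (hK : IsProper (pullback.snd u.left η[H].left)) : IsProper u.left := by
  haveI := lft_reduction A G
  haveI := lft_reduction A H
  haveI := quasiCompact_red u
  haveI := GrothLib.GrpSchField.unit_isClosedImmersion (Red.bc (closedPt A) H)
  let p₁ := pullback.fst (red u).left η[Red.bc (closedPt A) H].left
  have hw : (p₁ ≫ pullback.fst G.hom (closedPt A)) ≫ u.left =
      (pullback.snd (red u).left η[Red.bc (closedPt A) H].left ≫ closedPt A) ≫ η[H].left := by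
    rw [Category.assoc, ← red_w, ← Category.assoc, pullback.condition, Category.assoc, unit_fst]
    rfl
  let j := pullback.lift _ _ hw
  haveI : IsClosedImmersion (j ≫ pullback.fst u.left η[H].left) := by
    rw [pullback.lift_fst]; infer_instance
  haveI := isClosedImmersion_one_artin (G := H)
  haveI : IsClosedImmersion j := IsClosedImmersion.of_comp j (pullback.fst u.left η[H].left)
  haveI : IsProper (pullback.snd u.left η[H].left) := hK
  haveI : IsProper (pullback.snd (red u).left η[Red.bc (closedPt A) H].left ≫ closedPt A) := by
    rw [← pullback.lift_snd (f := u.left) (g := η[H].left) _ _ hw]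
    infer_instance
  haveI : IsProper (red u).left := isProper_of_kernel (red u)
    (IsProper.of_comp (pullback.snd (red u).left η[Red.bc (closedPt A) H].left) (closedPt A))
  haveI : UniversallyClosed (pullback.fst G.hom (closedPt A) ≫ u.left) := by rw [← red_w]; infer_instance
  haveI := surjective_fst_closedPt G
  haveI : UniversallyClosed u.left := (GrothLib.Thickening.universallyClosed_comp_iff _ u.left).mp ‹_›
  haveI : IsSeparated (u.left ≫ H.hom) := by rw [Over.w u]; exact isSeparated_artin G
  haveI : IsSeparated u.left := IsSeparated.of_comp u.left H.hom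
  haveI : LocallyOfFiniteType u.left := by
    haveI : LocallyOfFiniteType (u.left ≫ H.hom) := by rw [Over.w u]; infer_instance
    exact locallyOfFiniteType_of_comp u.left H.hom
  exact { }

/-- An open homomorphism is universally open. -/
theorem universallyOpen_of_isOpenMap_artin (hu : IsOpenMap u.left) : UniversallyOpen u.left := by
  haveI := lft_reduction A G
  haveI := lft_reduction A H
  have h : IsOpenMap (red u).left := by
    intro U hU
    have h1 := (hu _ ((reductionHomeo A G).isOpenMap U hU)).preimage (reductionHomeo A H).continuous
    convert h1 using 1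
    have hc : ∀ z, (reductionHomeo A H) ((red u).left z) = u.left ((reductionHomeo A G) z) := fun z =>
      congrArg (fun φ => φ.base z) (red_w u)
    ext w
    constructor
    · rintro ⟨z, hz, rfl⟩
      exact ⟨_, ⟨z, hz, rfl⟩, (hc z).symm⟩
    · rintro ⟨_, ⟨z, hz, rfl⟩, hzw⟩
      exact ⟨z, hz, (reductionHomeo A H).injective ((hc z).trans hzw)⟩
  haveI := universallyOpen_of_isOpenMap_field (red u) h
  haveI := surjective_fst_closedPt H
  haveI := GrothLib.Thickening.universallyOpen_of_surjective (pullback.fst H.hom (closedPt A))
  haveI : UniversallyOpen (pullback.fst G.hom (closedPt A) ≫ u.left) := by rw [← red_w]; infer_instance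
  haveI := surjective_fst_closedPt G
  exact GrothLib.Thickening.universallyOpen_of_comp_surjective (pullback.fst G.hom (closedPt A)) u.left

theorem range_red : Set.range u.left = reductionHomeo A H '' Set.range (red u).left := by
  rw [← Set.range_comp]
  refine Eq.trans ?_ (congrArg (fun φ => Set.range φ.base) (red_w u)).symm
  show _ = Set.range (u.left ∘ pullback.fst G.hom (closedPt A))
  haveI := surjective_fst_closedPt G
  rw [(pullback.fst G.hom (closedPt A)).surjective.range_comp]

theorem isClosed_range_artin [QuasiCompact u.left] : IsClosed (Set.range u.left) := by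
  haveI := lft_reduction A G
  haveI := lft_reduction A H
  haveI := quasiCompact_red u
  rw [range_red]
  exact (reductionHomeo A H).isClosedMap _ (isClosed_range_hom (red u))

theorem dim_eq_add_artin [QuasiCompact u.left] :
    topologicalKrullDim G.left =
      topologicalKrullDim (Set.range u.left) + topologicalKrullDim ↥(pullback u.left η[H].left) := by
  haveI := lft_reduction A G
  haveI := lft_reduction A H
  haveI := quasiCompact_red u
  let p₁ := pullback.fst (red u).left η[Red.bc (closedPt A) H].left
  haveI := GrothLib.GrpSchField.unit_isClosedImmersion (Red.bc (closedPt A) H)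
  haveI := isClosedImmersion_one_artin (G := H)
  rw [← IsHomeomorph.topologicalKrullDim_eq _ (reductionHomeo A G).isHomeomorph, dim_eq_add_field (red u)]
  congr 1
  · exact GrothLib.Dim.IsEmbedding.topologicalKrullDim_eq
      ((reductionHomeo A H).isEmbedding.comp IsEmbedding.subtypeVal)
      (by rw [Set.range_comp, Subtype.range_coe]; exact (range_red u).symm)
  · refine (GrothLib.Dim.IsEmbedding.topologicalKrullDim_eq
      ((reductionHomeo A G).isEmbedding.comp p₁.isEmbedding) ?_).trans
      (GrothLib.Dim.IsEmbedding.topologicalKrullDim_eq (pullback.fst u.left η[H].left).isEmbedding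
        (rfl : _ = Set.range (pullback.fst u.left η[H].left))).symm
    rw [Set.range_comp, Scheme.Pullback.range_fst, Scheme.Pullback.range_fst]
    have hc : ∀ z, (reductionHomeo A H) ((red u).left z) = u.left ((reductionHomeo A G) z) := fun z =>
      congrArg (fun φ => φ.base z) (red_w u)
    have he : Set.range η[H].left = reductionHomeo A H '' Set.range η[Red.bc (closedPt A) H].left := by
      rw [← Set.range_comp]
      refine Eq.trans ?_ (congrArg (fun φ => Set.range φ.base) (unit_fst (G := H) (closedPt A))).symm
      exact ((closedPt A).surjective.range_comp _).symm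
    ext y
    obtain ⟨z, rfl⟩ := (reductionHomeo A G).surjective y
    rw [Homeomorph.image_eq_preimage_symm, Set.mem_preimage, Homeomorph.symm_apply_apply, Set.mem_preimage,
      Set.mem_preimage, he, ← hc, (reductionHomeo A H).injective.mem_set_image]

end GrothLib.Neutral
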