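import Groth.Agent.Lib.Neutral.Connected
import Groth.Agent.Lib.SepAct.Orbit
import Groth.Prelude.Def_SGA3x

/-!
The union of the neutral components of the fibres: description on fibres, compatibility with base
change, and the unit component of geometric fibres.
-/

universe u

open CategoryTheory CategoryTheory.Limits MonoidalCategory CartesianMonoidalCategory MonObj GrpObj
open AlgebraicGeometry Topology

set_option backward.isDefEq.respectTransparency false

namespace GrothLib.Neutral

open GrothLib.SepAct

variable {S : Scheme.{u}} (G : Over S) [GrpObj G]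

theorem hom_unit (s : S) : G.hom (η[G].left s) = s := by
  rw [← Scheme.Hom.comp_apply, Over.w η[G]]
  rfl

theorem mem_neutralSet_iff (g : G.left) :
    g ∈ SGA3x.neutralSet G ↔ g ∈ connectedComponentIn (G.hom ⁻¹' {G.hom g}) (η[G].left (G.hom g)) := by
  simp only [SGA3x.neutralSet, Set.mem_iUnion]
  constructor
  · rintro ⟨p, hp⟩
    change g ∈ connectedComponentIn (G.hom ⁻¹' {p}) (η[G].left p) at hp
    obtain rfl : G.hom g = p := connectedComponentIn_subset (G.hom ⁻¹' {p}) _ hp
    exact hp
  · intro h
    exact ⟨G.hom g, h⟩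

theorem unit_mem_neutralSet (s : S) : η[G].left s ∈ SGA3x.neutralSet G := by
  have h1 := hom_unit G s
  rw [mem_neutralSet_iff, h1]
  exact mem_connectedComponentIn h1

theorem neutralSet_inter_fibre (s : S) :
    SGA3x.neutralSet G ∩ G.hom ⁻¹' {s} = connectedComponentIn (G.hom ⁻¹' {s}) (η[G].left s) := by
  ext g
  constructor
  · rintro ⟨hg, rfl⟩
    exact (mem_neutralSet_iff G g).mp hg
  · intro hg
    have hgs : G.hom g = s := connectedComponentIn_subset (G.hom ⁻¹' {s}) _ hg
    exact ⟨(mem_neutralSet_iff G g).mpr (by rwa [hgs]), hgs⟩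

/-- The unit section of a fibre. -/
noncomputable def fibUnit (s : S) : Spec (S.residueField s) ⟶ G.hom.fiber s :=
  pullback.lift (S.fromSpecResidueField s ≫ η[G].left) (𝟙 _) (by
    rw [Category.assoc, Over.w η[G], Category.id_comp]
    exact Category.comp_id _)

theorem fibUnit_fiberι (s : S) : fibUnit G s ≫ G.hom.fiberι s = S.fromSpecResidueField s ≫ η[G].left :=
  pullback.lift_fst _ _ _

theorem fibUnit_snd (s : S) : fibUnit G s ≫ G.hom.fiberToSpecResidueField s = 𝟙 _ :=
  pullback.lift_snd _ _ _

theorem fiberι_fibUnit (s : S) (p : Spec (S.residueField s)) : G.hom.fiberι s (fibUnit G s p) = η[G].left s := by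
  rw [← Scheme.Hom.comp_apply, fibUnit_fiberι, Scheme.Hom.comp_apply, S.fromSpecResidueField_apply]
  rfl

/-- The neutral component in the scheme-theoretic fibre. -/
noncomputable def fibComp (s : S) : Set ↥(G.hom.fiber s) :=
  connectedComponent (fibUnit G s (IsLocalRing.closedPoint (S.residueField s)))

theorem image_fibComp (s : S) : G.hom.fiberι s '' fibComp G s = SGA3x.neutralSet G ∩ G.hom ⁻¹' {s} := by
  let u := fibUnit G s (IsLocalRing.closedPoint (S.residueField s))
  have hu : G.hom.fiberι s u = η[G].left s := fiberι_fibUnit G s _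
  rw [neutralSet_inter_fibre]
  refine Set.Subset.antisymm ?_ fun g hg => ?_
  · refine _root_.IsPreconnected.subset_connectedComponentIn
      (isPreconnected_connectedComponent.image _ (G.hom.fiberι s).continuous.continuousOn)
      ⟨u, mem_connectedComponent, hu⟩ ?_
    rw [← G.hom.range_fiberι s]
    exact Set.image_subset_range _ _
  · have hsub : connectedComponentIn (G.hom ⁻¹' {s}) (η[G].left s) ⊆ Set.range (G.hom.fiberι s) := by
      rw [G.hom.range_fiberι s]; exact connectedComponentIn_subset _ _
    obtain ⟨v, rfl⟩ := hsub hg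
    refine ⟨v, ?_, rfl⟩
    have hpre : _root_.IsPreconnected (G.hom.fiberι s ⁻¹' connectedComponentIn (G.hom ⁻¹' {s}) (η[G].left s)) := by
      rw [← (G.hom.fiberι s).isEmbedding.isInducing.isPreconnected_image, Set.image_preimage_eq_of_subset hsub]
      exact isPreconnected_connectedComponentIn
    refine hpre.subset_connectedComponent ?_ hg
    rw [Set.mem_preimage, hu]
    exact mem_connectedComponentIn (hom_unit G s)

theorem unit_fst {S' : Scheme.{u}} (f : S' ⟶ S) :
    η[Red.bc f G].left ≫ pullback.fst G.hom f = f ≫ η[G].left := by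
  simp [Red.bc, Red.grpObj_bc]

/-- The neutral components commute with base change. -/
theorem neutralSet_bc {S' : Scheme.{u}} (f : S' ⟶ S) :
    SGA3x.neutralSet (Red.bc f G) = pullback.fst G.hom f ⁻¹' SGA3x.neutralSet G := by
  ext g'
  let G' := Red.bc f G
  let s' : S' := G'.hom g'
  let π := pullback.fst G.hom f
  have hπs : ∀ v : G'.left, G.hom (π v) = f (G'.hom v) := fun v => by
    rw [← Scheme.Hom.comp_apply, pullback.condition, Scheme.Hom.comp_apply]
    rfl
  have hπe : π (η[G'].left s') = η[G].left (f s') := by
    exact congr($(unit_fst G f) s')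
  constructor
  · intro hg
    have h1 : g' ∈ SGA3x.neutralSet G' ∩ G'.hom ⁻¹' {s'} := ⟨hg, rfl⟩
    rw [neutralSet_inter_fibre] at h1
    have h2 : π g' ∈ connectedComponentIn (G.hom ⁻¹' {f s'}) (η[G].left (f s')) := by
      refine (_root_.IsPreconnected.subset_connectedComponentIn
        (isPreconnected_connectedComponentIn.image _ π.continuous.continuousOn)
        ⟨_, mem_connectedComponentIn (hom_unit G' s'), hπe⟩ ?_) ⟨g', h1, rfl⟩
      rintro _ ⟨v, hv, rfl⟩
      have hv' : G'.hom v = s' := connectedComponentIn_subset (G'.hom ⁻¹' {s'}) _ hv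
      rw [Set.mem_preimage, hπs, hv']
      rfl
    rw [← neutralSet_inter_fibre] at h2
    exact h2.1
  · intro hg
    have hgC : π g' ∈ G.hom.fiberι (f s') '' fibComp G (f s') := by
      rw [image_fibComp]
      exact ⟨hg, hπs g'⟩
    let J : G'.hom.fiber s' ⟶ G.hom.fiber (f s') :=
      pullback.map _ _ _ _ π (Spec.map (f.residueFieldMap s')) f pullback.condition.symm (by simp)
    have sqJ : IsPullback J (G'.hom.fiberToSpecResidueField s') (G.hom.fiberToSpecResidueField (f s'))
        (Spec.map (f.residueFieldMap s')) :=
      isPullback_fiberToSpecResidueField_of_isPullback (IsPullback.of_hasPullback G.hom f) s'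
    have hJι : ∀ w, G.hom.fiberι (f s') (J w) = π (G'.hom.fiberι s' w) := fun w => by
      exact congr($(show J ≫ G.hom.fiberι (f s') = G'.hom.fiberι s' ≫ π from pullback.lift_fst _ _ _) w)
    have hconn : _root_.IsConnected (J ⁻¹' fibComp G (f s')) := by
      have h := isConnected_preimage_fst (k := S.residueField (f s')) (G.hom.fiberToSpecResidueField (f s'))
        (Spec.map (f.residueFieldMap s')) (fibComp G (f s')) isClosed_connectedComponent
        isConnected_connectedComponent (fibUnit G (f s')) (fibUnit_snd G (f s'))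
        (by
          rintro _ ⟨p, rfl⟩
          rw [Subsingleton.elim (α := PrimeSpectrum (S.residueField (f s'))) p (IsLocalRing.closedPoint _)]
          exact mem_connectedComponent)
      have h' := h.image _ sqJ.isoPullback.inv.continuous.continuousOn
      convert h' using 1
      change _ = sqJ.isoPullback.inv.homeomorph '' _
      rw [Homeomorph.image_eq_preimage_symm]
      ext w
      have e1 : J w = (pullback.fst (G.hom.fiberToSpecResidueField (f s')) (Spec.map (f.residueFieldMap s'))) (sqJ.isoPullback.hom w) := by
        exact congr($(sqJ.isoPullback_hom_fst.symm) w)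
      have f3 : sqJ.isoPullback.inv.homeomorph.symm w = sqJ.isoPullback.hom w := by
        rw [Homeomorph.symm_apply_eq]
        change w = (sqJ.isoPullback.hom ≫ sqJ.isoPullback.inv) w
        rw [Iso.hom_inv_id]
        rfl
      simp only [Set.mem_preimage]
      rw [e1, f3]
    obtain ⟨c, hc, hcg⟩ := hgC
    obtain ⟨w, hw⟩ : g' ∈ Set.range (G'.hom.fiberι s') := by rw [G'.hom.range_fiberι]; rfl
    have hu : J (fibUnit G' s' (IsLocalRing.closedPoint (S'.residueField s'))) ∈ fibComp G (f s') := by
      have : J (fibUnit G' s' (IsLocalRing.closedPoint (S'.residueField s'))) =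
          fibUnit G (f s') (IsLocalRing.closedPoint (S.residueField (f s'))) := by
        apply (G.hom.fiberι (f s')).isEmbedding.injective
        rw [hJι, fiberι_fibUnit, fiberι_fibUnit, hπe]
      rw [this]
      exact mem_connectedComponent
    have hwJ : J w ∈ fibComp G (f s') := by
      have : J w = c := (G.hom.fiberι (f s')).isEmbedding.injective (by rw [hJι, hw, hcg])
      rwa [this]
    have : g' ∈ G'.hom.fiberι s' '' fibComp G' s' :=
      ⟨w, hconn.isPreconnected.subset_connectedComponent hu hwJ, hw⟩
    rw [image_fibComp] at this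
    exact this.1

section Field

variable {K : Type u} [Field K] (b : Spec (CommRingCat.of K) ⟶ S)

theorem preimage_neutralSet :
    (fst G (Over.mk b)).left ⁻¹' SGA3x.neutralSet G = connectedComponent (ptOf b (1 : Over.mk b ⟶ G)) := by
  change pullback.fst G.hom b ⁻¹' SGA3x.neutralSet G = _
  rw [← neutralSet_bc]
  let H := Red.bc b G
  let pt : Spec (CommRingCat.of K) := IsLocalRing.closedPoint K
  have huniv : ∀ p : Spec (CommRingCat.of K), H.hom ⁻¹' {p} = Set.univ := fun p =>
    Set.eq_univ_of_forall fun v => Subsingleton.elim (α := PrimeSpectrum K) _ _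
  have he : η[H].left pt = ptOf b (1 : Over.mk b ⟶ G) := by
    have : η[H].left = (lift (1 : Over.mk b ⟶ G) (𝟙 (Over.mk b))).left := by
      apply pullback.hom_ext
      · rw [unit_fst]
        change b ≫ η[G].left = (lift (1 : Over.mk b ⟶ G) (𝟙 (Over.mk b))).left ≫ (fst G (Over.mk b)).left
        rw [← Over.comp_left, lift_fst, Hom.one_def, Over.comp_left]
        rfl
      · change η[H].left ≫ H.hom = (lift (1 : Over.mk b ⟶ G) (𝟙 (Over.mk b))).left ≫ (snd G (Over.mk b)).left
        rw [← Over.comp_left, lift_snd, Over.w η[H]]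
        rfl
    rw [this]
    rfl
  ext v
  rw [mem_neutralSet_iff H v, huniv, connectedComponentIn_univ,
    show H.hom v = pt from Subsingleton.elim (α := PrimeSpectrum K) _ _, he]

theorem preimage_neutralSet_eq_unitComp [LocallyOfFiniteType (pullback.snd G.hom b)] :
    (fst G (Over.mk b)).left ⁻¹' SGA3x.neutralSet G = unitComp b G := by
  rw [preimage_neutralSet]
  haveI : LocallyOfFiniteType (Red.bc b G).hom := inferInstanceAs (LocallyOfFiniteType (pullback.snd G.hom b))
  exact GrothLib.GrpSchField.connectedComponent_eq_irreducibleComponent (Red.bc b G) (ptOf b (1 : Over.mk b ⟶ G))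

end Field

end GrothLib.Neutral
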