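import Groth.Agent.Lib.Neutral.FibreSmooth
import Groth.Agent.Lib.Neutral.Constructible
import Groth.Agent.Lib.FibreDimAt6.Domain
import Groth.Agent.Lib.FibreBC.Basic
import Groth.Agent.Lib.DimCut.Product
import Groth.Agent.Lib.Dim.QuasiFinite
import Groth.Agent.Lib.HTop.Val
import Groth.Agent.Lib.OpenAt.Basic
import Groth.Prelude.Def_EGA43

/-!
If the dimension of the fibres of a group scheme does not change under generization, the neutral
components of special fibres lie in the closure of those of generic fibres, and the group is universally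
open along them.
-/

universe u

open CategoryTheory CategoryTheory.Limits MonoidalCategory CartesianMonoidalCategory MonObj GrpObj
open AlgebraicGeometry Topology

set_option backward.isDefEq.respectTransparency false

namespace GrothLib.Neutral

variable {S : Scheme.{u}} (G : Over S) [GrpObj G]

/-- The dimension of the fibre. -/
noncomputable abbrev fibDim (s : S) : WithBot ℕ∞ := topologicalKrullDim ↥(G.hom.base ⁻¹' {s})

theorem fibDim_bc [LocallyOfFiniteType G.hom] {S' : Scheme.{u}} (f : S' ⟶ S) (t : S') :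
    fibDim (Red.bc f G) t = fibDim G (f t) := by
  exact (dim_fibre_eq (Red.bc f G).hom t).symm.trans
    ((GrothLib.FibreBC.topologicalKrullDim_fiber (IsPullback.of_hasPullback G.hom f) t).trans
      (dim_fibre_eq G.hom (f t)))

theorem isOpen_fibComp [LocallyOfFiniteType G.hom] (s : S) :
    IsOpen (fibComp G s) ∧ IsClosed (fibComp G s) ∧ IsIrreducible (fibComp G s) ∧
      topologicalKrullDim ↥(fibComp G s) = fibDim G s := by
  let H := Red.bc (S.fromSpecResidueField s) G
  haveI : LocallyOfFiniteType H.hom := inferInstanceAs (LocallyOfFiniteType (pullback.snd G.hom (S.fromSpecResidueField s)))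
  let u : H.left := fibUnit G s (IsLocalRing.closedPoint (S.residueField s))
  have h : fibComp G s = irreducibleComponent (X := ↥H.left) u :=
    GrothLib.GrpSchField.connectedComponent_eq_irreducibleComponent H u
  refine ⟨?_, isClosed_connectedComponent, ?_, ?_⟩
  · rw [h]
    exact GrothLib.GrpSchField.isOpen_of_mem_irreducibleComponents H
      (irreducibleComponent_mem_irreducibleComponents _)
  · rw [h]; exact isIrreducible_irreducibleComponent
  · rw [h]
    exact (GrothLib.GrpSchField.topologicalKrullDim_component H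
      (irreducibleComponent_mem_irreducibleComponents _)).trans (dim_fibre_eq G.hom s)

theorem exists_nat_fibDim [LocallyOfFiniteType G.hom] (s : S) : ∃ d : ℕ, fibDim G s = d := by
  let H := Red.bc (S.fromSpecResidueField s) G
  haveI : LocallyOfFiniteType H.hom := inferInstanceAs (LocallyOfFiniteType (pullback.snd G.hom (S.fromSpecResidueField s)))
  obtain ⟨ho, hc, hi, hd⟩ := isOpen_fibComp G s
  obtain ⟨n, hn, -⟩ := GrothLib.Dim.exists_nat_dim_irreducible (K := S.residueField s) H.hom hc hi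
  exact ⟨n, hd.symm.trans hn⟩

/-- A nonempty open piece of the neutral component of a fibre has the dimension of the fibre. -/
theorem dim_open_neutral [LocallyOfFiniteType G.hom] (s : S) (W : G.left.Opens)
    (hne : ((W : Set G.left) ∩ (SGA3x.neutralSet G ∩ G.hom ⁻¹' {s})).Nonempty) :
    topologicalKrullDim ↥((W : Set G.left) ∩ (SGA3x.neutralSet G ∩ G.hom ⁻¹' {s})) = fibDim G s := by
  obtain ⟨ho, hc, hi, hd⟩ := isOpen_fibComp G s
  let O : (G.hom.fiber s).Opens := ⟨fibComp G s, ho⟩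
  haveI : IrreducibleSpace ↥(fibComp G s) :=
    { isPreirreducible_univ := (Subtype.preirreducibleSpace hi.2).isPreirreducible_univ
      toNonempty := hi.1.to_subtype }
  haveI : IrreducibleSpace O.toScheme := inferInstanceAs (IrreducibleSpace ↥(fibComp G s))
  haveI : LocallyOfFiniteType (O.ι ≫ G.hom.fiberToSpecResidueField s) := by
    haveI : LocallyOfFiniteType (G.hom.fiberToSpecResidueField s) := MorphismProperty.pullback_snd _ _ inferInstance
    infer_instance
  let U : O.toScheme.Opens := (O.ι ≫ G.hom.fiberι s) ⁻¹ᵁ W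
  have hU : Nonempty U := by
    obtain ⟨g, hgW, hg⟩ := hne
    rw [← image_fibComp] at hg
    obtain ⟨v, hv, rfl⟩ := hg
    exact ⟨⟨⟨v, hv⟩, hgW⟩⟩
  have h := GrothLib.DimCut.dim_opens_eq (K := S.residueField s) (O.ι ≫ G.hom.fiberToSpecResidueField s) U hU
  refine Eq.trans ?_ (h.trans hd)
  symm
  refine GrothLib.Dim.IsEmbedding.topologicalKrullDim_eq (f := fun z : U => (O.ι ≫ G.hom.fiberι s) z.1)
    (((G.hom.fiberι s).isEmbedding.comp O.ι.isEmbedding).comp Topology.IsEmbedding.subtypeVal) ?_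
  rw [← image_fibComp]
  ext g
  constructor
  · rintro ⟨z, rfl⟩
    exact ⟨z.2, ⟨z.1.1, z.1.2, rfl⟩⟩
  · rintro ⟨hgW, v, hv, rfl⟩
    exact ⟨⟨⟨v, hv⟩, hgW⟩, rfl⟩

theorem dim_trace_emb {A R : Type u} [CommRing A] [CommRing R] [Algebra R A] {X T : Scheme.{u}} (f : X ⟶ T)
    (j : Spec (CommRingCat.of A) ⟶ X) [IsPreimmersion j] (i : Spec (CommRingCat.of R) ⟶ T) [IsPreimmersion i]
    (h : j ≫ f = Spec.map (CommRingCat.ofHom (algebraMap R A)) ≫ i) (p : PrimeSpectrum R) :
    topologicalKrullDim ↥(Set.range j ∩ f ⁻¹' {i p}) = ringKrullDim (p.asIdeal.Fiber A) := by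
  rw [← PrimeSpectrum.topologicalKrullDim_eq_ringKrullDim,
    ← IsHomeomorph.topologicalKrullDim_eq _ (PrimeSpectrum.preimageHomeomorphFiber R A p).isHomeomorph]
  symm
  refine GrothLib.Dim.IsEmbedding.topologicalKrullDim_eq
    (f := fun z : (PrimeSpectrum.comap (algebraMap R A) ⁻¹' {p} : Set (PrimeSpectrum A)) => j z.1)
    (j.isEmbedding.comp Topology.IsEmbedding.subtypeVal) ?_
  have hfj : ∀ q : PrimeSpectrum A, f (j q) = i (PrimeSpectrum.comap (algebraMap R A) q) := fun q => by
    rw [← Scheme.Hom.comp_apply, h]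
    rfl
  ext x
  constructor
  · rintro ⟨⟨q, hq⟩, rfl⟩
    refine ⟨⟨q, rfl⟩, ?_⟩
    show f (j q) = i p
    rw [hfj]
    exact congrArg i hq
  · rintro ⟨⟨q, rfl⟩, hx⟩
    exact ⟨⟨q, i.isEmbedding.injective ((hfj q).symm.trans hx)⟩, rfl⟩

section Valuation

variable {V : CommRingCat.{u}} [IsDomain V] [ValuationRing V] (H : Over (Spec V)) [GrpObj H]
  [LocallyOfFiniteType H.hom]

/-- Over a valuation ring, with equidimensional fibres, the neutral component of the special fibre
consists of specializations of the generic neutral component. -/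
theorem exists_specializes_neutral (η₀ : Spec V) (hη₀ : η₀ = (⟨⊥, Ideal.isPrime_bot⟩ : PrimeSpectrum V))
    (hd : fibDim H η₀ = fibDim H (IsLocalRing.closedPoint V)) {v : H.left}
    (hv : v ∈ SGA3x.neutralSet H) (hvc : H.hom v = IsLocalRing.closedPoint V) :
    ∃ ξ ∈ SGA3x.neutralSet H, H.hom ξ = η₀ ∧ ξ ⤳ v := by
  let cl : Spec V := IsLocalRing.closedPoint V
  obtain ⟨hoη, hcη, hiη, hdη⟩ := isOpen_fibComp H η₀
  obtain ⟨ξ', hξ'⟩ := QuasiSober.sober hiη hcη
  let ξ := H.hom.fiberι η₀ ξ'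
  have hξN : ξ ∈ SGA3x.neutralSet H ∩ H.hom ⁻¹' {η₀} := by
    rw [← image_fibComp]
    exact ⟨ξ', hξ'.mem, rfl⟩
  have hξgen : ∀ g ∈ SGA3x.neutralSet H ∩ H.hom ⁻¹' {η₀}, ξ ⤳ g := fun g hg => by
    rw [← image_fibComp] at hg
    obtain ⟨w, hw, rfl⟩ := hg
    exact (hξ'.specializes hw).map (H.hom.fiberι η₀).continuous
  let e₀ := η[H].left cl
  have hgencl : η₀ ⤳ cl := IsLocalRing.specializes_closedPoint (R := V) _
  have hξe : ξ ⤳ e₀ := (hξgen _ ⟨unit_mem_neutralSet H η₀, hom_unit H η₀⟩).trans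
    (hgencl.map η[H].left.continuous)
  -- a neighbourhood whose trace on the special fibre is in the neutral component
  obtain ⟨hoc, hcc, hic, hdc⟩ := isOpen_fibComp H cl
  obtain ⟨O, hO, hO'⟩ := (H.hom.fiberι cl).isEmbedding.isInducing.isOpen_iff.mp hoc
  have hOs : O ∩ H.hom ⁻¹' {cl} = SGA3x.neutralSet H ∩ H.hom ⁻¹' {cl} := by
    rw [← image_fibComp, ← hO', Set.image_preimage_eq_inter_range, H.hom.range_fiberι]
  have he₀ : e₀ ∈ O := (hOs.ge ⟨unit_mem_neutralSet H cl, hom_unit H cl⟩).1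
  obtain ⟨_, ⟨(W : H.left.Opens), hW, rfl⟩, heW, hWO⟩ := H.left.isBasis_affineOpens.exists_subset_of_mem_open
    he₀ hO
  have hξW : ξ ∈ W := hξe.mem_open W.2 heW
  obtain ⟨φ, hφ⟩ := Spec.map_surjective (hW.fromSpec ≫ H.hom)
  let B : Type u := Γ(H.left, W)
  let _ : Algebra V B := φ.hom.toAlgebra
  haveI : Algebra.FiniteType V B := by
    have : LocallyOfFiniteType (Spec.map φ) := by rw [hφ]; infer_instance
    exact (HasRingHomProperty.Spec_iff (P := @LocallyOfFiniteType)).mp this
  obtain ⟨P, hP⟩ : ξ ∈ Set.range hW.fromSpec := by rw [hW.range_fromSpec]; exact hξW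
  let Ps : PrimeSpectrum B := P
  let E := B ⧸ Ps.asIdeal
  let c : Spec (CommRingCat.of E) ⟶ Spec Γ(H.left, W) :=
    Spec.map (CommRingCat.ofHom (Ideal.Quotient.mk Ps.asIdeal))
  haveI : IsClosedImmersion c := IsClosedImmersion.spec_of_surjective _ Ideal.Quotient.mk_surjective
  let j := c ≫ hW.fromSpec
  have hrj : Set.range j = closure {ξ} ∩ (W : Set H.left) := by
    have hc : Set.range c = closure {P} := by
      rw [PrimeSpectrum.closure_singleton]
      exact (range_comap_of_surjective _ _ Ideal.Quotient.mk_surjective).trans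
        (by rw [Ideal.mk_ker])
    rw [Scheme.Hom.comp_base, TopCat.coe_comp, Set.range_comp, hc]
    ext g
    constructor
    · rintro ⟨q, hq, rfl⟩
      refine ⟨?_, hW.range_fromSpec.le ⟨q, rfl⟩⟩
      rw [← specializes_iff_mem_closure, ← hP]
      exact (specializes_iff_mem_closure.mpr hq).map hW.fromSpec.continuous
    · rintro ⟨hg, hgW⟩
      obtain ⟨q, rfl⟩ := hW.range_fromSpec.ge hgW
      refine ⟨q, ?_, rfl⟩
      rw [← specializes_iff_mem_closure, ← hP, hW.fromSpec.isEmbedding.isInducing.specializes_iff] at hg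
      exact hg.mem_closure
  have hjf : j ≫ H.hom = Spec.map (CommRingCat.ofHom (algebraMap V E)) ≫ 𝟙 _ := by
    simp only [j, c, Category.assoc, Category.comp_id]
    rw [← hφ, ← Spec.map_comp]
    rfl
  have hcomapP : Ps.asIdeal.comap (algebraMap V B) = ⊥ := by
    have h1 : Spec.map φ P = η₀ := by
      rw [hφ, Scheme.Hom.comp_apply, hP]; exact hξN.2
    exact congrArg PrimeSpectrum.asIdeal (h1.trans hη₀)
  have hinj : Function.Injective (algebraMap V E) := (injective_iff_map_eq_zero _).mpr fun a ha => by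
    have : a ∈ Ps.asIdeal.comap (algebraMap V B) := Ideal.mem_comap.mpr
      (Ideal.Quotient.eq_zero_iff_mem.mp (show Ideal.Quotient.mk Ps.asIdeal (algebraMap V B a) = 0 from ha))
    rwa [hcomapP, Ideal.mem_bot] at this
  have he₀j : e₀ ∈ Set.range j := by rw [hrj]; exact ⟨hξe.mem_closure, heW⟩
  -- compare the dimensions of the fibres of the closure
  have hspec := dim_trace_emb (R := V) H.hom j (𝟙 (Spec V)) hjf (IsLocalRing.closedPoint V)
  have hgene := dim_trace_emb (R := V) H.hom j (𝟙 (Spec V)) hjf (⟨⊥, Ideal.isPrime_bot⟩ : PrimeSpectrum V)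
  haveI : Nontrivial (TensorProduct V (IsLocalRing.ResidueField V) E) := by
    obtain ⟨q, hq⟩ := he₀j
    have hne : Nonempty (PrimeSpectrum ((IsLocalRing.closedPoint V).asIdeal.Fiber E)) :=
      ⟨PrimeSpectrum.preimageEquivFiber V E (IsLocalRing.closedPoint V) ⟨q, by
        have := congrArg H.hom hq
        rw [← Scheme.Hom.comp_apply, hjf, Category.comp_id] at this
        exact this.trans (hom_unit H cl)⟩⟩
    haveI : Nontrivial ((IsLocalRing.closedPoint V).asIdeal.Fiber E) :=
      PrimeSpectrum.nonempty_iff_nontrivial.mp hne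
    by_contra hn
    rw [not_nontrivial_iff_subsingleton] at hn
    have h1 := GrothLib.FibreDimAt6.fiber_closed_eq V E
    rw [ringKrullDim_eq_bot_of_subsingleton] at h1
    exact absurd h1 (by
      first
      | exact (ringKrullDim_nonneg_of_nontrivial.trans_lt' (WithBot.bot_lt_coe 0)).ne
      | exact (ringKrullDim_nonneg_of_nontrivial.trans_lt' (WithBot.bot_lt_coe 0)).ne')
  have heq := GrothLib.FibreDimAt6.dim_special_eq_generic V E hinj
  rw [GrothLib.FibreDimAt6.fiber_closed_eq, GrothLib.FibreDimAt6.fiber_generic_eq, ← hspec, ← hgene] at heq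
  obtain ⟨d, hdnat⟩ := exists_nat_fibDim H cl
  have hgen_set : Set.range j ∩ H.hom ⁻¹' {(𝟙 (Spec V) : Spec V ⟶ Spec V) (⟨⊥, Ideal.isPrime_bot⟩ : PrimeSpectrum V)} =
      (W : Set H.left) ∩ (SGA3x.neutralSet H ∩ H.hom ⁻¹' {η₀}) := by
    rw [hrj, ← hη₀]
    change closure {ξ} ∩ (W : Set H.left) ∩ H.hom ⁻¹' {η₀} = _
    refine Set.Subset.antisymm ?_ ?_
    · rintro g ⟨⟨hg, hgW⟩, hgη⟩
      refine ⟨hgW, ?_⟩
      obtain ⟨w, hw⟩ : g ∈ Set.range (H.hom.fiberι η₀) := by rw [H.hom.range_fiberι]; exact hgη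
      rw [← image_fibComp]
      refine ⟨w, ?_, hw⟩
      have : ξ' ⤳ w := by
        rw [← (H.hom.fiberι η₀).isEmbedding.isInducing.specializes_iff, hw]
        exact specializes_iff_mem_closure.mpr hg
      exact this.mem_closed hcη hξ'.mem
    · rintro g ⟨hgW, hg⟩
      exact ⟨⟨(hξgen g hg).mem_closure, hgW⟩, hg.2⟩
  rw [hgen_set, dim_open_neutral H η₀ W ⟨ξ, hξW, hξN⟩, hd, hdnat] at heq
  -- the closure fills the special neutral component
  let C := SGA3x.neutralSet H ∩ H.hom ⁻¹' {cl}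
  let T : Set H.left := (W : Set H.left) ∩ C
  have hCeq : H.hom.fiberι cl '' fibComp H cl = C := image_fibComp H cl
  have hCi : IsIrreducible C := hCeq ▸ hic.image _ (H.hom.fiberι cl).continuous.continuousOn
  have hTne : (C ∩ (W : Set H.left)).Nonempty := ⟨e₀, ⟨unit_mem_neutralSet H cl, hom_unit H cl⟩, heW⟩
  have hTi : IsIrreducible T := by
    refine ⟨⟨e₀, heW, unit_mem_neutralSet H cl, hom_unit H cl⟩, ?_⟩
    intro U₁ U₂ hU₁ hU₂ h₁ h₂
    obtain ⟨a, ⟨haW, haC⟩, ha⟩ := h₁
    obtain ⟨b, ⟨hbW, hbC⟩, hb⟩ := h₂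
    obtain ⟨z, hzC, ⟨hzW, hz₁⟩, -, hz₂⟩ := hCi.2 _ _ (W.2.inter hU₁) (W.2.inter hU₂)
      ⟨a, haC, haW, ha⟩ ⟨b, hbC, hbW, hb⟩
    exact ⟨z, ⟨hzW, hzC⟩, hz₁, hz₂⟩
  have hsub : Set.range j ∩ H.hom ⁻¹' {(𝟙 (Spec V) : Spec V ⟶ Spec V) (IsLocalRing.closedPoint V)} ⊆ T := by
    rw [hrj]
    rintro g ⟨⟨-, hgW⟩, hgc⟩
    exact ⟨hgW, (hOs.le ⟨hWO hgW, hgc⟩).1, hgc⟩
  haveI : IrreducibleSpace ↥T :=
    { isPreirreducible_univ := (Subtype.preirreducibleSpace hTi.2).isPreirreducible_univ
      toNonempty := hTi.1.to_subtype }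
  let Z : Set ↥T := Subtype.val ⁻¹' (closure {ξ} : Set H.left)
  have hdT : topologicalKrullDim ↥T = d := (dim_open_neutral H cl W ⟨e₀, heW,
    unit_mem_neutralSet H cl, hom_unit H cl⟩).trans hdnat
  have hdZ : topologicalKrullDim ↥Z = d := by
    refine (GrothLib.Dim.IsEmbedding.topologicalKrullDim_eq (f := fun z : Z => (z.1.1 : H.left))
      (Topology.IsEmbedding.subtypeVal.comp Topology.IsEmbedding.subtypeVal) ?_).trans heq
    ext g
    constructor
    · rintro ⟨⟨⟨g, hg⟩, hgc⟩, rfl⟩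
      refine ⟨?_, hg.2.2⟩
      rw [hrj]
      exact ⟨hgc, hg.1⟩
    · intro hg
      have h1 := hsub hg
      rw [hrj] at hg
      exact ⟨⟨⟨g, h1⟩, hg.1.1⟩, rfl⟩
  have hZuniv : Z = Set.univ := GrothLib.Dim.eq_univ_of_dim_le (isClosed_closure.preimage continuous_subtype_val)
    (by rw [hdT, hdZ]) hdZ
  have hTsub : T ⊆ closure {ξ} := fun g hg => (hZuniv.ge (Set.mem_univ (⟨g, hg⟩ : ↥T)) :)
  refine ⟨ξ, hξN.1, hξN.2, specializes_iff_mem_closure.mpr ?_⟩
  have h1 : C ⊆ closure (C ∩ (W : Set H.left)) := subset_closure_inter_of_isPreirreducible_of_isOpen hCi.2 W.2 hTne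
  refine closure_minimal (fun g hg => hTsub ⟨hg.2, hg.1⟩) isClosed_closure (h1 ⟨hv, hvc⟩)

end Valuation

/-- Generizations of the base lift along the neutral components if the fibre dimension is constant. -/
theorem exists_neutral_over_generization [LocallyOfFiniteType G.hom] {p : G.left} (hp : p ∈ SGA3x.neutralSet G)
    {t : S} (ht : t ⤳ G.hom p) (hd : fibDim G t = fibDim G (G.hom p)) (O : G.left.Opens) (hO : p ∈ O) :
    ∃ p' ∈ O, p' ∈ SGA3x.neutralSet G ∧ G.hom p' = t := by
  obtain ⟨V, _, _, g, hg, hg'⟩ := GrothLib.HTop.exists_valuationRing_map ht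
  let H := Red.bc g G
  haveI : LocallyOfFiniteType H.hom := inferInstanceAs (LocallyOfFiniteType (pullback.snd G.hom g))
  obtain ⟨v, hv₁, hv₂⟩ := Scheme.Pullback.exists_preimage_pullback (f := G.hom) (g := g) p
    (GrothLib.HTop.closed V) hg'.symm
  have hvN : v ∈ SGA3x.neutralSet H := by rw [neutralSet_bc]; change pullback.fst G.hom g v ∈ SGA3x.neutralSet G; rwa [hv₁]
  obtain ⟨ξ, hξN, hξgen, hξv⟩ := exists_specializes_neutral H (GrothLib.HTop.gen V) rfl
    (by rw [fibDim_bc, fibDim_bc, hg]; exact hd.trans (congrArg (fibDim G) hg'.symm)) hvN hv₂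
  refine ⟨pullback.fst G.hom g ξ, ?_, ?_, ?_⟩
  · exact ((hv₁ ▸ hξv.map (pullback.fst G.hom g).continuous : pullback.fst G.hom g ξ ⤳ p)).mem_open O.2 hO
  · rw [neutralSet_bc] at hξN
    exact hξN
  · rw [← Scheme.Hom.comp_apply, pullback.condition, Scheme.Hom.comp_apply]
    exact (congrArg g hξgen).trans hg

/-- If the fibre dimension is constant on the generizations of `s`, the group is universally open at
the points of the neutral component over `s`. -/
theorem isUnivOpenAt_of_fibDim [LocallyOfFinitePresentation G.hom] {x : G.left}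
    (hx : x ∈ SGA3x.neutralSet G) (hd : ∀ t, t ⤳ G.hom x → fibDim G t = fibDim G (G.hom x)) :
    EGA43.IsUnivOpenAt G.hom x := by
  intro Y' g x' hx'
  let G' := Red.bc g G
  haveI : LocallyOfFinitePresentation G'.hom := inferInstanceAs (LocallyOfFinitePresentation (pullback.snd G.hom g))
  intro U hU
  obtain ⟨O, hOU, hOo, hxO⟩ := mem_nhds_iff.mp hU
  refine Filter.mem_of_superset ?_ (Set.image_mono hOU)
  rw [mem_nhds_iff]
  refine ⟨interior (pullback.snd G.hom g '' O), interior_subset, isOpen_interior, ?_⟩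
  refine (GrothLib.Constr.mem_interior_iff (GrothLib.Constr.isIndConstructible_image _
    (GrothLib.Constr.isIndConstructible_of_isOpen hOo))).mpr fun t' ht' => ?_
  have hx'N : x' ∈ SGA3x.neutralSet G' := by
    rw [neutralSet_bc]
    change pullback.fst G.hom g x' ∈ SGA3x.neutralSet G
    rw [show pullback.fst G.hom g x' = x from hx']
    exact hx
  have hgs : g (G'.hom x') = G.hom x := by
    rw [← Scheme.Hom.comp_apply]
    change (pullback.snd G.hom g ≫ g) x' = _
    rw [← pullback.condition, Scheme.Hom.comp_apply]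
    exact congrArg G.hom hx'
  obtain ⟨p', hp'O, -, hp'⟩ := exists_neutral_over_generization G' hx'N ht' (by
    rw [fibDim_bc, fibDim_bc, hgs]
    exact hd _ (hgs ▸ ht'.map g.continuous)) ⟨O, hOo⟩ hxO
  exact ⟨p', hp'O, hp'⟩

end GrothLib.Neutral
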