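import Groth.Agent.Lib.Neutral.Generization
import Groth.Agent.Lib.CMFree.Regular
import Mathlib.AlgebraicGeometry.Morphisms.ClosedImmersion
import Mathlib.RingTheory.KrullDimension.NonZeroDivisors

/-!
Generizations of a point on a section of a smooth morphism; closed immersions containing all
generizations of a point.
-/

universe u

open CategoryTheory CategoryTheory.Limits AlgebraicGeometry Topology

set_option backward.isDefEq.respectTransparency false

namespace GrothLib.Neutral

/-- A generization of a point of a section of a smooth morphism has, in its own fibre, a generization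
which also specializes to the section. -/
theorem exists_generization_section {P T : Scheme.{u}} (f : P ⟶ T) [Smooth f] (σ : T ⟶ P) (hσ : σ ≫ f = 𝟙 T)
    {x : P} {t₀ : T} (h : x ⤳ σ t₀) : ∃ ξ : P, f ξ = f x ∧ ξ ⤳ x ∧ ξ ⤳ σ (f x) := by
  let e := σ t₀
  let φ : P.presheaf.stalk e ⟶ P.residueField x :=
    P.presheaf.stalkSpecializes h ≫ P.residue x
  obtain ⟨A, hA, hA_local⟩ := IsLocalRing.exists_factor_valuationRing φ.hom
  let ψ : P.presheaf.stalk e ⟶ CommRingCat.of A := CommRingCat.ofHom (φ.hom.codRestrict _ hA)
  let ℓ : Spec (CommRingCat.of A) ⟶ P := Spec.map ψ ≫ P.fromSpecStalk e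
  let ι₀ := Spec.map (CommRingCat.ofHom (algebraMap A (P.residueField x)))
  have hℓx : ι₀ ≫ ℓ = P.fromSpecResidueField x := by
    rw [Scheme.fromSpecResidueField, ← Scheme.SpecMap_stalkSpecializes_fromSpecStalk h]
    simp only [ι₀, ℓ, ← Spec.map_comp_assoc]
    rfl
  let gen : Spec (CommRingCat.of A) := ι₀ (IsLocalRing.closedPoint _)
  let cl : Spec (CommRingCat.of A) := IsLocalRing.closedPoint A
  have hgen : ℓ gen = x := by
    rw [← Scheme.Hom.comp_apply, hℓx]
    exact P.fromSpecResidueField_apply x _
  have hcl : ℓ cl = e := by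
    have : Spec.map ψ cl = IsLocalRing.closedPoint (P.presheaf.stalk e) :=
      IsLocalRing.comap_closedPoint (S := A) (φ.hom.codRestrict A.toSubring hA)
    simp only [ℓ, Scheme.Hom.comp_apply, this, P.fromSpecStalk_closedPoint]
  have hgenmin : ∀ p : Spec (CommRingCat.of A), p ⤳ gen → p = gen := by
    intro p hp
    have hp' := (PrimeSpectrum.le_iff_specializes (p : PrimeSpectrum A) (gen : PrimeSpectrum A)).mpr hp
    refine PrimeSpectrum.ext (le_antisymm hp' fun a ha => ?_)
    have ha0 : algebraMap A (P.residueField x) a = 0 := by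
      have : a ∈ Ideal.comap (algebraMap A (P.residueField x))
        (IsLocalRing.closedPoint (P.residueField x)).asIdeal := ha
      have h2 : algebraMap A (P.residueField x) a ∈ IsLocalRing.maximalIdeal (P.residueField x) := this
      rwa [IsLocalRing.maximalIdeal_eq_bot, Ideal.mem_bot] at h2
    rw [show a = 0 from Subtype.ext ha0]
    exact zero_mem _
  let β := ℓ ≫ f
  let Q := pullback f β
  let x' : Spec (CommRingCat.of A) ⟶ Q := pullback.lift ℓ (𝟙 _) (by simp [β])
  let ε' : Spec (CommRingCat.of A) ⟶ Q := pullback.lift (β ≫ σ) (𝟙 _) (by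
    rw [Category.assoc, hσ]; simp)
  have heq : x' cl = ε' cl := by
    let L := IsLocalRing.ResidueField A
    let r : Spec (CommRingCat.of L) ⟶ Spec (CommRingCat.of A) :=
      Spec.map (CommRingCat.ofHom (IsLocalRing.residue A))
    have hr : ∀ z, r z = cl := fun z => by
      have : z = IsLocalRing.closedPoint L := Subsingleton.elim (α := PrimeSpectrum L) _ _
      subst this
      exact IsLocalRing.comap_closedPoint (IsLocalRing.residue A)
    haveI : IsImmersion σ := by
      have : IsImmersion (σ ≫ f) := by rw [hσ]; infer_instance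
      exact IsImmersion.of_comp σ f
    obtain ⟨k, hk⟩ := GrothLib.SepAct.exists_lift_of_mem_range σ (r ≫ ℓ) (by
      rw [Scheme.Hom.comp_apply, hr, hcl]
      exact ⟨t₀, rfl⟩)
    have hk' : k = r ≫ β := by
      have := hk =≫ f
      rw [Category.assoc, hσ, Category.comp_id] at this
      exact this.trans (Category.assoc _ _ _)
    have hc : r ≫ x' = r ≫ ε' := by
      apply pullback.hom_ext
      · rw [Category.assoc, Category.assoc, pullback.lift_fst, pullback.lift_fst, ← hk, hk', Category.assoc]
      · rw [Category.assoc, Category.assoc, pullback.lift_snd, pullback.lift_snd]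
    rw [← hr (IsLocalRing.closedPoint L), ← Scheme.Hom.comp_apply, ← Scheme.Hom.comp_apply, hc]
  have hspec : gen ⤳ cl := IsLocalRing.specializes_closedPoint _
  obtain ⟨ξ, hξx, hξε⟩ := exists_common_generization (pullback.snd f β)
    (hspec.map x'.continuous) (heq ▸ hspec.map ε'.continuous : ε' gen ⤳ x' cl)
  have hx's : pullback.snd f β (x' gen) = gen := by
    rw [← Scheme.Hom.comp_apply, pullback.lift_snd]; rfl
  have hξgen : pullback.snd f β ξ = gen :=
    hgenmin _ (hx's ▸ hξx.map (pullback.snd f β).continuous)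
  refine ⟨pullback.fst f β ξ, ?_, ?_, ?_⟩
  · rw [← Scheme.Hom.comp_apply, pullback.condition, Scheme.Hom.comp_apply, hξgen, Scheme.Hom.comp_apply, hgen]
  · have := hξx.map (pullback.fst f β).continuous
    rwa [← Scheme.Hom.comp_apply, pullback.lift_fst, hgen] at this
  · have := hξε.map (pullback.fst f β).continuous
    rwa [← Scheme.Hom.comp_apply, pullback.lift_fst,
      Scheme.Hom.comp_apply, Scheme.Hom.comp_apply, hgen] at this

variable {X Y : Scheme.{u}} (i : X ⟶ Y)

/-- A surjection from a local domain onto a ring of at least the same finite dimension is injective. -/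
theorem injective_of_surjective_of_dim_le {R R' : Type*} [CommRing R] [CommRing R'] [IsDomain R]
    (φ : R →+* R') (hφ : Function.Surjective φ) (n : ℕ) (hn : ringKrullDim R = n)
    (hle : ringKrullDim R ≤ ringKrullDim R') : Function.Injective φ := by
  refine (injective_iff_map_eq_zero φ).mpr fun a ha => ?_
  by_contra hne
  have h1 := ringKrullDim_quotient_succ_le_of_nonZeroDivisor (mem_nonZeroDivisors_of_ne_zero hne)
  let ψ := Ideal.Quotient.lift (Ideal.span {a}) φ (fun b hb =>
    (Ideal.span_le.mpr (Set.singleton_subset_iff.mpr (RingHom.mem_ker.mpr ha))) hb)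
  have h2 : ringKrullDim R' ≤ ringKrullDim (R ⧸ Ideal.span {a}) :=
    ringKrullDim_le_of_surjective ψ fun b => by
      obtain ⟨c, rfl⟩ := hφ b
      exact ⟨Ideal.Quotient.mk _ c, Ideal.Quotient.lift_mk _ _ _⟩
  have h3 : ((n : WithBot ℕ∞) + 1) ≤ (n : WithBot ℕ∞) := by
    calc ((n : WithBot ℕ∞) + 1) ≤ ringKrullDim (R ⧸ Ideal.span {a}) + 1 :=
          add_le_add_left ((hn.symm.le.trans hle).trans h2) 1
      _ ≤ n := h1.trans hn.le
  exact absurd (show n + 1 ≤ n by exact_mod_cast h3) (Nat.not_succ_le_self n)

/-- If the map on local rings of a morphism is bijective, the image contains all generizations. -/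
theorem mem_range_of_specializes (x : X) (h : Function.Bijective (i.stalkMap x).hom) {y : Y} (hy : y ⤳ i x) :
    y ∈ Set.range i := by
  obtain ⟨P, rfl⟩ : y ∈ Set.range (Y.fromSpecStalk (i x)) := by rw [Scheme.range_fromSpecStalk]; exact hy
  haveI : IsIso (i.stalkMap x) := (ConcreteCategory.isIso_iff_bijective _).mpr h
  obtain ⟨Q, rfl⟩ := (Spec.map (i.stalkMap x)).homeomorph.surjective P
  refine ⟨X.fromSpecStalk x Q, ?_⟩
  rw [← Scheme.Hom.comp_apply, ← Scheme.SpecMap_stalkMap_fromSpecStalk]
  rfl

/-- A closed immersion into a reduced scheme whose image contains all generizations of a point is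
bijective on the local rings. -/
theorem stalkMap_bijective_of_generizations [IsClosedImmersion i] [IsReduced Y] (x : X)
    (h : ∀ y, y ⤳ i x → y ∈ Set.range i) : Function.Bijective (i.stalkMap x).hom := by
  refine ⟨(injective_iff_map_eq_zero _).mpr fun a ha => ?_, i.stalkMap_surjective x⟩
  have : IsNilpotent a := by
    refine nilpotent_iff_mem_prime.mpr fun J hJ => ?_
    let P : Spec (Y.presheaf.stalk (i x)) := ⟨J, hJ⟩
    have hP : Y.fromSpecStalk (i x) P ⤳ i x :=
      Scheme.range_fromSpecStalk.le ⟨P, rfl⟩
    obtain ⟨x', hx'⟩ := h _ hP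
    have hspec : x' ⤳ x := i.isEmbedding.isInducing.specializes_iff.mp (hx'.symm ▸ hP)
    obtain ⟨Q, rfl⟩ : x' ∈ Set.range (X.fromSpecStalk x) := by rw [Scheme.range_fromSpecStalk]; exact hspec
    have hQ : Spec.map (i.stalkMap x) Q = P := by
      apply (Y.fromSpecStalk (i x)).isEmbedding.injective
      rw [← hx', ← Scheme.Hom.comp_apply, Scheme.SpecMap_stalkMap_fromSpecStalk]
      rfl
    have hmem : a ∈ (Spec.map (i.stalkMap x) Q).asIdeal := by
      change (i.stalkMap x).hom a ∈ Q.asIdeal
      rw [ha]; exact zero_mem _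
    rw [hQ] at hmem
    exact hmem
  exact this.eq_zero

end GrothLib.Neutral
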