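import Groth.Agent.Lib.Neutral.SmoothCover
import Groth.Agent.Lib.Neutral.SectionGen
import Groth.Agent.Lib.FibreDimAt6.Scheme
import Groth.Agent.Lib.FibreDimAt6.Ring
import Groth.Agent.Lib.GrpSchField.GrpDim
import Groth.Agent.Lib.GrpSchField.Field
import Groth.Agent.Lib.RedSmooth.Basic
import Groth.Agent.Lib.Ref1.Extend
import Groth.Agent.Lib.LocProp.Stalk
import Mathlib.RingTheory.RingHom.Smooth

/-!
Over a reduced base, a group scheme with smooth fibres of locally constant dimension is smooth near the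
unit section.
-/

universe u

open CategoryTheory CategoryTheory.Limits MonoidalCategory CartesianMonoidalCategory MonObj GrpObj
open AlgebraicGeometry Topology

set_option backward.isDefEq.respectTransparency false

namespace GrothLib.Neutral

theorem dim_fibre_eq {X S : Scheme.{u}} (f : X ⟶ S) (t : S) :
    topologicalKrullDim ↥(f.fiber t) = topologicalKrullDim ↥(f ⁻¹' {t}) :=
  GrothLib.Dim.IsEmbedding.topologicalKrullDim_eq (f := f.fiberι t) (f.fiberι t).isEmbedding (f.range_fiberι t)

theorem dim_fibre_le_of_isStandardSmooth {A C : Type u} [CommRing A] [CommRing C] [Algebra A C] (n : ℕ)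
    [Algebra.IsStandardSmoothOfRelativeDimension n A C] {S : Scheme.{u}}
    (k : Spec (CommRingCat.of A) ⟶ S) [IsOpenImmersion k] (p : PrimeSpectrum A) :
    topologicalKrullDim ↥((Spec.map (CommRingCat.ofHom (algebraMap A C)) ≫ k) ⁻¹' {k p}) ≤ n := by
  have h := GrothLib.FibreDimAt6.dim_trace (Spec.map (CommRingCat.ofHom (algebraMap A C)) ≫ k) (𝟙 _) k
    (Category.id_comp _) p
  rw [show Set.range (𝟙 (Spec (CommRingCat.of C)) : _ ⟶ _) = Set.univ from Set.range_id, Set.univ_inter] at h
  rw [h]
  obtain ⟨φ, hφ⟩ := Algebra.IsStandardSmoothOfRelativeDimension.exists_etale_mvPolynomial n A C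
  algebraize [φ.toRingHom]
  haveI : Algebra.Etale (MvPolynomial (Fin n) A) C :=
    RingHom.etale_algebraMap.mp (by simpa [RingHom.algebraMap_toAlgebra] using hφ)
  exact (GrothLib.FibreDimAt6.fibre_dim_le_of_quasiFinite (MvPolynomial (Fin n) A) C p).trans
    (GrothLib.FibreDimAt6.dim_fiber_mvPolynomial n p).le

/-- A closed immersion into a smooth scheme of fibre dimension `≤ n` which contains a rational point
with local ring of dimension `≥ n` contains all generizations of that point. -/
theorem mem_range_of_dim_le {K : Type u} [Field K] {Y X : Scheme.{u}} (f : X ⟶ Spec (CommRingCat.of K)) [Smooth f]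
    (i : Y ⟶ X) [IsClosedImmersion i] (y : Y) (hy : IsClosed ({i y} : Set X)) (n : ℕ)
    (hn : topologicalKrullDim X ≤ n) (hle : (n : WithBot ℕ∞) ≤ ringKrullDim (Y.presheaf.stalk y))
    {x : X} (hx : x ⤳ i y) : x ∈ Set.range i := by
  haveI := GrothLib.GrpSchField.isRegularLocalRing_stalk_of_smooth f hy
  haveI := GrothLib.CMFree.isDomain_of_isRegularLocalRing (X.presheaf.stalk (i y))
  have h1 : ringKrullDim (X.presheaf.stalk (i y)) ≤ n :=
    (GrothLib.Ref1.ringKrullDim_stalk_le_topologicalKrullDim (i y)).trans hn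
  obtain ⟨m, hm⟩ : ∃ m : ℕ, ringKrullDim (X.presheaf.stalk (i y)) = m := by
    have h0 : (0 : WithBot ℕ∞) ≤ ringKrullDim (X.presheaf.stalk (i y)) := ringKrullDim_nonneg_of_nontrivial
    generalize hD : ringKrullDim (X.presheaf.stalk (i y)) = D at h0 h1
    induction D with
    | bot => simp at h0
    | coe a =>
      induction a with
      | top => exact absurd h1 (by rw [not_le]; exact_mod_cast WithTop.natCast_lt_top n)
      | coe m => exact ⟨m, rfl⟩
  refine mem_range_of_specializes i y ⟨?_, i.stalkMap_surjective y⟩ hx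
  exact injective_of_surjective_of_dim_le _ (i.stalkMap_surjective y) m hm (h1.trans hle)

variable {S : Scheme.{u}} (G : Over S) [GrpObj G]

theorem unit_mem_smoothLocus [IsReduced S] [LocallyOfFinitePresentation G.hom]
    (hfib : ∀ s : S, Smooth (pullback.snd G.hom (S.fromSpecResidueField s)))
    (hdim : IsLocallyConstant (fun s : S => topologicalKrullDim ↥(G.hom.base ⁻¹' {s}))) (s : S) :
    η[G].left s ∈ G.hom.smoothLocus := by
  let e := η[G].left s
  -- affine charts
  obtain ⟨_, ⟨(V : S.Opens), hV, rfl⟩, hsV, -⟩ := S.isBasis_affineOpens.exists_subset_of_mem_open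
    (Set.mem_univ s) isOpen_univ
  obtain ⟨_, ⟨(W : G.left.Opens), hW, rfl⟩, heW, hWV'⟩ := G.left.isBasis_affineOpens.exists_subset_of_mem_open
    (show e ∈ G.hom ⁻¹ᵁ V by change G.hom e ∈ V; rw [hom_unit]; exact hsV) (G.hom ⁻¹ᵁ V).2
  have hWV : W ≤ G.hom ⁻¹ᵁ V := hWV'
  let A := Γ(S, V)
  let B := Γ(G.left, W)
  letI := (G.hom.appLE V W hWV).hom.toAlgebra
  haveI : Algebra.FiniteType A B := G.hom.finiteType_appLE hV hW hWV
  let φ : A ⟶ B := G.hom.appLE V W hWV
  have sq : hW.fromSpec ≫ G.hom = Spec.map φ ≫ hV.fromSpec := (hV.SpecMap_appLE_fromSpec G.hom hW hWV).symm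
  let q : PrimeSpectrum B := hW.primeIdealOf ⟨e, heW⟩
  have hqe : hW.fromSpec q = e := hW.fromSpec_primeIdealOf _
  let p : Spec A := Spec.map φ q
  have hps : hV.fromSpec p = s := by
    rw [← Scheme.Hom.comp_apply, ← sq, Scheme.Hom.comp_apply, hqe, hom_unit]
  -- the fibre of the chart is smooth
  have hsm : Algebra.Smooth (q.asIdeal.under A).ResidueField ((q.asIdeal.under A).Fiber B) := by
    have h0 : Smooth ((Spec.map φ ≫ hV.fromSpec).fiberToSpecResidueField (hV.fromSpec p)) := by
      rw [← sq, hps]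
      haveI := hfib s
      rw [Scheme.Hom.fiberToSpecResidueField, ← pullbackRightPullbackFstIso_inv_snd_snd]
      infer_instance
    have hpb : IsPullback (𝟙 (Spec B)) (Spec.map φ) (Spec.map φ ≫ hV.fromSpec) hV.fromSpec :=
      (IsPullback.of_horiz_isIso_mono ⟨Category.id_comp _⟩)
    have h1 : Smooth ((Spec.map φ).fiberToSpecResidueField p) :=
      MorphismProperty.of_isPullback (isPullback_fiberToSpecResidueField_of_isPullback hpb p) h0
    rw [← RingHom.smooth_algebraMap, ← CommRingCat.hom_ofHom (algebraMap (q.asIdeal.under A).ResidueField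
      ((q.asIdeal.under A).Fiber B)), ← HasRingHomProperty.Spec_iff (P := @Smooth),
      ← MorphismProperty.arrow_mk_iso_iff (P := @Smooth) (Spec.fiberToSpecResidueFieldIso A B ⟨q.asIdeal.under A, inferInstance⟩)]
    exact h1
  have hd : ringKrullDim ((q.asIdeal.under A).Fiber B) ≤ topologicalKrullDim ↥(G.hom.base ⁻¹' {s}) := by
    have h := GrothLib.FibreDimAt6.dim_trace (A := B) (R := A) G.hom hW.fromSpec hV.fromSpec sq ⟨q.asIdeal.under A, inferInstance⟩
    rw [← h, show hV.fromSpec ⟨q.asIdeal.under A, inferInstance⟩ = s from hps]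
    exact (IsEmbedding.inclusion Set.inter_subset_right).isInducing.topologicalKrullDim_le
  obtain ⟨n, hn, h, hhq, hcov⟩ := exists_standardSmooth_cover q.asIdeal hsm _ hd
  -- the chart as a closed subscheme of a smooth scheme
  let D := G.left.basicOpen h
  have hD : IsAffineOpen D := hW.basicOpen h
  have hDW : D ≤ W := G.left.basicOpen_le h
  letI : Algebra B Γ(G.left, D) := (G.left.presheaf.map (homOfLE hDW).op).hom.toAlgebra
  haveI : IsLocalization.Away h Γ(G.left, D) := hW.isLocalization_basicOpen h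
  obtain ⟨C, _, _, ψ, hC, hψ, hψA⟩ := hcov Γ(G.left, D)
  have heD : e ∈ D := by
    have h1 : hW.fromSpec q ∈ D := by
      rw [← Scheme.Hom.mem_preimage (f := hW.fromSpec), hW.fromSpec_preimage_basicOpen]; exact hhq
    rwa [hqe] at h1
  let g₀ := Spec.map (CommRingCat.ofHom (algebraMap A C))
  haveI : Algebra.IsStandardSmooth A C := Algebra.IsStandardSmoothOfRelativeDimension.isStandardSmooth n
  haveI : Smooth g₀ := (HasRingHomProperty.Spec_iff (P := @Smooth)).mpr
    (RingHom.smooth_algebraMap.mpr inferInstance)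
  let f := g₀ ≫ hV.fromSpec
  let ψ' : CommRingCat.of C ⟶ Γ(G.left, D) := CommRingCat.ofHom ψ
  haveI : IsClosedImmersion (Spec.map ψ') := IsClosedImmersion.spec_of_surjective _ hψ
  let i : D.toScheme ⟶ Spec (CommRingCat.of C) := hD.isoSpec.hom ≫ Spec.map ψ'
  have hif : i ≫ f = D.ι ≫ G.hom := by
    have hc : CommRingCat.ofHom (algebraMap A C) ≫ ψ' = G.hom.appLE V D (hDW.trans hWV) := by
      rw [← G.hom.appLE_map hWV (homOfLE hDW).op]
      exact CommRingCat.hom_ext hψA
    simp only [i, f, g₀]
    rw [Category.assoc, ← Category.assoc (Spec.map ψ'), ← Spec.map_comp, hc,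
      hV.SpecMap_appLE_fromSpec G.hom hD, ← Category.assoc, hD.isoSpec_hom_fromSpec]
  haveI : IsReduced (Spec (CommRingCat.of C)) := GrothLib.RedSmooth.isReduced_of_smooth f
  -- the section
  let V' : S.Opens := η[G].left ⁻¹ᵁ D
  let σ₀ : V'.toScheme ⟶ D.toScheme := IsOpenImmersion.lift D.ι (V'.ι ≫ η[G].left) (by
    rintro _ ⟨v, rfl⟩
    exact ⟨⟨_, v.2⟩, rfl⟩)
  have hσ₀ : σ₀ ≫ D.ι = V'.ι ≫ η[G].left := IsOpenImmersion.lift_fac _ _ _
  let σ₁ := σ₀ ≫ i
  have hσ₁ : σ₁ ≫ f = V'.ι := by
    simp only [σ₁]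
    rw [Category.assoc, hif, ← Category.assoc, hσ₀, Category.assoc, Over.w η[G]]
    exact Category.comp_id _
  have hσpt : ∀ t : V', D.ι (σ₀ t) = η[G].left t.1 := fun t => by
    rw [← Scheme.Hom.comp_apply, hσ₀]; rfl
  let e' : D.toScheme := ⟨e, heD⟩
  have he' : σ₀ ⟨s, heD⟩ = e' := D.ι.isOpenEmbedding.injective (hσpt ⟨s, heD⟩)
  let σ' : V'.toScheme ⟶ (f ⁻¹ᵁ V').toScheme := IsOpenImmersion.lift (f ⁻¹ᵁ V').ι σ₁ (by
    rintro _ ⟨v, rfl⟩
    refine ⟨⟨σ₁ v, ?_⟩, rfl⟩
    change f (σ₁ v) ∈ V'
    rw [← Scheme.Hom.comp_apply, hσ₁]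
    exact v.2)
  have hσ' : σ' ≫ (f ⁻¹ᵁ V').ι = σ₁ := IsOpenImmersion.lift_fac _ _ _
  have hσ'f : σ' ≫ (f ∣_ V') = 𝟙 _ := by
    rw [← cancel_mono V'.ι, Category.assoc, morphismRestrict_ι, ← Category.assoc, hσ', hσ₁, Category.id_comp]
  -- all generizations of the unit point lie in the chart
  have key : ∀ x, x ⤳ i e' → x ∈ Set.range i := by
    intro x hx
    have hfe : f (i e') = s := by
      rw [← Scheme.Hom.comp_apply, hif, Scheme.Hom.comp_apply]
      exact hom_unit G s
    have hxV : f x ∈ V' := (hfe ▸ hx.map f.continuous).mem_open V'.2 heD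
    let x₁ : (f ⁻¹ᵁ V').toScheme := ⟨x, hxV⟩
    have hx₁ : x₁ ⤳ σ' ⟨s, heD⟩ := by
      rw [← (f ⁻¹ᵁ V').ι.isEmbedding.isInducing.specializes_iff, ← Scheme.Hom.comp_apply, hσ']
      change x ⤳ (σ₀ ≫ i) _
      rw [Scheme.Hom.comp_apply, he']
      exact hx
    obtain ⟨ξ₁, hξf, hξx, hξσ⟩ := exists_generization_section (f ∣_ V') σ' hσ'f hx₁
    let t : S := f x
    let tV : V' := (f ∣_ V') x₁
    have htV : V'.ι tV = t := by
      rw [← Scheme.Hom.comp_apply, morphismRestrict_ι]; rfl
    let ξ := (f ⁻¹ᵁ V').ι ξ₁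
    have hξt : f ξ = t := by
      rw [← htV, ← Scheme.Hom.comp_apply, ← morphismRestrict_ι, Scheme.Hom.comp_apply, hξf]
    have hξσ₁ : ξ ⤳ σ₁ tV := by
      have := hξσ.map (f ⁻¹ᵁ V').ι.continuous
      rwa [← Scheme.Hom.comp_apply σ', hσ'] at this
    have hξx₁ : ξ ⤳ x := hξx.map (f ⁻¹ᵁ V').ι.continuous
    suffices hmem : ξ ∈ Set.range i from hξx₁.mem_closed i.isClosedEmbedding.isClosed_range hmem
    -- the fibres over `t`
    let st := S.fromSpecResidueField t
    let pt : Spec (S.residueField t) := IsLocalRing.closedPoint (S.residueField t)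
    let Gt := Red.bc st G
    haveI : LocallyOfFiniteType Gt.hom := inferInstanceAs (LocallyOfFiniteType (pullback.snd G.hom st))
    let Pt := pullback f st
    let it : pullback i (pullback.fst f st) ⟶ Pt := pullback.snd i (pullback.fst f st)
    let j : pullback i (pullback.fst f st) ⟶ pullback G.hom st :=
      pullback.lift (pullback.fst i _ ≫ D.ι) (it ≫ pullback.snd f st) (by
        rw [Category.assoc, Category.assoc, ← pullback.condition (f := f), ← Category.assoc it,
          ← pullback.condition (f := i), Category.assoc, hif])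
    have hjpb : IsPullback (pullback.fst i (pullback.fst f st)) j D.ι (pullback.fst G.hom st) := by
      refine IsPullback.of_bot ?_ (pullback.lift_fst _ _ _).symm (IsPullback.of_hasPullback G.hom st)
      have := (IsPullback.of_hasPullback i (pullback.fst f st)).paste_vert (IsPullback.of_hasPullback f st)
      rw [hif] at this
      convert this using 1
      exact pullback.lift_snd _ _ _
    haveI : IsOpenImmersion j := MorphismProperty.of_isPullback (P := @IsOpenImmersion) hjpb inferInstance
    let stV : Spec (S.residueField t) ⟶ V'.toScheme := IsOpenImmersion.lift V'.ι st (by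
      rintro _ ⟨v, rfl⟩
      rw [S.fromSpecResidueField_apply]
      exact ⟨tV, htV⟩)
    have hstV : stV ≫ V'.ι = st := IsOpenImmersion.lift_fac _ _ _
    have hstpt : stV pt = tV := V'.ι.isOpenEmbedding.injective (by
      rw [← Scheme.Hom.comp_apply, hstV, htV]; exact S.fromSpecResidueField_apply t _)
    let uP : Spec (S.residueField t) ⟶ Pt := pullback.lift (stV ≫ σ₁) (𝟙 _) (by
      rw [Category.assoc, hσ₁, hstV, Category.id_comp])
    let uD : Spec (S.residueField t) ⟶ pullback i (pullback.fst f st) := pullback.lift (stV ≫ σ₀) uP (by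
      rw [pullback.lift_fst, Category.assoc])
    have hu : uD ≫ j = fibUnit G t := by
      apply pullback.hom_ext
      · rw [Category.assoc, pullback.lift_fst, ← Category.assoc, pullback.lift_fst, Category.assoc, hσ₀,
          ← Category.assoc, hstV]
        exact (fibUnit_fiberι G t).symm
      · rw [Category.assoc, pullback.lift_snd, ← Category.assoc, pullback.lift_snd, pullback.lift_snd]
        exact (fibUnit_snd G t).symm
    have hclosed : ∀ {X : Scheme.{u}} (π : X ⟶ Spec (S.residueField t)) [IsSeparated π]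
        (u : Spec (S.residueField t) ⟶ X), u ≫ π = 𝟙 _ → IsClosed ({u pt} : Set X) := by
      intro X π _ u hu
      haveI : IsClosedImmersion (u ≫ π) := by rw [hu]; infer_instance
      haveI : IsClosedImmersion u := IsClosedImmersion.of_comp u π
      haveI : Subsingleton (Spec (S.residueField t)) :=
        inferInstanceAs (Subsingleton (PrimeSpectrum (S.residueField t)))
      have : Set.range u = {u pt} := Set.ext fun z =>
        ⟨fun ⟨v, hv⟩ => hv ▸ congrArg u (Subsingleton.elim v pt), fun hz => ⟨pt, hz.symm⟩⟩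
      rw [← this]
      exact u.isClosedEmbedding.isClosed_range
    haveI : IsSeparated Gt.hom := GrothLib.GrpSchField.isSeparated (K := S.residueField t) Gt
    haveI : IsSeparated (pullback.snd f st) := MorphismProperty.pullback_snd _ _ inferInstance
    have hst_le : t ⤳ s := hfe ▸ hx.map f.continuous
    have hdimt : topologicalKrullDim ↥(G.hom.base ⁻¹' {t}) = topologicalKrullDim ↥(G.hom.base ⁻¹' {s}) :=
      hst_le.mem_open (hdim.isOpen_fiber (topologicalKrullDim ↥(G.hom.base ⁻¹' {s}))) rfl
    -- dimensions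
    have hle : (n : WithBot ℕ∞) ≤ ringKrullDim ((pullback i (pullback.fst f st)).presheaf.stalk (uD pt)) := by
      haveI : IsIso (j.stalkMap (uD pt)) := inferInstance
      rw [← ringKrullDim_eq_of_ringEquiv (asIso (j.stalkMap (uD pt))).commRingCatIsoToRingEquiv,
        ← Scheme.Hom.comp_apply, hu]
      have h2 := GrothLib.GrpSchField.ringKrullDim_stalk_eq Gt (g := fibUnit G t pt)
        (hclosed Gt.hom (fibUnit G t) (fibUnit_snd G t))
      have h3 : topologicalKrullDim Gt.left = topologicalKrullDim ↥(G.hom.base ⁻¹' {s}) :=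
        (dim_fibre_eq G.hom t).trans hdimt
      exact hn.trans (h3.ge.trans h2.ge)
    have htop : topologicalKrullDim Pt ≤ n := by
      obtain ⟨p', hp'⟩ : t ∈ Set.range hV.fromSpec := by
        rw [← hξt]; exact ⟨g₀ ξ, rfl⟩
      refine (dim_fibre_eq f t).le.trans ?_
      rw [← hp']
      exact dim_fibre_le_of_isStandardSmooth n hV.fromSpec p'
    obtain ⟨ξ', hξ'⟩ : ξ ∈ Set.range (pullback.fst f st) := by
      rw [show Set.range (pullback.fst f st) = f ⁻¹' {t} from f.range_fiberι t]; exact hξt
    have hit : it (uD pt) = uP pt := by rw [← Scheme.Hom.comp_apply, pullback.lift_snd]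
    have hspec : ξ' ⤳ it (uD pt) := by
      rw [hit, ← (f.fiberι t).isEmbedding.isInducing.specializes_iff]
      change pullback.fst f st ξ' ⤳ pullback.fst f st (uP pt)
      rw [hξ', ← Scheme.Hom.comp_apply, pullback.lift_fst, Scheme.Hom.comp_apply, hstpt]
      exact hξσ₁
    haveI : Smooth (pullback.snd f st) := MorphismProperty.pullback_snd _ _ inferInstance
    obtain ⟨z, hz⟩ := mem_range_of_dim_le (K := S.residueField t) (pullback.snd f st) it (uD pt)
      (by rw [hit]; exact hclosed (pullback.snd f st) uP (pullback.lift_snd _ _ _)) n htop hle hspec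
    refine ⟨pullback.fst i (pullback.fst f st) z, ?_⟩
    rw [← Scheme.Hom.comp_apply, pullback.condition, Scheme.Hom.comp_apply, ← hξ', ← hz]
  have hbij := stalkMap_bijective_of_generizations i e' key
  haveI : LocallyOfFinitePresentation (D.ι ≫ G.hom) := inferInstance
  change D.ι e' ∈ G.hom.smoothLocus
  rw [← Scheme.Hom.mem_preimage (f := D.ι), Scheme.Hom.preimage_smoothLocus_eq, Scheme.Hom.mem_smoothLocus]
  have hfs : (f.stalkMap (i e')).hom.FormallySmooth := by
    have := f.smoothLocus_eq_top.ge (Set.mem_univ (i e'))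
    exact this
  suffices h : ((i ≫ f).stalkMap e').hom.FormallySmooth by
    have e : ∀ (g g' : D.toScheme ⟶ S), g = g' → (g.stalkMap e').hom.FormallySmooth → (g'.stalkMap e').hom.FormallySmooth := by
      rintro g _ rfl h; exact h
    exact e _ _ hif h
  rw [Scheme.Hom.stalkMap_comp, CommRingCat.hom_comp]
  exact RingHom.FormallySmooth.respectsIso.1 _ (RingEquiv.ofBijective _ hbij) hfs

end GrothLib.Neutral
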