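import Groth.Agent.Lib.Neutral.Pairs
import Groth.Agent.Lib.NormalSmooth.Basic
import Mathlib.AlgebraicGeometry.ValuativeCriterion
import Mathlib.AlgebraicGeometry.Morphisms.Smooth

/-!
Generizations of a unit point of a smooth group scheme lie in the neutral components.
-/

universe u

open CategoryTheory CategoryTheory.Limits MonoidalCategory CartesianMonoidalCategory MonObj GrpObj
open AlgebraicGeometry Topology

set_option backward.isDefEq.respectTransparency false

namespace GrothLib.Neutral

/-- Over a normal domain, two generizations of a point of a smooth scheme have a common generization. -/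
theorem exists_common_generization {A : Type u} [CommRing A] [IsDomain A] [IsIntegrallyClosed A]
    {P : Scheme.{u}} (f : P ⟶ Spec (CommRingCat.of A)) [Smooth f] {x y e : P} (hx : x ⤳ e) (hy : y ⤳ e) :
    ∃ ξ : P, ξ ⤳ x ∧ ξ ⤳ y := by
  obtain ⟨_, ⟨(U : P.Opens), hU, rfl⟩, heU, -⟩ := P.isBasis_affineOpens.exists_subset_of_mem_open
    (Set.mem_univ e) isOpen_univ
  obtain ⟨φ, hφ⟩ := Spec.map_surjective (hU.fromSpec ≫ f)
  haveI : Smooth (Spec.map φ) := by rw [hφ]; infer_instance
  have hsm : φ.hom.Smooth := (HasRingHomProperty.Spec_iff (P := @Smooth)).mp inferInstance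
  let E : Type u := Γ(P, U)
  let _ : Algebra A E := φ.hom.toAlgebra
  haveI : Algebra.Smooth A E := hsm
  obtain ⟨px, rfl⟩ : x ∈ Set.range hU.fromSpec := by rw [hU.range_fromSpec]; exact hx.mem_open U.2 heU
  obtain ⟨py, rfl⟩ : y ∈ Set.range hU.fromSpec := by rw [hU.range_fromSpec]; exact hy.mem_open U.2 heU
  obtain ⟨q, rfl⟩ : e ∈ Set.range hU.fromSpec := by rw [hU.range_fromSpec]; exact heU
  rw [hU.fromSpec.isOpenEmbedding.isInducing.specializes_iff] at hx hy
  let pxs : PrimeSpectrum E := px
  let pys : PrimeSpectrum E := py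
  let qs : PrimeSpectrum E := q
  have hx' : pxs ≤ qs := (PrimeSpectrum.le_iff_specializes pxs qs).mpr hx
  have hy' : pys ≤ qs := (PrimeSpectrum.le_iff_specializes pys qs).mpr hy
  haveI := (GrothLib.NormalSmooth.normal_of_smooth_domain A (E := E) qs.asIdeal).1
  let p0 : Ideal E := RingHom.ker (algebraMap E (Localization.AtPrime qs.asIdeal))
  haveI hp0 : p0.IsPrime := RingHom.ker_isPrime _
  have hle : ∀ p : PrimeSpectrum E, p ≤ qs → p0 ≤ p.asIdeal := fun p hp a ha => by
    obtain ⟨⟨m, hm⟩, hma⟩ := (IsLocalization.map_eq_zero_iff qs.asIdeal.primeCompl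
      (Localization.AtPrime qs.asIdeal) a).mp (RingHom.mem_ker.mp ha)
    exact (p.2.mem_or_mem (show m * a ∈ p.asIdeal by rw [hma]; exact zero_mem _)).resolve_left
      fun h => hm (hp h)
  let ξ : PrimeSpectrum E := ⟨p0, hp0⟩
  exact ⟨hU.fromSpec ξ, ((PrimeSpectrum.le_iff_specializes ξ pxs).mp (hle _ hx')).map hU.fromSpec.continuous,
    ((PrimeSpectrum.le_iff_specializes ξ pys).mp (hle _ hy')).map hU.fromSpec.continuous⟩

variable {S : Scheme.{u}} (G : Over S) [GrpObj G] [Smooth G.hom]

theorem mem_neutralSet_of_specializes {x : G.left} {s : S} (h : x ⤳ η[G].left s) :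
    x ∈ SGA3x.neutralSet G := by
  let e := η[G].left s
  let φ : G.left.presheaf.stalk e ⟶ G.left.residueField x :=
    G.left.presheaf.stalkSpecializes h ≫ G.left.residue x
  obtain ⟨A, hA, hA_local⟩ := IsLocalRing.exists_factor_valuationRing φ.hom
  let ψ : G.left.presheaf.stalk e ⟶ CommRingCat.of A := CommRingCat.ofHom (φ.hom.codRestrict _ hA)
  let ℓ : Spec (CommRingCat.of A) ⟶ G.left := Spec.map ψ ≫ G.left.fromSpecStalk e
  let ι₀ := Spec.map (CommRingCat.ofHom (algebraMap A (G.left.residueField x)))
  have hℓx : ι₀ ≫ ℓ = G.left.fromSpecResidueField x := by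
    rw [Scheme.fromSpecResidueField, ← Scheme.SpecMap_stalkSpecializes_fromSpecStalk h]
    simp only [ι₀, ℓ, ← Spec.map_comp_assoc]
    rfl
  let gen : Spec (CommRingCat.of A) := ι₀ (IsLocalRing.closedPoint _)
  let cl : Spec (CommRingCat.of A) := IsLocalRing.closedPoint A
  have hgen : ℓ gen = x := by
    rw [← Scheme.Hom.comp_apply, hℓx]
    exact G.left.fromSpecResidueField_apply x _
  have hcl : ℓ cl = e := by
    have : Spec.map ψ cl = IsLocalRing.closedPoint (G.left.presheaf.stalk e) :=
      IsLocalRing.comap_closedPoint (S := A) (φ.hom.codRestrict A.toSubring hA)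
    simp only [ℓ, Scheme.Hom.comp_apply, this, G.left.fromSpecStalk_closedPoint]
  have hgenmin : ∀ p : Spec (CommRingCat.of A), p ⤳ gen → p = gen := by
    intro p hp
    have hp' := (PrimeSpectrum.le_iff_specializes (p : PrimeSpectrum A) (gen : PrimeSpectrum A)).mpr hp
    refine PrimeSpectrum.ext (le_antisymm hp' fun a ha => ?_)
    have ha0 : algebraMap A (G.left.residueField x) a = 0 := by
      have : a ∈ Ideal.comap (algebraMap A (G.left.residueField x))
        (IsLocalRing.closedPoint (G.left.residueField x)).asIdeal := ha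
      have h2 : algebraMap A (G.left.residueField x) a ∈ IsLocalRing.maximalIdeal (G.left.residueField x) := this
      rwa [IsLocalRing.maximalIdeal_eq_bot, Ideal.mem_bot] at h2
    rw [show a = 0 from Subtype.ext ha0]
    exact zero_mem _
  -- base change along `Spec A ⟶ S`
  let σ := ℓ ≫ G.hom
  let P := pullback G.hom σ
  let x' : Spec (CommRingCat.of A) ⟶ P := pullback.lift ℓ (𝟙 _) (by simp [σ])
  let ε' : Spec (CommRingCat.of A) ⟶ P := pullback.lift (σ ≫ η[G].left) (𝟙 _) (by
    rw [Category.assoc, Over.w η[G]]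
    simp [σ])
  have heq : x' cl = ε' cl := by
    let L := IsLocalRing.ResidueField A
    let r : Spec (CommRingCat.of L) ⟶ Spec (CommRingCat.of A) :=
      Spec.map (CommRingCat.ofHom (IsLocalRing.residue A))
    have hr : ∀ z, r z = cl := fun z => by
      have : z = IsLocalRing.closedPoint L := Subsingleton.elim (α := PrimeSpectrum L) _ _
      subst this
      exact IsLocalRing.comap_closedPoint (IsLocalRing.residue A)
    haveI : IsImmersion η[G].left :=
      GrothLib.GrpSchField.unit_property (G := G) @IsImmersion inferInstance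
    obtain ⟨k, hk⟩ := GrothLib.SepAct.exists_lift_of_mem_range η[G].left (r ≫ ℓ) (by
      rw [Scheme.Hom.comp_apply, hr, hcl]
      exact ⟨s, rfl⟩)
    have hk' : k = r ≫ σ := by
      have := hk =≫ G.hom
      rw [Category.assoc, Over.w η[G]] at this
      exact ((Category.comp_id k).symm.trans this).trans (Category.assoc _ _ _)
    have hc : r ≫ x' = r ≫ ε' := by
      apply pullback.hom_ext
      · rw [Category.assoc, Category.assoc, pullback.lift_fst, pullback.lift_fst, ← hk, hk', Category.assoc]
      · rw [Category.assoc, Category.assoc, pullback.lift_snd, pullback.lift_snd]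
    rw [← hr (IsLocalRing.closedPoint L), ← Scheme.Hom.comp_apply, ← Scheme.Hom.comp_apply, hc]
  have hspec : gen ⤳ cl := IsLocalRing.specializes_closedPoint _
  obtain ⟨ξ, hξx, hξε⟩ := exists_common_generization (pullback.snd G.hom σ)
    (hspec.map x'.continuous) (heq ▸ hspec.map ε'.continuous : ε' gen ⤳ x' cl)
  have hx's : pullback.snd G.hom σ (x' gen) = gen := by
    rw [← Scheme.Hom.comp_apply, pullback.lift_snd]; rfl
  have hε's : pullback.snd G.hom σ (ε' gen) = gen := by
    rw [← Scheme.Hom.comp_apply, pullback.lift_snd]; rfl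
  have hξgen : pullback.snd G.hom σ ξ = gen :=
    hgenmin _ (hx's ▸ hξx.map (pullback.snd G.hom σ).continuous)
  let C : Set P := closure {ξ} ∩ (pullback.snd G.hom σ) ⁻¹' {gen}
  have hC : _root_.IsPreconnected C := isPreconnected_singleton.subset_closure
    (Set.singleton_subset_iff.mpr ⟨subset_closure rfl, hξgen⟩) Set.inter_subset_left
  rw [mem_neutralSet_iff]
  refine (hC.image _ (pullback.fst G.hom σ).continuous.continuousOn).subset_connectedComponentIn
    ⟨ε' gen, ⟨hξε.mem_closure, hε's⟩, ?_⟩ ?_ ⟨x' gen, ⟨hξx.mem_closure, hx's⟩, ?_⟩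
  · rw [← Scheme.Hom.comp_apply, pullback.lift_fst, Scheme.Hom.comp_apply, Scheme.Hom.comp_apply, hgen]
    rfl
  · rintro _ ⟨v, ⟨-, hv⟩, rfl⟩
    have hvg : pullback.snd G.hom σ v = gen := hv
    rw [Set.mem_preimage, Set.mem_singleton_iff, ← Scheme.Hom.comp_apply, pullback.condition,
      Scheme.Hom.comp_apply, hvg, Scheme.Hom.comp_apply, hgen]
  · rw [← Scheme.Hom.comp_apply, pullback.lift_fst, hgen]

end GrothLib.Neutral
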