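import Groth.Agent.Lib.Neutral.OpenSubgroup
import Groth.Agent.Lib.Neutral.Constructible
import Groth.Agent.Lib.FibreLocus.Hom
import Mathlib.AlgebraicGeometry.Morphisms.UniversallyOpen

/-!
Images of the neutral components under homomorphisms and flatness of homomorphisms.
-/

universe u

open CategoryTheory CategoryTheory.Limits MonoidalCategory CartesianMonoidalCategory MonObj GrpObj
open AlgebraicGeometry Topology

set_option backward.isDefEq.respectTransparency false

namespace GrothLib.Neutral

open GrothLib.SepAct (left_apply left_apply₂)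

variable {S : Scheme.{u}} (G H : Over S) [GrpObj G] [GrpObj H]
  [LocallyOfFinitePresentation G.hom] [LocallyOfFinitePresentation H.hom] (u : G ⟶ H) [IsMonHom u]

/-- An open of a group scheme whose trace on a fibre is the neutral component. -/
theorem exists_open_trace (s : S) :
    ∃ W : G.left.Opens, (W : Set G.left) ∩ G.hom ⁻¹' {s} = SGA3x.neutralSet G ∩ G.hom ⁻¹' {s} := by
  let K := Red.bc (S.fromSpecResidueField s) G
  haveI : LocallyOfFiniteType K.hom := MorphismProperty.pullback_snd _ _ inferInstance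
  have ho : IsOpen (fibComp G s) := by
    change IsOpen (connectedComponent (α := ↥K.left) (fibUnit G s _ : K.left))
    rw [GrothLib.GrpSchField.connectedComponent_eq_irreducibleComponent K]
    exact GrothLib.GrpSchField.isOpen_of_mem_irreducibleComponents K
      (irreducibleComponent_mem_irreducibleComponents _)
  obtain ⟨O, hO, hO'⟩ := (G.hom.fiberι s).isEmbedding.isInducing.isOpen_iff.mp ho
  refine ⟨⟨O, hO⟩, ?_⟩
  rw [← image_fibComp, ← hO', Set.image_preimage_eq_inter_range, G.hom.range_fiberι]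
  rfl

/-- A flat homomorphism maps the neutral components onto the neutral components. -/
theorem image_neutralSet_of_flat [Flat u.left] : u.left '' SGA3x.neutralSet G = SGA3x.neutralSet H := by
  haveI := GrothLib.FibreLocus.lfp_left u
  refine Set.Subset.antisymm (image_neutralSet_subset H G u) fun h hh => ?_
  let s := H.hom h
  let k := S.fromSpecResidueField s
  let ψ := ((Over.pullback k).map u).left
  have sq := GrothLib.FibreLocus.isPullback_map_left u k
  haveI : Flat ψ := MorphismProperty.of_isPullback sq.flip inferInstance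
  haveI : LocallyOfFinitePresentation ψ := MorphismProperty.of_isPullback sq.flip inferInstance
  obtain ⟨W, hW⟩ := exists_open_trace G s
  obtain ⟨V, hV, hV'⟩ := (H.hom.fiberι s).isEmbedding.isInducing.isOpen_iff.mp
    (ψ.isOpenMap _ (W.2.preimage (G.hom.fiberι s).continuous))
  have hψ : ∀ v, H.hom.fiberι s (ψ v) = u.left (G.hom.fiberι s v) := fun v => by
    exact congr($(sq.w) v)
  have hVs : ∀ y ∈ V, H.hom y = s → ∃ w ∈ W, u.left w = y := by
    intro y hy hys
    obtain ⟨v, rfl⟩ : y ∈ Set.range (H.hom.fiberι s) := by rw [H.hom.range_fiberι]; exact hys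
    obtain ⟨w, hw, rfl⟩ := hV'.le hy
    exact ⟨_, hw, (hψ w).symm⟩
  have heV : η[H].left s ∈ V := by
    obtain ⟨v, hv⟩ : η[G].left s ∈ Set.range (G.hom.fiberι s) := by
      rw [G.hom.range_fiberι]; exact hom_unit G s
    have hvW : G.hom.fiberι s v ∈ W := (hW.ge (by rw [hv]; exact ⟨unit_mem_neutralSet G s, hom_unit G s⟩)).1
    have := hV'.ge ⟨v, hvW, rfl⟩
    rw [Set.mem_preimage, hψ, hv, map_unit H G u] at this
    exact this
  obtain ⟨q, h₁, h₂, rfl⟩ := exists_pair H h hh
    (MorphismProperty.pullback_snd _ _ inferInstance) ⟨V, hV⟩ heV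
  let J : pullback (W.ι ≫ G.hom) (W.ι ≫ G.hom) ⟶ (H ⊗ H).left :=
    pullback.map _ _ H.hom H.hom (W.ι ≫ u.left) (W.ι ≫ u.left) (𝟙 _) (by simp) (by simp)
  have hJ : Set.range J = _ := Scheme.Pullback.range_map _ _ H.hom H.hom (W.ι ≫ u.left) (W.ι ≫ u.left) (𝟙 _)
    (by simp) (by simp)
  have hqs : ∀ f : H ⊗ H ⟶ H, H.hom (f.left q) = s := fun f => by
    change H.hom (f.left q) = H.hom (μ[H].left q)
    rw [← Scheme.Hom.comp_apply, ← Scheme.Hom.comp_apply, Over.w, Over.w]
  obtain ⟨v, rfl⟩ : q ∈ Set.range J := by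
    rw [hJ]
    obtain ⟨a, ha, ha'⟩ := hVs _ h₁ (hqs _)
    obtain ⟨b, hb, hb'⟩ := hVs _ h₂ (hqs _)
    exact ⟨⟨⟨a, ha⟩, ha'⟩, ⟨⟨b, hb⟩, hb'⟩⟩
  let J' : pullback (W.ι ≫ G.hom) (W.ι ≫ G.hom) ⟶ (G ⊗ G).left :=
    pullback.map _ _ G.hom G.hom W.ι W.ι (𝟙 _) (by simp) (by simp)
  have hJJ' : J' ≫ (u ⊗ₘ u).left = J := by
    apply pullback.hom_ext
    · rw [Category.assoc]
      change J' ≫ (u ⊗ₘ u).left ≫ (fst H H).left = _
      rw [← Over.comp_left, tensorHom_fst, Over.comp_left]
      change J' ≫ pullback.fst G.hom G.hom ≫ u.left = _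
      rw [← Category.assoc, pullback.lift_fst, pullback.lift_fst, Category.assoc]
    · rw [Category.assoc]
      change J' ≫ (u ⊗ₘ u).left ≫ (snd H H).left = _
      rw [← Over.comp_left, tensorHom_snd, Over.comp_left]
      change J' ≫ pullback.snd G.hom G.hom ≫ u.left = _
      rw [← Category.assoc, pullback.lift_snd, pullback.lift_snd, Category.assoc]
  have hGs : ∀ f : G ⊗ G ⟶ G, G.hom (f.left (J' v)) = s := fun f => by
    have e : G.hom (f.left (J' v)) = (H ⊗ H).hom (J v) := by
      rw [← Scheme.Hom.comp_apply, Over.w f, ← Over.w (u ⊗ₘ u), Scheme.Hom.comp_apply,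
        ← Scheme.Hom.comp_apply J', hJJ']
    rw [e, ← Over.w μ[H], Scheme.Hom.comp_apply]
  have hWN : ∀ w : G.left, w ∈ W → G.hom w = s → w ∈ SGA3x.neutralSet G := fun w hw hws =>
    (hW.le ⟨hw, hws⟩).1
  have hp₁ : (fst G G).left (J' v) ∈ W := by
    rw [← Scheme.Hom.comp_apply, show J' ≫ (fst G G).left = pullback.fst _ _ ≫ W.ι from pullback.lift_fst _ _ _]
    exact (pullback.fst (W.ι ≫ G.hom) (W.ι ≫ G.hom) v).2
  have hp₂ : (snd G G).left (J' v) ∈ W := by
    rw [← Scheme.Hom.comp_apply, show J' ≫ (snd G G).left = pullback.snd _ _ ≫ W.ι from pullback.lift_snd _ _ _]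
    exact (pullback.snd (W.ι ≫ G.hom) (W.ι ≫ G.hom) v).2
  refine ⟨μ[G].left (J' v), mul_mem_neutralSet G _ (MorphismProperty.pullback_snd _ _ inferInstance)
    (hWN _ hp₁ (hGs _)) (hWN _ hp₂ (hGs _)), ?_⟩
  rw [← hJJ', Scheme.Hom.comp_apply]
  exact left_apply₂ (IsMonHom.mul_hom (f := u)) _

/-- A homomorphism from a flat group onto the neutral components of a group with reduced fibres is flat. -/
theorem flat_of_image_neutralSet [Flat G.hom] (hred : ∀ s : S, IsReduced (H.hom.fiber s))
    (himg : u.left '' SGA3x.neutralSet G = SGA3x.neutralSet H) : Flat u.left := by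
  haveI := GrothLib.FibreLocus.lfp_left u
  haveI := GrothLib.AlgSp.descendsAlong_flat_fpqc.{u}
  refine (Flat.iff_flat_stalkMap u.left).mpr fun x => GrothLib.FibreLocus.flat_at_of_fibre u x ?_
  let s := G.hom x
  let k := S.fromSpecResidueField s
  rw [GrothLib.FibreLocus.prop_fibre_iff (P := @Flat)]
  let ψ := (Over.pullback k).map u
  letI : GrpObj ((Over.pullback k).obj G) := Functor.grpObjObj
  letI : GrpObj ((Over.pullback k).obj H) := Functor.grpObjObj
  haveI : IsMonHom ψ := inferInstanceAs (IsMonHom ((Over.pullback k).map u))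
  haveI : LocallyOfFiniteType ((Over.pullback k).obj G).hom :=
    inferInstanceAs (LocallyOfFiniteType (pullback.snd G.hom k))
  haveI : LocallyOfFinitePresentation ψ.left :=
    MorphismProperty.of_isPullback (GrothLib.FibreLocus.isPullback_map_left u k).flip inferInstance
  haveI : IsReduced ((Over.pullback k).obj H).left := hred s
  have hψ : ∀ v, H.hom.fiberι s (ψ.left v) = u.left (G.hom.fiberι s v) := fun v => by
    exact congr($((GrothLib.FibreLocus.isPullback_map_left u k).w) v)
  -- the generic points of the neutral components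
  have hirr : ∀ (K : Over S) [GrpObj K] [LocallyOfFinitePresentation K.hom],
      fibComp K s ∈ irreducibleComponents ↥(K.hom.fiber s) := fun K _ _ => by
    let K' := Red.bc (S.fromSpecResidueField s) K
    haveI : LocallyOfFiniteType K'.hom := MorphismProperty.pullback_snd _ _ inferInstance
    have h := GrothLib.GrpSchField.connectedComponent_eq_irreducibleComponent K'
      (fibUnit K s (IsLocalRing.closedPoint (S.residueField s)))
    change connectedComponent (α := ↥K'.left) _ ∈ irreducibleComponents ↥K'.left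
    rw [h]
    exact irreducibleComponent_mem_irreducibleComponents _
  obtain ⟨ξ, hξ⟩ := QuasiSober.sober (hirr G).1 isClosed_connectedComponent
  obtain ⟨ζ, hζ⟩ := QuasiSober.sober (hirr H).1 isClosed_connectedComponent
  have hξmem : G.hom.fiberι s ξ ∈ SGA3x.neutralSet G ∩ G.hom ⁻¹' {s} := by
    rw [← image_fibComp]; exact ⟨ξ, hξ.mem, rfl⟩
  have hζξ : ψ.left ξ = ζ := by
    have h1 : ψ.left ξ ∈ fibComp H s := by
      have h2 : u.left (G.hom.fiberι s ξ) ∈ SGA3x.neutralSet H ∩ H.hom ⁻¹' {s} := by
        refine ⟨himg.le ⟨_, hξmem.1, rfl⟩, ?_⟩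
        rw [Set.mem_preimage, ← Scheme.Hom.comp_apply, Over.w u]
        exact hξmem.2
      rw [← image_fibComp, ← hψ] at h2
      obtain ⟨w, hw, hwe⟩ := h2
      rwa [(H.hom.fiberι s).isEmbedding.injective hwe] at hw
    refine ((hζ.specializes h1).antisymm ?_).eq.symm
    obtain ⟨g, hg, hgu⟩ := himg.ge (show H.hom.fiberι s ζ ∈ SGA3x.neutralSet H from
      ((image_fibComp H s).le ⟨ζ, hζ.mem, rfl⟩).1)
    have hgs : G.hom g = s := by
      rw [← Over.w u, Scheme.Hom.comp_apply, hgu]
      exact ((image_fibComp H s).le ⟨ζ, hζ.mem, rfl⟩).2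
    obtain ⟨w, hw, rfl⟩ := (image_fibComp G s).ge ⟨hg, hgs⟩
    rw [← hψ] at hgu
    rw [← (H.hom.fiberι s).isEmbedding.injective hgu]
    exact (hξ.specializes hw).map ψ.left.continuous
  have hmax : ∀ y, y ⤳ ψ.left ξ → y = ψ.left ξ := fun y hy => by
    rw [hζξ] at hy ⊢
    have hsub : fibComp H s ⊆ closure {y} := by
      rw [← hζ.def]
      exact closure_minimal (Set.singleton_subset_iff.mpr (specializes_iff_mem_closure.mp hy)) isClosed_closure
    have heq : fibComp H s = closure {y} := (hirr H).eq_of_le isIrreducible_singleton.closure hsub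
    exact (hy.antisymm (hζ.specializes (heq.ge (subset_closure rfl)))).eq
  -- flatness at the generic point
  have hflat : (ψ.left.stalkMap ξ).hom.Flat := by
    haveI : Subsingleton (PrimeSpectrum (((Over.pullback k).obj H).left.presheaf.stalk (ψ.left ξ))) := ⟨fun p q => by
      apply (((Over.pullback k).obj H).left.fromSpecStalk (ψ.left ξ)).isEmbedding.injective
      rw [hmax _ (Scheme.range_fromSpecStalk.le ⟨p, rfl⟩), hmax _ (Scheme.range_fromSpecStalk.le ⟨q, rfl⟩)]⟩
    have hfield : IsField (((Over.pullback k).obj H).left.presheaf.stalk (ψ.left ξ)) := by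
      rw [IsLocalRing.isField_iff_maximalIdeal_eq, eq_bot_iff]
      intro a ha
      have hnil : IsNilpotent a := nilpotent_iff_mem_prime.mpr fun P hP => by
        have := congrArg PrimeSpectrum.asIdeal (Subsingleton.elim
          (⟨P, hP⟩ : PrimeSpectrum (((Over.pullback k).obj H).left.presheaf.stalk (ψ.left ξ))) (IsLocalRing.closedPoint _))
        change P = _ at this
        rw [this]; exact ha
      rw [Ideal.mem_bot]
      exact hnil.eq_zero
    letI := hfield.toField
    letI := (ψ.left.stalkMap ξ).hom.toAlgebra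
    change Module.Flat (((Over.pullback k).obj H).left.presheaf.stalk (ψ.left ξ)) _
    infer_instance
  let U : ((Over.pullback k).obj G).left.Opens := ⟨_, GrothLib.FibreFlat.isOpen_flat_stalkMap ψ.left⟩
  refine GrothLib.FibreLocus.prop_of_nhd @Flat ψ U ⟨ξ, hflat⟩ ?_
  exact Flat.of_stalkMap _ fun z =>
    (GrothLib.LocProp.stalkMap_comp_ι_iff RingHom.Flat.respectsIso _ ψ.left z).mpr z.2

end GrothLib.Neutral
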