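import Groth.Agent.Lib.Neutral.Generization
import Groth.Agent.Lib.Neutral.Constructible
import Groth.Agent.Lib.Neutral.OpenSubgroup
import Groth.Agent.Lib.Neutral.OpenPart
import Mathlib.AlgebraicGeometry.Morphisms.FlatDescent

/-!
The neutral components of a smooth group scheme form a quasi-compact open subgroup.
-/

universe u

open CategoryTheory CategoryTheory.Limits MonoidalCategory CartesianMonoidalCategory MonObj GrpObj
open AlgebraicGeometry Topology

set_option backward.isDefEq.respectTransparency false

namespace GrothLib.Neutral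

variable {S : Scheme.{u}} (G : Over S) [GrpObj G] [Smooth G.hom]

theorem isOpen_neutralSet : IsOpen (SGA3x.neutralSet G) := by
  have hG : ∀ s : S, LocallyOfFiniteType (G.hom.fiberToSpecResidueField s) :=
    fun s => MorphismProperty.pullback_snd _ _ inferInstance
  let E := SGA3x.neutralSet G
  let W : G.left.Opens := ⟨interior E, isOpen_interior⟩
  have hW : ∀ s : S, η[G].left s ∈ W := fun s =>
    (GrothLib.Constr.mem_interior_iff (isIndConstructible_neutralSet G)).mpr
      fun x hx => mem_neutralSet_of_specializes G hx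
  haveI : Smooth μ[G].left := GrothLib.GrpSchField.mul_property (G := G) @Smooth inferInstance
  have hμ : IsOpenMap μ[G].left := μ[G].left.isOpenMap
  suffices h : E = μ[G].left '' ((fst G G).left ⁻¹' (W : Set G.left) ∩ (snd G G).left ⁻¹' (W : Set G.left)) by
    change IsOpen E
    rw [h]
    exact hμ _ ((W.2.preimage (fst G G).left.continuous).inter (W.2.preimage (snd G G).left.continuous))
  refine Set.Subset.antisymm (fun g hg => ?_) ?_
  · obtain ⟨q, h₁, h₂, hq⟩ := exists_pair G g hg (hG _) W (hW _)
    exact ⟨q, ⟨h₁, h₂⟩, hq⟩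
  · rintro _ ⟨q, ⟨h₁, h₂⟩, rfl⟩
    exact mul_mem_neutralSet G q (hG _) (interior_subset h₁) (interior_subset h₂)

theorem exists_neutralPart :
    ∃ (G0 : Over S) (_ : GrpObj G0) (i : G0 ⟶ G), IsMonHom i ∧ IsOpenImmersion i.left ∧
      Set.range i.left.base = SGA3x.neutralSet G ∧ Smooth G0.hom ∧ QuasiCompact G0.hom := by
  have hG : ∀ s : S, LocallyOfFiniteType (G.hom.fiberToSpecResidueField s) :=
    fun s => MorphismProperty.pullback_snd _ _ inferInstance
  let U : G.left.Opens := ⟨SGA3x.neutralSet G, isOpen_neutralSet G⟩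
  obtain ⟨_, hi⟩ := exists_grpObj_openPart G U (unit_mem_neutralSet G)
    (fun q h₁ h₂ => mul_mem_neutralSet G q (hG _) h₁ h₂) (fun g hg => inv_mem_neutralSet G hg)
  refine ⟨openPart G U, inferInstance, openPartι G U, hi, inferInstanceAs (IsOpenImmersion U.ι),
    Scheme.Opens.range_ι U, inferInstanceAs (Smooth (U.ι ≫ G.hom)), ?_⟩
  haveI : IsOpenImmersion (openPartι G U).left := inferInstanceAs (IsOpenImmersion U.ι)
  haveI : Smooth (openPart G U).hom := inferInstanceAs (Smooth (U.ι ≫ G.hom))
  refine quasiCompact_of_connected_fibres (openPart G U)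
    (fun s => MorphismProperty.pullback_snd _ _ inferInstance) fun s => ?_
  have h := image_neutralSet_eq G (openPart G U) (openPartι G U) hG
  have huniv : ∀ v : U.toScheme, v ∈ SGA3x.neutralSet (openPart G U) := fun v => by
    obtain ⟨w, hw, hwv⟩ := h.ge (show U.ι v ∈ SGA3x.neutralSet G from v.2)
    rwa [U.ι.isOpenEmbedding.injective hwv] at hw
  rw [← Set.univ_inter ((openPart G U).hom ⁻¹' {s}), ← Set.eq_univ_of_forall huniv, neutralSet_inter_fibre]
  exact isPreconnected_connectedComponentIn

end GrothLib.Neutral
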