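import Groth.Agent.Lib.Neutral.Basic
import Groth.Agent.Lib.SepAct.Saturate

/-!
Every point of the neutral component of a fibre is a product of two points in any given open around
the unit; consequently the neutral components lie in quasi-compact opens.
-/

universe u

open CategoryTheory CategoryTheory.Limits MonoidalCategory CartesianMonoidalCategory MonObj GrpObj
open AlgebraicGeometry Topology

set_option backward.isDefEq.respectTransparency false

namespace GrothLib.Neutral

open GrothLib.SepAct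

variable {S : Scheme.{u}} (G : Over S) [GrpObj G]

theorem lft_snd {K : Type u} [Field K] (b : Spec (CommRingCat.of K) ⟶ S) {s : S}
    (hs : b (IsLocalRing.closedPoint K) = s) (hG : LocallyOfFiniteType (G.hom.fiberToSpecResidueField s)) :
    LocallyOfFiniteType (pullback.snd G.hom b) := by
  subst hs
  obtain ⟨π, β, -, -, -, -, h1⟩ := exists_fibreMap b G
  exact MorphismProperty.of_isPullback h1 hG

/-- A point of the neutral component is the product of two points of a neighbourhood of the unit. -/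
theorem exists_pair (g : G.left) (hg : g ∈ SGA3x.neutralSet G)
    (hG : LocallyOfFiniteType (G.hom.fiberToSpecResidueField (G.hom g)))
    (W : G.left.Opens) (hW : η[G].left (G.hom g) ∈ W) :
    ∃ q : ↥(G ⊗ G).left, (fst G G).left q ∈ W ∧ (snd G G).left q ∈ W ∧ μ[G].left q = g := by
  let K := AlgebraicClosure (G.left.residueField g)
  let f : Spec (CommRingCat.of K) ⟶ G.left :=
    Spec.map (CommRingCat.ofHom (algebraMap (G.left.residueField g) K)) ≫ G.left.fromSpecResidueField g
  let pt : Spec (CommRingCat.of K) := IsLocalRing.closedPoint K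
  have hfg : f pt = g := by
    simp only [f, Scheme.Hom.comp_apply]
    exact G.left.fromSpecResidueField_apply g _
  let b : Spec (CommRingCat.of K) ⟶ S := f ≫ G.hom
  have hbp : b pt = G.hom g := by rw [Scheme.Hom.comp_apply, hfg]
  haveI := lft_snd G b hbp hG
  let T := Over.mk b
  let z : T ⟶ G := Over.homMk f
  have hfst : ∀ h : T ⟶ G, (fst G T).left (ptOf b h) = h.left pt := fun h =>
    left_apply (lift_fst h (𝟙 T)) _
  have hz : ptOf b z ∈ unitComp b G := by
    rw [← preimage_neutralSet_eq_unitComp, Set.mem_preimage, hfst]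
    change f pt ∈ _
    rwa [hfg]
  let A : (G ⊗ T).left.Opens := (fst G T).left ⁻¹ᵁ W
  have he : ptOf b (1 : T ⟶ G) ∈ A := by
    change (fst G T).left (ptOf b (1 : T ⟶ G)) ∈ W
    rw [hfst, Hom.one_def, Over.comp_left, Scheme.Hom.comp_apply]
    change η[G].left (b pt) ∈ W
    rw [hbp]
    exact hW
  let ψ := (lift (fst G T)⁻¹ (snd G T) ≫ (transL T z).hom)
  have hψ : ∀ d, ψ.left (ptOf b d) = ptOf b (z * d⁻¹) := fun d =>
    map_ptOf b _ _ _ (by simp [ψ, T, transL, comp_lift, comp_lift_assoc, MonObj.comp_mul, GrpObj.comp_inv])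
  obtain ⟨d, -, hdA, hdψ⟩ := exists_ptOf_mem b
    ((isOpen_component b _).inter (A.2.inter (A.2.preimage ψ.left.continuous))).isLocallyClosed
    (isIrreducible_irreducibleComponent.2 _ _ A.2 (A.2.preimage ψ.left.continuous) ⟨_, mem_irreducibleComponent, he⟩
      ⟨ptOf b z, hz, by rw [Set.mem_preimage, hψ, mul_inv_cancel]; exact he⟩)
  rw [Set.mem_preimage, hψ] at hdψ
  refine ⟨(lift (z * d⁻¹) d).left pt, ?_, ?_, ?_⟩
  · rw [left_apply (lift_fst _ _), ← hfst]
    exact hdψ
  · rw [left_apply (lift_snd _ _), ← hfst]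
    exact hdA
  · rw [left_apply (show lift (z * d⁻¹) d ≫ μ[G] = z by rw [← Hom.mul_def, inv_mul_cancel_right])]
    exact hfg

/-- Over a quasi-compact quasi-separated open of the base the neutral components lie in a
quasi-compact open. -/
theorem exists_isCompact_supset (hG : ∀ s : S, LocallyOfFiniteType (G.hom.fiberToSpecResidueField s))
    (S₀ : S.Opens) (hS₀ : IsCompact (S₀ : Set S)) [QuasiSeparatedSpace S₀.toScheme] :
    ∃ U : G.left.Opens, IsCompact (U : Set G.left) ∧ U ≤ G.hom ⁻¹ᵁ S₀ ∧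
      SGA3x.neutralSet G ∩ G.hom ⁻¹' S₀ ⊆ U := by
  classical
  have key : ∀ C : Set G.left, IsCompact C → C ⊆ G.hom ⁻¹' S₀ →
      ∃ U : G.left.Opens, IsCompact (U : Set G.left) ∧ U ≤ G.hom ⁻¹ᵁ S₀ ∧ C ⊆ U := by
    intro C hC hCS
    have hcov : C ⊆ ⋃ A : {A : G.left.affineOpens // A.1 ≤ G.hom ⁻¹ᵁ S₀}, (A.1.1 : Set G.left) := by
      intro x hx
      obtain ⟨_, ⟨A, hA, rfl⟩, hxA, hAS⟩ := G.left.isBasis_affineOpens.exists_subset_of_mem_open
        (show x ∈ G.hom ⁻¹ᵁ S₀ from hCS hx) (G.hom ⁻¹ᵁ S₀).2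
      exact Set.mem_iUnion.mpr ⟨⟨⟨A, hA⟩, hAS⟩, hxA⟩
    obtain ⟨I, hI⟩ := hC.elim_finite_subcover _ (fun A => A.1.1.2) hcov
    refine ⟨⨆ A ∈ I, A.1.1, ?_, iSup₂_le fun A _ => A.2, ?_⟩
    · simp only [TopologicalSpace.Opens.coe_iSup]
      exact Finset.isCompact_biUnion _ fun A _ => A.1.2.isCompact
    · simp only [TopologicalSpace.Opens.coe_iSup]
      exact hI
  obtain ⟨W, hWc, hWS, hWe⟩ := key (η[G].left '' (S₀ : Set S)) (hS₀.image η[G].left.continuous) (by
    rintro _ ⟨s, hs, rfl⟩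
    change G.hom (η[G].left s) ∈ S₀
    rw [hom_unit]
    exact hs)
  haveI : CompactSpace W.toScheme := isCompact_iff_compactSpace.mp hWc
  let P : Set ↥(G ⊗ G).left := (fst G G).left ⁻¹' (W : Set G.left) ∩ (snd G G).left ⁻¹' (W : Set G.left)
  have hP : IsCompact P := by
    have hf : Set.range (W.ι ≫ G.hom) ⊆ Set.range S₀.ι := by
      rintro _ ⟨w, rfl⟩
      rw [Scheme.Opens.range_ι]
      exact hWS w.2
    let f₀ := IsOpenImmersion.lift S₀.ι (W.ι ≫ G.hom) hf
    haveI : QuasiCompact (f₀ ≫ S₀.toScheme.toSpecΓ) := (quasiCompact_iff_compactSpace _).mpr inferInstance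
    haveI : QuasiCompact f₀ := QuasiCompact.of_comp f₀ S₀.toScheme.toSpecΓ
    haveI : CompactSpace ↥(pullback f₀ f₀) := inferInstance
    let J := pullback.map f₀ f₀ G.hom G.hom W.ι W.ι S₀.ι (IsOpenImmersion.lift_fac ..) (IsOpenImmersion.lift_fac ..)
    have hJ : Set.range J = _ := Scheme.Pullback.range_map f₀ f₀ G.hom G.hom W.ι W.ι S₀.ι
      (IsOpenImmersion.lift_fac ..) (IsOpenImmersion.lift_fac ..)
    have h := isCompact_range J.continuous
    rw [hJ, Scheme.Opens.range_ι] at h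
    exact h
  obtain ⟨U, hUc, hUS, hU⟩ := key (μ[G].left '' P) (hP.image μ[G].left.continuous) (by
    rintro _ ⟨q, ⟨hq, -⟩, rfl⟩
    change G.hom (μ[G].left q) ∈ S₀
    rw [← Scheme.Hom.comp_apply, Over.w μ[G], ← Over.w (fst G G), Scheme.Hom.comp_apply]
    exact hWS hq)
  refine ⟨U, hUc, hUS, fun g ⟨hg, hgS⟩ => ?_⟩
  obtain ⟨q, h₁, h₂, rfl⟩ := exists_pair G g hg (hG _) W (hWe ⟨_, hgS, rfl⟩)
  exact hU ⟨q, ⟨h₁, h₂⟩, rfl⟩

theorem quasiCompact_of_connected_fibres (hG : ∀ s : S, LocallyOfFiniteType (G.hom.fiberToSpecResidueField s))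
    (hconn : ∀ s : S, _root_.IsPreconnected (G.hom ⁻¹' {s})) : QuasiCompact G.hom := by
  rw [quasiCompact_iff_forall_isAffineOpen]
  intro S₀ hS₀
  haveI : IsAffine S₀.toScheme := hS₀
  obtain ⟨U, hU, hUS, hsub⟩ := exists_isCompact_supset G hG S₀ hS₀.isCompact
  have hall : ∀ g, g ∈ SGA3x.neutralSet G := fun g => by
    rw [mem_neutralSet_iff]
    exact (hconn _).subset_connectedComponentIn (hom_unit G _) subset_rfl rfl
  convert hU using 1
  exact Set.Subset.antisymm (fun g hg => hsub ⟨hall g, hg⟩) hUS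

end GrothLib.Neutral
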