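import Groth.Agent.Lib.Neutral.ArtinHom
import Groth.Agent.Lib.Neutral.NilLiftAlg

/-!
Properties of schemes and morphisms over a local artinian ring detected on the special fibre.
-/

universe u

open CategoryTheory CategoryTheory.Limits AlgebraicGeometry TopologicalSpace Topology
open TensorProduct

set_option backward.isDefEq.respectTransparency false

noncomputable section

namespace GrothLib.Neutral

variable {A : Type u} [CommRing A] [IsArtinianRing A] [IsLocalRing A]

/-- The special fibre of an affine chart. -/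
theorem exists_chart (X : Over (Spec (CommRingCat.of A))) {U : X.left.Opens} (hU : IsAffineOpen U)
    [Algebra A Γ(X.left, U)]
    (halg : Spec.map (CommRingCat.ofHom (algebraMap A Γ(X.left, U))) = hU.fromSpec ≫ X.hom) :
    ∃ e : Spec (CommRingCat.of (Γ(X.left, U) ⊗[A] IsLocalRing.ResidueField A)) ⟶ pullback X.hom (closedPt A),
      IsOpenImmersion e ∧
      e ≫ pullback.fst X.hom (closedPt A) =
        Spec.map (CommRingCat.ofHom (Algebra.TensorProduct.includeLeftRingHom (R := A))) ≫ hU.fromSpec := by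
  let K := IsLocalRing.ResidueField A
  have hK : closedPt A = Spec.map (CommRingCat.ofHom (algebraMap A K)) := rfl
  let j : pullback (Spec.map (CommRingCat.ofHom (algebraMap A Γ(X.left, U))))
      (Spec.map (CommRingCat.ofHom (algebraMap A K))) ⟶ pullback X.hom (closedPt A) :=
    pullback.map _ _ _ _ hU.fromSpec (𝟙 _) (𝟙 _) (by rw [Category.comp_id, halg]) (by rw [hK, Category.comp_id, Category.id_comp])
  refine ⟨(pullbackSpecIso A Γ(X.left, U) K).inv ≫ j, inferInstance, ?_⟩
  rw [Category.assoc, pullback.lift_fst, ← Category.assoc]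
  exact congrArg (· ≫ hU.fromSpec) (pullbackSpecIso_inv_fst A Γ(X.left, U) K)

theorem exists_algebra (X : Over (Spec (CommRingCat.of A))) {U : X.left.Opens} (hU : IsAffineOpen U) :
    ∃ a : A →+* Γ(X.left, U), Spec.map (CommRingCat.ofHom a) = hU.fromSpec ≫ X.hom := by
  obtain ⟨a, ha⟩ := Spec.map_surjective (hU.fromSpec ≫ X.hom)
  exact ⟨a.hom, ha⟩

/-- The kernel of `C → C ⊗ k` is `m C`. -/
theorem mem_map_of_tmul_eq_zero {C : Type u} [CommRing C] [Algebra A C] {c : C}
    (h : c ⊗ₜ[A] (1 : IsLocalRing.ResidueField A) = 0) : c ∈ (IsLocalRing.maximalIdeal A).map (algebraMap A C) := by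
  rw [← Ideal.Quotient.eq_zero_iff_mem]
  apply (Algebra.TensorProduct.quotIdealMapEquivTensorQuot C (IsLocalRing.maximalIdeal A)).injective
  rw [map_zero]
  refine Eq.trans ?_ h
  exact Algebra.TensorProduct.quotIdealMapEquivTensorQuot_mk _ _ _

theorem isNilpotent_map {C : Type u} [CommRing C] [Algebra A C] :
    IsNilpotent ((IsLocalRing.maximalIdeal A).map (algebraMap A C)) := by
  obtain ⟨k, hk⟩ := IsArtinianRing.isNilpotent_jacobson_bot (R := A)
  rw [IsLocalRing.jacobson_eq_maximalIdeal ⊥ bot_ne_top] at hk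
  exact ⟨k, by rw [← Ideal.map_pow, hk, Ideal.zero_eq_bot, Ideal.map_bot]; rfl⟩

theorem locallyOfFiniteType_of_red (X : Over (Spec (CommRingCat.of A)))
    (h : LocallyOfFiniteType (pullback.snd X.hom (closedPt A))) : LocallyOfFiniteType X.hom := by
  refine IsZariskiLocalAtSource.of_iSup_eq_top (P := @LocallyOfFiniteType) (fun U : X.left.affineOpens => U.1)
    (iSup_affineOpens_eq_top _) fun ⟨U, hU⟩ => ?_
  obtain ⟨a, ha⟩ := exists_algebra X hU
  let C : Type u := Γ(X.left, U)
  letI : Algebra A C := a.toAlgebra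
  obtain ⟨e, he, he1⟩ := exists_chart X hU ha
  have h1 : LocallyOfFiniteType (Spec.map (CommRingCat.ofHom
      (algebraMap A (C ⊗[A] IsLocalRing.ResidueField A)))) := by
    have h2 : LocallyOfFiniteType (e ≫ pullback.snd X.hom (closedPt A) ≫ closedPt A) := inferInstance
    have e2 : Spec.map (CommRingCat.ofHom (algebraMap A (C ⊗[A] IsLocalRing.ResidueField A))) =
        e ≫ pullback.snd X.hom (closedPt A) ≫ closedPt A := by
      rw [← pullback.condition, ← Category.assoc, he1, Category.assoc, ← ha, ← Spec.map_comp]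
      rfl
    rw [e2]; exact h2
  haveI hft : Algebra.FiniteType A (C ⊗[A] IsLocalRing.ResidueField A) :=
    RingHom.finiteType_algebraMap.mp ((HasRingHomProperty.Spec_iff (P := @LocallyOfFiniteType)).mp h1)
  let I := IsLocalRing.maximalIdeal A
  let eq := ((Algebra.TensorProduct.quotIdealMapEquivTensorQuot C I).restrictScalars A).symm
  have hC : Algebra.FiniteType A C := GrothLib.Neutral.finiteType_of_nilpotent (I := I)
    (by obtain ⟨k, hk⟩ := IsArtinianRing.isNilpotent_jacobson_bot (R := A)
        rw [IsLocalRing.jacobson_eq_maximalIdeal ⊥ bot_ne_top] at hk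
        exact ⟨k, hk⟩) (Algebra.FiniteType.equiv hft eq)
  have h3 : LocallyOfFiniteType (Spec.map (CommRingCat.ofHom (algebraMap A C))) :=
    (HasRingHomProperty.Spec_iff (P := @LocallyOfFiniteType)).mpr (RingHom.finiteType_algebraMap.mpr hC)
  rw [show Spec.map (CommRingCat.ofHom (algebraMap A C)) = hU.fromSpec ≫ X.hom from ha,
    ← hU.isoSpec_inv_ι, Category.assoc] at h3
  exact (MorphismProperty.cancel_left_of_respectsIso @LocallyOfFiniteType hU.isoSpec.inv _).mp h3

theorem isClosedImmersion_of_red {X Y : Over (Spec (CommRingCat.of A))} (u : X ⟶ Y)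
    (h : IsClosedImmersion (pullback.fst X.hom (closedPt A) ≫ u.left)) : IsClosedImmersion u.left := by
  rw [isClosedImmersion_iff_isAffineHom]
  haveI : IsAffineHom (pullback.fst X.hom (closedPt A) ≫ u.left) := inferInstance
  haveI haff : IsAffineHom u.left := (GrothLib.Thickening.isAffineHom_comp_iff _ u.left).mp ‹_›
  refine ⟨inferInstance, fun V hV => ?_⟩
  let f := pullback.fst X.hom (closedPt A)
  let U := u.left ⁻¹ᵁ V
  have hU : IsAffineOpen U := hV.preimage u.left
  let C : Type u := Γ(X.left, U)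
  let B : Type u := Γ(Y.left, V)
  obtain ⟨b, hb⟩ := exists_algebra Y hV
  letI : Algebra A B := b.toAlgebra
  letI : Algebra B C := (u.left.app V).hom.toAlgebra
  letI : Algebra A C := ((algebraMap B C).comp b).toAlgebra
  haveI : IsScalarTower A B C := IsScalarTower.of_algebraMap_eq fun _ => rfl
  have ha : Spec.map (CommRingCat.ofHom (algebraMap A C)) = hU.fromSpec ≫ X.hom := by
    rw [← Over.w u, ← Category.assoc]
    have h1 : hU.fromSpec ≫ u.left = Spec.map (u.left.app V) ≫ hV.fromSpec := by
      rw [Scheme.Hom.app_eq_appLE]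
      exact (hV.SpecMap_appLE_fromSpec u.left hU le_rfl).symm
    rw [h1, Category.assoc, ← hb, ← Spec.map_comp]
    rfl
  obtain ⟨e, he, he1⟩ := exists_chart X hU ha
  have hker : ∀ c : C, f.app U c = 0 → c ⊗ₜ[A] (1 : IsLocalRing.ResidueField A) = 0 := by
    intro c hc
    have hpre : (⊤ : (Spec (CommRingCat.of (C ⊗[A] IsLocalRing.ResidueField A))).Opens) ≤ (e ≫ f) ⁻¹ᵁ U := by
      rw [he1, Scheme.Hom.comp_preimage, hU.fromSpec_preimage_self]
      exact le_of_eq rfl
    have h1 : (e ≫ f).appLE U ⊤ hpre c = 0 := by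
      rw [Scheme.Hom.comp_appLE, CommRingCat.comp_apply, hc, map_zero]
    let φ : CommRingCat.of C ⟶ CommRingCat.of (C ⊗[A] IsLocalRing.ResidueField A) :=
      CommRingCat.ofHom (Algebra.TensorProduct.includeLeftRingHom (R := A))
    have h2 : (Spec.map φ ≫ hU.fromSpec).appLE U ⊤ (he1 ▸ hpre) =
        φ ≫ (Scheme.ΓSpecIso _).inv := by
      rw [Scheme.Hom.comp_appLE, hU.fromSpec_app_self, Category.assoc, Scheme.Hom.map_appLE]
      exact (congrArg (_ ≫ ·) (Scheme.Hom.app_eq_appLE (Spec.map φ) (U := ⊤)).symm).trans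
        (Scheme.ΓSpecIso_inv_naturality φ).symm
    have h3 : (Spec.map φ ≫ hU.fromSpec).appLE U ⊤ (he1 ▸ hpre) c = 0 := by
      have key : ∀ g, g = e ≫ f → ∀ p : ⊤ ≤ g ⁻¹ᵁ U, g.appLE U ⊤ p c = 0 := by
        rintro g rfl p; exact h1
      exact key _ he1.symm _
    rw [h2, CommRingCat.comp_apply] at h3
    exact (Scheme.ΓSpecIso _).commRingCatIsoToRingEquiv.symm.injective (h3.trans (map_zero _).symm)
  have hsurj : Function.Surjective ((f ≫ u.left).app V) := (isClosedImmersion_iff_isAffineHom.mp h).2 V hV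
  intro c
  refine GrothLib.Neutral.surjective_of_nilpotent (Algebra.ofId B C) (I := (IsLocalRing.maximalIdeal A).map (algebraMap A B))
    isNilpotent_map (fun x => ?_) c
  obtain ⟨p, hp⟩ := hsurj (f.app U x)
  refine ⟨p, ?_⟩
  rw [Ideal.map_map, ← IsScalarTower.algebraMap_eq]
  refine mem_map_of_tmul_eq_zero (hker _ ?_)
  rw [map_sub, sub_eq_zero, ← hp, Scheme.Hom.comp_app, CommRingCat.comp_apply]
  rfl

theorem isImmersion_of_red {X Y : Over (Spec (CommRingCat.of A))} (u : X ⟶ Y)
    (h : IsImmersion ((Over.pullback (closedPt A)).map u).left) : IsImmersion u.left := by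
  let f := pullback.fst X.hom (closedPt A)
  haveI := h
  haveI hfu : IsImmersion (f ≫ u.left) := by rw [← red_w]; infer_instance
  have hr : Set.range (f ≫ u.left) = Set.range u.left := by
    change Set.range (u.left ∘ f) = _
    exact f.surjective.range_comp _
  have hlc : IsLocallyClosed (Set.range u.left) := hr ▸ Scheme.Hom.isLocallyClosed_range (f ≫ u.left)
  let O : Y.left.Opens := ⟨coborder (Set.range u.left), hlc.isOpen_coborder⟩
  have hO : Set.range u.left ⊆ Set.range O.ι := by
    rw [Scheme.Opens.range_ι]; exact subset_coborder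
  let Y' : Over (Spec (CommRingCat.of A)) := Over.mk (O.ι ≫ Y.hom)
  let u' : X ⟶ Y' := Over.homMk (IsOpenImmersion.lift O.ι u.left hO)
    (by change IsOpenImmersion.lift O.ι u.left hO ≫ O.ι ≫ Y.hom = X.hom
        rw [IsOpenImmersion.lift_fac_assoc, Over.w u])
  have hu' : u'.left ≫ O.ι = u.left := IsOpenImmersion.lift_fac _ _ _
  haveI : IsPreimmersion ((f ≫ u'.left) ≫ O.ι) := by rw [Category.assoc, hu']; infer_instance
  haveI : IsPreimmersion (f ≫ u'.left) := IsPreimmersion.of_comp _ O.ι
  have hcl : IsClosed (Set.range (f ≫ u'.left)) := by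
    have h1 : Set.range (f ≫ u'.left) = O.ι ⁻¹' Set.range u.left := by
      rw [show Set.range (f ≫ u'.left) = Set.range u'.left from f.surjective.range_comp u'.left,
        ← hu']
      change _ = O.ι ⁻¹' Set.range (O.ι ∘ u'.left)
      rw [Set.range_comp, Set.preimage_image_eq _ O.ι.isEmbedding.injective]
    rw [h1]
    exact isClosed_preimage_val_coborder
  haveI : IsClosedImmersion u'.left :=
    isClosedImmersion_of_red u' (IsClosedImmersion.of_isPreimmersion (f ≫ u'.left) hcl)
  rw [← hu']
  infer_instance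

end GrothLib.Neutral
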